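import Groth.Agent.Lib.HyperH28.Cosk
import Mathlib.CategoryTheory.Limits.Constructions.Over.Basic

/-!
# A hypercovering of an object is a hypercovering of the final object over it
-/

set_option autoImplicit false
set_option backward.isDefEq.respectTransparency false
set_option backward.isDefEq.respectTransparency.types false

universe u

open CategoryTheory CategoryTheory.Limits Opposite

noncomputable section

namespace Groth.Agent.HyperH28

section ZeroCosk

variable {C : Type u} [SmallCategory C] (J : GrothendieckTopology C) (K : SimplicialObject (FormalCoproduct.{u} C))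
  [∀ (F : (SimplexCategory.Truncated 0)ᵒᵖ ⥤ FormalCoproduct.{u} C),
      (SimplexCategory.Truncated.inclusion 0).op.HasRightKanExtension F]

/-- Two points of `K₀` on the two vertices of an edge. -/
def edgeFamily {U : C} (a b : Pt U (K.obj (op (SimplexCategory.mk 0)))) :
    (SimplicialObject.truncation 0).obj (simplexFC U 1) ⟶ (SimplicialObject.truncation 0).obj K where
  app l :=
    let hl : l.unop.obj = SimplexCategory.mk 0 := SimplexCategory.ext (Nat.le_zero.1 l.unop.property)
    { f := fun e => ((if ((eqToHom hl.symm ≫ e.down).toOrderHom 0 : Fin 2) = 0 then a else b) ≫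
        K.map (eqToHom hl).op).f PUnit.unit
      φ := fun e => ((if ((eqToHom hl.symm ≫ e.down).toOrderHom 0 : Fin 2) = 0 then a else b) ≫
        K.map (eqToHom hl).op).φ PUnit.unit }
  naturality l l' g := by
    obtain ⟨⟨x, hx⟩⟩ := l
    obtain ⟨⟨y, hy⟩⟩ := l'
    obtain rfl : x = SimplexCategory.mk 0 := SimplexCategory.ext (Nat.le_zero.1 hx)
    obtain rfl : y = SimplexCategory.mk 0 := SimplexCategory.ext (Nat.le_zero.1 hy)
    haveI : Subsingleton (SimplexCategory.mk 0 ⟶ SimplexCategory.mk 0) :=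
      ⟨fun p q => SimplexCategory.Hom.ext _ _ (OrderHom.ext _ _ (funext fun i => Subsingleton.elim (α := Fin 1) _ _))⟩
    have hg : g = 𝟙 _ := by
      apply Quiver.Hom.unop_inj
      exact InducedCategory.hom_ext (Subsingleton.elim _ _)
    subst hg
    rw [CategoryTheory.Functor.map_id, CategoryTheory.Functor.map_id, Category.id_comp, Category.comp_id]

theorem simplexPt_edgeFamily {U : C} (a b : Pt U (K.obj (op (SimplexCategory.mk 0))))
    (g : SimplexCategory.mk 0 ⟶ SimplexCategory.mk 1) :
    simplexPt U g ≫ (edgeFamily K a b).app (op ⟨SimplexCategory.mk 0, le_refl 0⟩) =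
      if (g.toOrderHom 0 : Fin 2) = 0 then a else b := by
  refine (pt_comp _ _ _).trans ?_
  rw [Category.id_comp]
  refine (pt_eta ((if ((eqToHom (rfl : SimplexCategory.mk 0 = SimplexCategory.mk 0).symm ≫ g).toOrderHom 0 : Fin 2) = 0 then a else b) ≫ K.map (eqToHom (rfl : SimplexCategory.mk 0 = SimplexCategory.mk 0)).op)).trans ?_
  simp

theorem exists_edge (hK : Hyper.IsSRCovering J
      (((SimplicialObject.coskAdj 0).unit.app K).app (op (SimplexCategory.mk 1))))
    (U : C) (a b : Pt U (K.obj (op (SimplexCategory.mk 0)))) : ∃ S : Sieve U, S ∈ J U ∧ ∀ ⦃V : C⦄ (g : V ⟶ U), S g →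
    ∃ c : Pt V (K.obj (op (SimplexCategory.mk 1))), c ≫ K.δ (1 : Fin 2) = res g a ∧ c ≫ K.δ (0 : Fin 2) = res g b := by
  obtain ⟨c, hc⟩ := exists_coskPt 0 ((SimplicialObject.truncation 0).obj K) (edgeFamily K a b)
  refine ⟨_, (isSRCovering_iff J _).1 hK U c, fun V g ⟨t, ht⟩ => ⟨t, ?_, ?_⟩⟩
  · refine (face_of_lift 0 K g (edgeFamily K a b) c t ht hc 0 le_rfl (SimplexCategory.δ (1 : Fin 2))).trans ?_
    rw [simplexPt_edgeFamily, if_pos (by decide)]
  · refine (face_of_lift 0 K g (edgeFamily K a b) c t ht hc 0 le_rfl (SimplexCategory.δ (0 : Fin 2))).trans ?_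
    rw [simplexPt_edgeFamily, if_neg (by decide)]

end ZeroCosk

variable {C : Type u} [SmallCategory C] (J : GrothendieckTopology C) (X : C)
  (K : SimplicialObject (FormalCoproduct.{u} (Over X)))
  [∀ (n : ℕ) (F : (SimplexCategory.Truncated n)ᵒᵖ ⥤ FormalCoproduct.{u} (Over X)),
      (SimplexCategory.Truncated.inclusion n).op.HasRightKanExtension F]

theorem isZeroOneCover_of_hypercovering (hK : Hyper.IsHypercovering J X K) :
    IsZeroOneCover (J.over X) K where
  zero U := by
    refine ⟨(Sieve.overEquiv U).symm ((Sieve.ofArrows (fun i => ((K.obj (op (SimplexCategory.mk 0))).obj i).left)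
      (fun i => ((K.obj (op (SimplexCategory.mk 0))).obj i).hom)).pullback U.hom), ?_, ?_⟩
    · exact GrothendieckTopology.overEquiv_symm_mem_over J U _ (J.pullback_stable U.hom hK.1)
    · intro V g hg
      rw [Sieve.overEquiv_symm_iff, Sieve.pullback_apply, Sieve.mem_ofArrows_iff] at hg
      obtain ⟨i, a, ha⟩ := hg
      exact ⟨pt i (Over.homMk a (by rw [← ha, Over.w]))⟩
  one := exists_edge (J.over X) K (hK.2 0)

theorem isHypercoveringSite_over (hK : Hyper.IsHypercovering J X K) : Hyper.IsHypercoveringSite (J.over X) K := by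
  have h := isZeroOneCover_of_hypercovering J X K hK
  refine ⟨⟨fun {U} x => ?_⟩, ⟨fun {U} x => ?_⟩, fun n _ => isLocallySurjective_of_isSRCovering _ _ (hK.2 n)⟩
  · obtain ⟨S, hS, hS'⟩ := h.zero U
    refine (J.over X).superset_covering ?_ hS
    intro V g hg
    obtain ⟨s⟩ := hS' g hg
    refine ⟨el s, ?_⟩
    exact @Subsingleton.elim _ (Types.isTerminalEquivUnique _
      (terminalIsTerminal.isTerminalObj ((evaluation (Over X)ᵒᵖ (Type u)).obj (op V)) _)).instSubsingleton _ _
  · let P := FormalCoproduct.yoneda.obj (K.obj (op (SimplexCategory.mk 0)))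
    obtain ⟨a, ha⟩ := el_surjective ((prod.fst : P ⨯ P ⟶ P).app (op U) x)
    obtain ⟨b, hb⟩ := el_surjective ((prod.snd : P ⨯ P ⟶ P).app (op U) x)
    obtain ⟨S, hS, hS'⟩ := h.one U a b
    refine (J.over X).superset_covering ?_ hS
    intro V g hg
    obtain ⟨c, hc1, hc0⟩ := hS' g hg
    refine ⟨el c, ?_⟩
    refine Concrete.isLimit_ext _ (isLimitOfPreserves ((evaluation (Over X)ᵒᵖ (Type u)).obj (op V)) (prodIsProd P P)) _ _
      fun ⟨j⟩ => ?_
    cases j
    · refine (ConcreteCategory.congr_hom (NatTrans.congr_app (prod.lift_fst (FormalCoproduct.yoneda.map (K.δ (1 : Fin 2))) (FormalCoproduct.yoneda.map (K.δ (0 : Fin 2)))) (op V)) (el c)).trans ?_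
      rw [← el_comp, hc1, el_res, ha]
      exact (NatTrans.naturality_apply (prod.fst : P ⨯ P ⟶ P) g.op x).symm
    · refine (ConcreteCategory.congr_hom (NatTrans.congr_app (prod.lift_snd (FormalCoproduct.yoneda.map (K.δ (1 : Fin 2))) (FormalCoproduct.yoneda.map (K.δ (0 : Fin 2)))) (op V)) (el c)).trans ?_
      rw [← el_comp, hc0, el_res, hb]
      exact (NatTrans.naturality_apply (prod.snd : P ⨯ P ⟶ P) g.op x).symm

theorem nonempty_cechH_zero_iso (hK : Hyper.IsHypercovering J X K) (F : Sheaf J AddCommGrpCat.{u}) :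
    Nonempty (Hyper.cechH X K F.obj 0 ≅ F.obj.obj (op X)) := by
  obtain ⟨e⟩ := nonempty_h0_iso (J.over X) K (isZeroOneCover_of_hypercovering J X K hK) (F.over X)
  exact ⟨e ≪≫ IsLimit.conePointUniqueUpToIso (limit.isLimit _)
    (limitOfDiagramInitial (initialOpOfTerminal Over.mkIdTerminal) _)⟩

end Groth.Agent.HyperH28
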