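import Groth.Agent.Lib.HyperH28.Cech
import Groth.Agent.Lib.HyperH28.OverSite
import Groth.Agent.Lib.SiteCoh.OverSite

/-!
# Čech cohomology of an acyclic sheaf along a hypercovering
-/

set_option autoImplicit false
set_option backward.isDefEq.respectTransparency false
set_option backward.isDefEq.respectTransparency.types false

universe u

open CategoryTheory CategoryTheory.Limits Opposite

noncomputable section

namespace Groth.Agent.HyperH28

variable {C : Type u} [SmallCategory C]

section MapEv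

variable {F G : Cᵒᵖ ⥤ AddCommGrpCat.{u}} {L : FormalCoproduct.{u} C}

/-- An element given by its components. -/
def evMk (f : ∀ i : L.I, F.obj (op (L.obj i))) : ev F L :=
  (Concrete.productEquiv fun i => F.obj (op (L.obj i))).symm f

theorem val_evMk (f : ∀ i : L.I, F.obj (op (L.obj i))) {U : C} (i : L.I) (a : U ⟶ L.obj i) :
    val (evMk f) (pt i a) = F.map a.op (f i) :=
  congrArg (F.map a.op) (Concrete.productEquiv_symm_apply_π _ _ _)

/-- Push elements along a map of presheaves. -/
def mapEv (φ : F ⟶ G) (x : ev F L) : ev G L := evMk fun i => φ.app _ (val x (pt i (𝟙 _)))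

theorem val_mapEv (φ : F ⟶ G) (x : ev F L) {U : C} (s : Pt U L) : val (mapEv φ x) s = φ.app (op U) (val x s) := by
  obtain ⟨i, a, rfl⟩ := exists_pt s
  rw [mapEv, val_evMk, ← NatTrans.naturality_apply φ a.op, ← val_res, res_pt, Category.comp_id]

theorem exists_mapEv_eq (φ : F ⟶ G) (y : ev G L)
    (h : ∀ i : L.I, ∃ z, φ.app (op (L.obj i)) z = val y (pt i (𝟙 _))) : ∃ x : ev F L, mapEv φ x = y := by
  choose z hz using h
  refine ⟨evMk z, ev_ext fun i => ?_⟩
  rw [val_mapEv, val_evMk, op_id, F.map_id]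
  exact hz i

theorem mapEv_injective (φ : F ⟶ G) (h : ∀ U : C, Function.Injective (φ.app (op U))) :
    Function.Injective (mapEv φ (L := L)) := fun x y e => ev_ext fun i => h _ (by
  rw [← val_mapEv, ← val_mapEv, e])

theorem mapEv_d (K : SimplicialObject (FormalCoproduct.{u} C)) (φ : F ⟶ G) (n : ℕ)
    (x : ev F (K.obj (op (SimplexCategory.mk n)))) :
    mapEv φ ((Hyper.cechCxSite K F).d n (n + 1) x) =
      (Hyper.cechCxSite K G).d n (n + 1) (mapEv φ x) := by
  refine ev_ext (K := K.obj (op (SimplexCategory.mk (n + 1)))) fun i => ?_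
  rw [val_mapEv, cech_d_val, cech_d_val, map_sum]
  exact Finset.sum_congr rfl fun k _ => by rw [map_zsmul, val_mapEv]

end MapEv

section Cocycle

variable (J : GrothendieckTopology C) {K : SimplicialObject (FormalCoproduct.{u} C)} {T : C} (hT : IsTerminal T)

theorem exists_section_of_cocycle (hK : IsZeroOneCover J K) (F : Sheaf J AddCommGrpCat.{u})
    (q : ev F.obj (K.obj (op (SimplexCategory.mk 0)))) (hq : (Hyper.cechCxSite K F.obj).d 0 (0 + 1) q = 0) :
    ∃ y : F.obj.obj (op T), ∀ {U : C} (s : Pt U (K.obj (op (SimplexCategory.mk 0)))),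
      val q s = F.obj.map (hT.from U).op y := by
  have hF : Presieve.IsSheaf J (F.obj ⋙ forget AddCommGrpCat.{u}) :=
    (isSheaf_iff_isSheaf_of_type _ _).1 ((Presheaf.isSheaf_iff_isSheaf_forget J F.obj (forget _)).1 F.2)
  have hcoc : ∀ {U : C} (a b : Pt U (K.obj (op (SimplexCategory.mk 0)))), val q a = val q b := by
    intro U a b
    obtain ⟨S, hS, hS'⟩ := hK.one U a b
    refine (hF S hS).isSeparatedFor.ext fun V g hg => ?_
    obtain ⟨c, hc1, hc0⟩ := hS' g hg
    have h := cech_d_val K F.obj 0 q c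
    rw [hq, Fin.sum_univ_two] at h
    have h2 := (val_zero (F := F.obj) c).symm.trans h
    have e0 : c ≫ K.δ (0 : Fin (0 + 2)) = res g b := hc0
    have e1 : c ≫ K.δ (1 : Fin (0 + 2)) = res g a := hc1
    rw [e0, e1] at h2
    show F.obj.map g.op (val q a) = F.obj.map g.op (val q b)
    rw [← val_res, ← val_res]
    simp [← sub_eq_add_neg] at h2
    exact (sub_eq_zero.1 h2.symm).symm
  obtain ⟨S, hS, hS'⟩ := hK.zero T
  let fam : Presieve.FamilyOfElements (F.obj ⋙ forget AddCommGrpCat.{u}) S.arrows :=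
    fun V g hg => val q (hS' g hg).some
  have hfam : fam.Compatible := fun V₁ V₂ W g₁ g₂ f₁ f₂ hf₁ hf₂ _ => by
    show F.obj.map g₁.op (val q _) = F.obj.map g₂.op (val q _)
    rw [← val_res, ← val_res]
    exact hcoc _ _
  refine ⟨(hF S hS).amalgamate fam hfam, fun {U} s => ?_⟩
  refine (hF _ (J.pullback_stable (hT.from U) hS)).isSeparatedFor.ext fun W h hh => ?_
  show F.obj.map h.op _ = F.obj.map h.op _
  rw [← ConcreteCategory.comp_apply, ← F.obj.map_comp, ← op_comp, ← val_res]
  exact (hcoc _ _).trans ((hF S hS).valid_glue hfam (h ≫ hT.from U) hh).symm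

theorem cocycle_of_section (F : Cᵒᵖ ⥤ AddCommGrpCat.{u}) (z : ev F (K.obj (op (SimplexCategory.mk 0))))
    (y : F.obj (op T)) (hz : ∀ {U : C} (s : Pt U (K.obj (op (SimplexCategory.mk 0)))),
      val z s = F.map (hT.from U).op y) :
    (Hyper.cechCxSite K F).d 0 (0 + 1) z = 0 := by
  refine ev_ext (K := K.obj (op (SimplexCategory.mk (0 + 1)))) fun i => ?_
  rw [cech_d_val, Fin.sum_univ_two, hz, hz]
  refine Eq.trans ?_ (val_zero _).symm
  simp

end Cocycle

section Main

open Groth.Agent.SiteCoh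

variable (J : GrothendieckTopology C) (X : C) (K : SimplicialObject (FormalCoproduct.{u} (Over X)))

theorem exists_primitive_step {F I Q : Sheaf J AddCommGrpCat.{u}} {i : F ⟶ I} {g : I ⟶ Q} {w : i ≫ g = 0}
    [Injective I] (hS : (ShortComplex.mk i g w).ShortExact) (h1 : ∀ U : C, Subsingleton (CohSite.HU F 1 U))
    (hL : IsLocContr (J.over X) (K ⋙ FormalCoproduct.yoneda)) (p : ℕ)
    (hz : ∀ q : ev (Q.over X).obj (K.obj (op (SimplexCategory.mk p))),
      (Hyper.cechCxSite K (Q.over X).obj).d p (p + 1) q = 0 →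
      ∃ z : ev (I.over X).obj (K.obj (op (SimplexCategory.mk p))),
        (Hyper.cechCxSite K (I.over X).obj).d p (p + 1) z = 0 ∧ mapEv ((J.overPullback _ X).map g).hom z = q)
    (x : ev (F.over X).obj (K.obj (op (SimplexCategory.mk (p + 1)))))
    (hx : (Hyper.cechCxSite K (F.over X).obj).d (p + 1) (p + 1 + 1) x = 0) :
    ∃ y, (Hyper.cechCxSite K (F.over X).obj).d p (p + 1) y = x := by
  haveI : Injective (I.over X) := injective_restrict J X I inferInstance
  let i' := ((J.overPullback AddCommGrpCat.{u} X).map i).hom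
  let g' := ((J.overPullback AddCommGrpCat.{u} X).map g).hom
  have hi : ∀ U : Over X, Function.Injective (i'.app (op U)) := fun U => by
    haveI := hS.mono_f
    haveI : Mono i.hom := inferInstanceAs (Mono ((sheafToPresheaf J AddCommGrpCat.{u}).map i))
    exact (AddCommGrpCat.mono_iff_injective _).1 (inferInstanceAs (Mono (i.hom.app (op U.left))))
  have hex : ∀ (U : Over X) (b), g'.app (op U) b = 0 → ∃ a, i'.app (op U) a = b := fun U b hb => by
    haveI := hS.mono_f
    exact (ShortComplex.ab_exact_iff _).1 (hS.exact.map_of_mono_of_preservesKernel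
      (sheafToPresheaf J AddCommGrpCat.{u} ⋙ (evaluation Cᵒᵖ AddCommGrpCat.{u}).obj (op U.left))
      inferInstance inferInstance) b hb
  -- the image of `x` is a coboundary
  have hx' : (Hyper.cechCxSite K (I.over X).obj).d (p + 1) (p + 1 + 1) (mapEv i' x) = 0 := by
    rw [← mapEv_d, hx]
    refine ev_ext (K := K.obj (op (SimplexCategory.mk (p + 1 + 1)))) fun k => ?_
    rw [val_mapEv, val_zero]
    exact (map_zero _).trans (val_zero _).symm
  have hI := isZero_cech_succ K (J.over X) hL (I.over X) p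
  rw [← HomologicalComplex.exactAt_iff_isZero_homology,
    HomologicalComplex.exactAt_iff' _ p (p + 1) (p + 1 + 1) (by simp) (by simp), ShortComplex.ab_exact_iff] at hI
  obtain ⟨(y : ev (I.over X).obj (K.obj (op (SimplexCategory.mk p)))), hy⟩ := hI _ hx'
  change (Hyper.cechCxSite K (I.over X).obj).d p (p + 1) y = mapEv i' x at hy
  have hq : (Hyper.cechCxSite K (Q.over X).obj).d p (p + 1) (mapEv g' y) = 0 := by
    rw [← mapEv_d, hy]
    refine ev_ext (K := K.obj (op (SimplexCategory.mk (p + 1)))) fun k => ?_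
    rw [val_mapEv, val_mapEv, val_zero]
    exact ConcreteCategory.congr_hom (congrArg (fun (φ : F ⟶ Q) => φ.hom.app (op _)) w) _
  obtain ⟨z, hz0, hzq⟩ := hz _ hq
  obtain ⟨v, hv⟩ := exists_mapEv_eq i' (y - z) fun k => hex _ _ (by
    rw [val_sub, map_sub, sub_eq_zero]
    exact ((val_mapEv g' y _).symm.trans ((congrArg (fun a => val a _) hzq).symm)).trans (val_mapEv g' z _))
  refine ⟨v, mapEv_injective i' hi ?_⟩
  rw [mapEv_d, hv]
  exact ((map_sub _ y z).trans (congrArg₂ (· - ·) hy hz0)).trans (sub_zero _)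

theorem isZero_cech_succ_of_acyclic (hS : IsLocContr (J.over X) (K ⋙ FormalCoproduct.yoneda))
    (h01 : IsZeroOneCover (J.over X) K) :
    ∀ (p : ℕ) (F : Sheaf J AddCommGrpCat.{u}), (∀ (U : C) (q : ℕ), Subsingleton (CohSite.HU F (q + 1) U)) →
      ∀ (x : ev (F.over X).obj (K.obj (op (SimplexCategory.mk (p + 1))))),
      (Hyper.cechCxSite K (F.over X).obj).d (p + 1) (p + 1 + 1) x = 0 →
      ∃ y, (Hyper.cechCxSite K (F.over X).obj).d p (p + 1) y = x
  | 0, F, hF, x, hx => by
    obtain ⟨I, Q, i, g, w, hI, hse⟩ := exists_inj_seq F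
    refine exists_primitive_step J X K hse (fun U => hF U 0) hS 0 (fun q hq => ?_) x hx
    obtain ⟨a, ha⟩ := exists_section_of_cocycle (J.over X) Over.mkIdTerminal h01 (Q.over X) q hq
    obtain ⟨(b : (I.over X).obj.obj (op (Over.mk (𝟙 X)))), hb⟩ := surjective_sections X hse (hF X 0) a
    refine ⟨evMk fun k => (I.over X).obj.map (Over.mkIdTerminal.from _).op b, ?_, ?_⟩
    · refine cocycle_of_section Over.mkIdTerminal _ _ b fun {U} s => ?_
      obtain ⟨k, c, rfl⟩ := exists_pt s
      rw [val_evMk, ← ConcreteCategory.comp_apply, ← Functor.map_comp, ← op_comp]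
      exact congrArg (fun f => (I.over X).obj.map f.op b) (Over.mkIdTerminal.hom_ext _ _)
    · refine ev_ext fun k => ?_
      rw [val_mapEv, val_evMk, ha, op_id, CategoryTheory.Functor.map_id, ← hb]
      exact NatTrans.naturality_apply ((J.overPullback AddCommGrpCat.{u} X).map g).hom _ b
  | p + 1, F, hF, x, hx => by
    obtain ⟨I, Q, i, g, w, hI, hse⟩ := exists_inj_seq F
    refine exists_primitive_step J X K hse (fun U => hF U 0) hS (p + 1) (fun q hq => ?_) x hx
    obtain ⟨r, hr⟩ := isZero_cech_succ_of_acyclic hS h01 p Q (fun U n => subsingleton_HU₃ U hse (n + 1)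
      (subsingleton_HU_of_injective U I n) (hF U (n + 1))) q hq
    obtain ⟨r', hr'⟩ := exists_mapEv_eq ((J.overPullback AddCommGrpCat.{u} X).map g).hom r
      fun k => surjective_sections _ hse (hF _ 0) _
    refine ⟨(Hyper.cechCxSite K (I.over X).obj).d p (p + 1) r', ?_, ?_⟩
    · rw [← ConcreteCategory.comp_apply, HomologicalComplex.d_comp_d]
      rfl
    · rw [mapEv_d, hr', hr]

end Main

end Groth.Agent.HyperH28
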