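import Groth.Agent.Lib.HyperH28.Fills

/-!
# Attaching cells to a simplicial formal coproduct
-/

set_option autoImplicit false
set_option backward.isDefEq.respectTransparency false
set_option backward.isDefEq.respectTransparency.types false

universe u

open CategoryTheory CategoryTheory.Limits Opposite

noncomputable section

namespace Groth.Agent.HyperH28

variable {C : Type u} [SmallCategory C]

theorem hom_ext_pt {K L : FormalCoproduct.{u} C} {f g : K ⟶ L}
    (h : ∀ i : K.I, pt i (𝟙 _) ≫ f = pt i (𝟙 _) ≫ g) : f = g :=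
  (FormalCoproduct.hom_ext_iff' _ _).2 fun i => by
    have := h i
    rw [pt_comp, pt_comp, Category.id_comp, Category.id_comp] at this
    exact eq_of_pt_eq this

theorem exists_missed_of_not_epi {l : SimplexCategory} {m : ℕ} (g : l ⟶ SimplexCategory.mk m) (hg : ¬ Epi g) :
    ∃ j : Fin (m + 1), ∀ x, g.toOrderHom x ≠ j := by
  rw [SimplexCategory.epi_iff_surjective] at hg
  simpa [Function.Surjective] using hg

theorem not_epi_δ_comp {l : SimplexCategory} {m : ℕ} (a : l ⟶ SimplexCategory.mk m) (j : Fin (m + 2)) :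
    ¬ Epi (a ≫ SimplexCategory.δ j) := by
  rw [SimplexCategory.epi_iff_surjective]
  intro h
  obtain ⟨x, hx⟩ := h j
  exact Fin.succAbove_ne j _ hx

/-- Cells to attach in degree `n + 1`. -/
structure Cells (K : SimplicialObject (FormalCoproduct.{u} C)) (n : ℕ) where
  /-- The cells. -/
  Y : FormalCoproduct.{u} C
  /-- The boundaries. -/
  z : ∀ k : Y.I, Fin (n + 2) → Pt (Y.obj k) (K.obj (op (SimplexCategory.mk n)))
  compat : ∀ k, Compat K (z k)

variable {K : SimplicialObject (FormalCoproduct.{u} C)} {n : ℕ} (c : Cells K n)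

/-- The objects of the simplicial object with cells attached. -/
abbrev attObj (m : SimplexCategoryᵒᵖ) : FormalCoproduct.{u} C :=
  ⟨(K.obj m).I ⊕ ({σ : m.unop ⟶ SimplexCategory.mk (n + 1) // Epi σ} × c.Y.I),
    Sum.elim (K.obj m).obj fun q => c.Y.obj q.2⟩

/-- The inclusion. -/
def attInl (m : SimplexCategoryᵒᵖ) : K.obj m ⟶ attObj c m := { f := Sum.inl, φ := fun i => 𝟙 _ }

open Classical in
/-- A simplex of a cell. -/
def cellPt {l : SimplexCategory} (g : l ⟶ SimplexCategory.mk (n + 1)) (k : c.Y.I) :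
    Pt (c.Y.obj k) (attObj c (op l)) :=
  if h : Epi g then pt (K := attObj c (op l)) (Sum.inr (⟨g, h⟩, k)) (𝟙 _)
  else (exists_bdry (c.compat k) g (exists_missed_of_not_epi g h)).choose ≫ attInl c (op l)

theorem cellPt_epi {l : SimplexCategory} (g : l ⟶ SimplexCategory.mk (n + 1)) (k : c.Y.I) (h : Epi g) :
    cellPt c g k = pt (K := attObj c (op l)) (Sum.inr (⟨g, h⟩, k)) (𝟙 _) := dif_pos h

theorem cellPt_face {l : SimplexCategory} (a : l ⟶ SimplexCategory.mk n) (j : Fin (n + 2)) (k : c.Y.I) :
    cellPt c (a ≫ SimplexCategory.δ j) k = (c.z k j ≫ K.map a.op) ≫ attInl c (op l) := by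
  rw [cellPt, dif_neg (not_epi_δ_comp a j)]
  exact congrArg (· ≫ attInl c (op l))
    ((exists_bdry (c.compat k) _ (exists_missed_of_not_epi _ (not_epi_δ_comp a j))).choose_spec j a rfl)

/-- The structure maps. -/
def attMap {m m' : SimplexCategoryᵒᵖ} (f : m ⟶ m') : attObj c m ⟶ attObj c m' where
  f := Sum.elim (fun i => Sum.inl ((K.map f).f i)) fun q => (cellPt c (f.unop ≫ q.1.1) q.2).f PUnit.unit
  φ := fun x => match x with
    | Sum.inl i => (K.map f).φ i
    | Sum.inr q => (cellPt c (f.unop ≫ q.1.1) q.2).φ PUnit.unit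

theorem attInl_attMap {m m' : SimplexCategoryᵒᵖ} (f : m ⟶ m') :
    attInl c m ≫ attMap c f = K.map f ≫ attInl c m' :=
  (FormalCoproduct.hom_ext_iff' _ _).2 fun i => ⟨rfl, by
    simp [attInl, attMap]⟩

theorem cellPt_attMap {l l' : SimplexCategory} (f : l' ⟶ l) (g : l ⟶ SimplexCategory.mk (n + 1)) (k : c.Y.I) :
    cellPt c g k ≫ attMap c f.op = cellPt c (f ≫ g) k := by
  by_cases h : Epi g
  · rw [cellPt_epi c g k h, pt_comp, Category.id_comp]
    exact pt_eta (cellPt c (f ≫ g) k)
  · obtain ⟨j, hj⟩ := exists_missed_of_not_epi g h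
    obtain ⟨l⟩ := l
    obtain ⟨a, rfl⟩ := exists_factor g j hj
    rw [cellPt_face, Category.assoc, attInl_attMap, ← Category.assoc f, cellPt_face, op_comp, K.map_comp]
    simp only [Category.assoc]

/-- The simplicial object with cells attached. -/
def attach : SimplicialObject (FormalCoproduct.{u} C) where
  obj := attObj c
  map := attMap c
  map_id m := hom_ext_pt fun x => by
    rcases x with i | ⟨⟨σ, hσ⟩, k⟩
    · have h := congrArg (fun q => pt i (𝟙 _) ≫ q) (attInl_attMap c (𝟙 m))
      simp only [K.map_id, Category.id_comp] at h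
      rw [Category.comp_id]
      have e : pt (K := attObj c m) (Sum.inl i) (𝟙 _) = pt i (𝟙 _) ≫ attInl c m := by
        rw [pt_comp]; exact congrArg _ (Category.id_comp _).symm
      rw [e, Category.assoc]
      exact h
    · obtain ⟨m⟩ := m
      rw [Category.comp_id]
      have h := cellPt_attMap c (𝟙 m) σ k
      rw [Category.id_comp, cellPt_epi c σ k hσ] at h
      exact h
  map_comp {m m' m''} f g := hom_ext_pt fun x => by
    rcases x with i | ⟨⟨σ, hσ⟩, k⟩
    · have e : pt (K := attObj c m) (Sum.inl i) (𝟙 _) = pt i (𝟙 _) ≫ attInl c m := by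
        rw [pt_comp]; exact congrArg _ (Category.id_comp _).symm
      rw [e, Category.assoc, Category.assoc, attInl_attMap, ← Category.assoc (attInl c m), attInl_attMap,
        Category.assoc (K.map f), attInl_attMap, K.map_comp, Category.assoc]
    · obtain ⟨m⟩ := m
      obtain ⟨m'⟩ := m'
      obtain ⟨m''⟩ := m''
      rw [← cellPt_epi c σ k hσ]
      have hf := cellPt_attMap c f.unop σ k
      have hg := cellPt_attMap c g.unop (f.unop ≫ σ) k
      have hfg := cellPt_attMap c (g.unop ≫ f.unop) σ k
      rw [← Category.assoc]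
      refine hfg.trans ?_
      rw [Category.assoc, ← hg, ← hf]
      rfl

/-- The inclusion as a simplicial map. -/
def toAttach : K ⟶ attach c where
  app := attInl c
  naturality _ _ f := (attInl_attMap c f).symm

theorem isIso_attInl (l : ℕ) (hl : l ≤ n) : IsIso (attInl c (op (SimplexCategory.mk l))) := by
  haveI : IsEmpty {σ : SimplexCategory.mk l ⟶ SimplexCategory.mk (n + 1) // Epi σ} :=
    ⟨fun ⟨σ, hσ⟩ => by
      obtain ⟨j, hj⟩ := exists_missed (show l < n + 1 from Nat.lt_succ_of_le hl) σ
      obtain ⟨x, hx⟩ := (SimplexCategory.epi_iff_surjective.1 hσ) j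
      exact hj x hx⟩
  refine ⟨{ f := fun x => x.elim id fun q => (IsEmpty.false q.1).elim
            φ := fun x => match x with
              | Sum.inl i => 𝟙 _
              | Sum.inr q => (IsEmpty.false q.1).elim }, hom_ext_pt fun i => ?_, hom_ext_pt fun x => ?_⟩
  · rw [← Category.assoc, pt_comp, pt_comp, Category.comp_id]
    simp [attInl]
  · rcases x with i | q
    · rw [← Category.assoc, pt_comp, pt_comp, Category.comp_id]
      simp [attInl]
    · exact (IsEmpty.false q.1).elim

theorem exists_attach_filler {V : C} (t : Pt V c.Y) :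
    ∃ e : Pt V ((attach c).obj (op (SimplexCategory.mk (n + 1)))), ∀ j : Fin (n + 2),
      e ≫ (attach c).δ j = res (t.φ PUnit.unit) (c.z (t.f PUnit.unit) j) ≫ attInl c _ := by
  refine ⟨res (t.φ PUnit.unit) (cellPt c (𝟙 _) (t.f PUnit.unit)), fun j => ?_⟩
  show res _ _ ≫ attMap c _ = _
  rw [res, Category.assoc]
  have h := (cellPt_attMap c (SimplexCategory.δ j) (𝟙 _) (t.f PUnit.unit)).trans
    (by rw [Category.comp_id, ← Category.id_comp (SimplexCategory.δ j), cellPt_face, op_id, K.map_id, Category.comp_id])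
  refine (congrArg _ h).trans ?_
  exact (Category.assoc _ _ _).symm

end Groth.Agent.HyperH28
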