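import Groth.Prelude.Def_Hyper
import Mathlib.CategoryTheory.Limits.FunctorCategory.Basic
import Mathlib.CategoryTheory.Limits.Types.Coproducts
import Mathlib.CategoryTheory.Sites.LocallySurjective

/-!
# Points of formal coproducts and coverings
-/

set_option autoImplicit false
set_option backward.isDefEq.respectTransparency false
set_option backward.isDefEq.respectTransparency.types false

universe u

open CategoryTheory CategoryTheory.Limits Opposite

noncomputable section

namespace Groth.Agent.HyperH28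

variable {C : Type u} [SmallCategory C]

/-- A `U`-valued point of a formal coproduct. -/
abbrev Pt (U : C) (K : FormalCoproduct.{u} C) : Type u := (FormalCoproduct.incl.{u} C).obj U ⟶ K

/-- The point given by an index and a morphism. -/
abbrev pt {U : C} {K : FormalCoproduct.{u} C} (i : K.I) (h : U ⟶ K.obj i) : Pt U K :=
  FormalCoproduct.Hom.fromIncl i h

/-- Restriction of points. -/
abbrev res {U V : C} {K : FormalCoproduct.{u} C} (g : V ⟶ U) (s : Pt U K) : Pt V K :=
  (FormalCoproduct.incl.{u} C).map g ≫ s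

theorem pt_eta {U : C} {K : FormalCoproduct.{u} C} (s : Pt U K) : pt (s.f PUnit.unit) (s.φ PUnit.unit) = s :=
  FormalCoproduct.Hom.fromIncl_asSigma s

theorem exists_pt {U : C} {K : FormalCoproduct.{u} C} (s : Pt U K) : ∃ i h, s = pt i h :=
  ⟨_, _, (pt_eta s).symm⟩

theorem pt_comp {U : C} {K L : FormalCoproduct.{u} C} (i : K.I) (h : U ⟶ K.obj i) (f : K ⟶ L) :
    pt i h ≫ f = pt (f.f i) (h ≫ f.φ i) := rfl

theorem res_pt {U V : C} {K : FormalCoproduct.{u} C} (g : V ⟶ U) (i : K.I) (h : U ⟶ K.obj i) :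
    res g (pt i h) = pt i (g ≫ h) := rfl

theorem res_res {U V W : C} {K : FormalCoproduct.{u} C} (g : V ⟶ U) (g' : W ⟶ V) (s : Pt U K) :
    res g' (res g s) = res (g' ≫ g) s := by
  rw [res, res, res, Functor.map_comp, Category.assoc]

theorem pt_congr {U : C} {K : FormalCoproduct.{u} C} {i i' : K.I} (e : i = i') (h : U ⟶ K.obj i) :
    pt i h = pt i' (h ≫ eqToHom (congrArg K.obj e)) := by
  subst e; simp

theorem eq_of_pt_eq {U : C} {K : FormalCoproduct.{u} C} {i i' : K.I} {h : U ⟶ K.obj i} {h' : U ⟶ K.obj i'}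
    (e : pt i h = pt i' h') : ∃ p : i = i', h ≫ eqToHom (congrArg K.obj p) = h' := by
  obtain ⟨p, q⟩ := (FormalCoproduct.hom_ext_iff' _ _).1 e PUnit.unit
  exact ⟨p, q⟩

section Covering

variable (J : GrothendieckTopology C) {K L M : FormalCoproduct.{u} C}

/-- The sieve on which a point lifts. -/
def liftSieve (f : K ⟶ L) {U : C} (s : Pt U L) : Sieve U where
  arrows V g := ∃ t : Pt V K, t ≫ f = res g s
  downward_closed := by
    rintro V W g ⟨t, ht⟩ g'
    exact ⟨res g' t, by rw [res, Category.assoc, ht, ← res_res]⟩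

theorem liftSieve_res (f : K ⟶ L) {U V : C} (g : V ⟶ U) (s : Pt U L) :
    liftSieve f (res g s) = (liftSieve f s).pullback g := by
  ext W h
  simp only [liftSieve, Sieve.pullback_apply, res_res]

theorem ofArrows_eq_liftSieve (f : K ⟶ L) (j : L.I) :
    Sieve.ofArrows (fun i : {i : K.I // f.f i = j} => K.obj i.1)
      (fun i => f.φ i.1 ≫ eqToHom (congrArg L.obj i.2)) = liftSieve f (pt j (𝟙 _)) := by
  ext V g
  rw [Sieve.mem_ofArrows_iff]
  constructor
  · rintro ⟨⟨i, hi⟩, a, rfl⟩
    refine ⟨pt i a, ?_⟩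
    rw [pt_comp, res_pt, Category.comp_id, pt_congr hi, Category.assoc]
  · rintro ⟨t, ht⟩
    obtain ⟨i, a, rfl⟩ := exists_pt t
    rw [pt_comp, res_pt, Category.comp_id] at ht
    obtain ⟨p, q⟩ := eq_of_pt_eq ht
    exact ⟨⟨i, p⟩, a, by rw [← q, Category.assoc]⟩

theorem isSRCovering_iff (f : K ⟶ L) :
    Hyper.IsSRCovering J f ↔ ∀ (U : C) (s : Pt U L), liftSieve f s ∈ J U := by
  constructor
  · intro hf U s
    obtain ⟨j, a, rfl⟩ := exists_pt s
    have h := hf j
    rw [ofArrows_eq_liftSieve] at h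
    rw [show pt j a = res a (pt j (𝟙 (L.obj j))) by rw [res_pt, Category.comp_id], liftSieve_res]
    exact J.pullback_stable a h
  · intro h j
    rw [ofArrows_eq_liftSieve]
    exact h _ _

theorem isSRCovering_comp {f : K ⟶ L} {g : L ⟶ M} (hf : Hyper.IsSRCovering J f) (hg : Hyper.IsSRCovering J g) :
    Hyper.IsSRCovering J (f ≫ g) := by
  rw [isSRCovering_iff] at *
  intro U s
  refine J.transitive (hg U s) _ fun V a ⟨t, ht⟩ => J.superset_covering ?_ (hf V t)
  rintro W b ⟨t', ht'⟩
  exact ⟨t', by rw [← Category.assoc, ht', res, Category.assoc, ht, ← res_res]⟩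

theorem isSRCovering_of_isPullback {P L' : FormalCoproduct.{u} C} {f : K ⟶ L} {g : L' ⟶ L} {p : P ⟶ L'}
    {q : P ⟶ K} (h : IsPullback p q g f) (hf : Hyper.IsSRCovering J f) : Hyper.IsSRCovering J p := by
  rw [isSRCovering_iff] at *
  intro U s
  refine J.superset_covering ?_ (hf U (s ≫ g))
  rintro V a ⟨t, ht⟩
  exact ⟨h.lift (res a s) t (by rw [ht, res, res, Category.assoc]), h.lift_fst _ _ _⟩

theorem isSRCovering_of_splitEpi {f : K ⟶ L} (g : L ⟶ K) (h : g ≫ f = 𝟙 L) : Hyper.IsSRCovering J f := by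
  rw [isSRCovering_iff]
  intro U s
  refine J.covering_of_eq_top (top_le_iff.1 fun V a _ => ⟨res a s ≫ g, ?_⟩)
  rw [Category.assoc, h, Category.comp_id]

theorem isSRCovering_of_comp {f : K ⟶ L} {g : L ⟶ M} (h : Hyper.IsSRCovering J (f ≫ g)) :
    Hyper.IsSRCovering J g := by
  rw [isSRCovering_iff] at *
  intro U s
  refine J.superset_covering ?_ (h U s)
  rintro V a ⟨t, ht⟩
  exact ⟨t ≫ f, by rw [Category.assoc, ht]⟩

end Covering

section Yoneda

variable {K L : FormalCoproduct.{u} C}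

/-- A point as a section of the associated presheaf. -/
def el {U : C} (s : Pt U K) : (FormalCoproduct.yoneda.obj K).obj (op U) :=
  (Sigma.ι (fun i => yoneda.obj (K.obj i)) (s.f PUnit.unit)).app (op U) (s.φ PUnit.unit)

theorem el_res {U V : C} (g : V ⟶ U) (s : Pt U K) :
    el (res g s) = (FormalCoproduct.yoneda.obj K).map g.op (el s) :=
  NatTrans.naturality_apply (Sigma.ι (fun i => yoneda.obj (K.obj i)) (s.f PUnit.unit)) g.op (s.φ PUnit.unit)

theorem el_comp {U : C} (s : Pt U K) (f : K ⟶ L) : el (s ≫ f) = (FormalCoproduct.yoneda.map f).app (op U) (el s) := by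
  have h : Sigma.ι (fun i => yoneda.obj (K.obj i)) (s.f PUnit.unit) ≫ FormalCoproduct.yoneda.map f =
      yoneda.map (f.φ (s.f PUnit.unit)) ≫ Sigma.ι (fun i => yoneda.obj (L.obj i)) (f.f (s.f PUnit.unit)) := by
    simp [FormalCoproduct.yoneda]
    rfl
  exact (ConcreteCategory.congr_hom (NatTrans.congr_app h (op U)) (s.φ PUnit.unit)).symm

/-- The presheaf of points. -/
def ptPsh (K : FormalCoproduct.{u} C) : Cᵒᵖ ⥤ Type u := (FormalCoproduct.incl.{u} C).op ⋙ yoneda.obj K

theorem el_injective {U : C} : Function.Injective (el (K := K) (U := U)) := by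
  let ψ : FormalCoproduct.yoneda.obj K ⟶ ptPsh K :=
    Sigma.desc fun i => yonedaEquiv.symm (pt i (𝟙 (K.obj i)))
  have h : ∀ s : Pt U K, ψ.app (op U) (el s) = s := by
    intro s
    have e : Sigma.ι (fun i => yoneda.obj (K.obj i)) (s.f PUnit.unit) ≫ ψ =
        yonedaEquiv.symm (pt (s.f PUnit.unit) (𝟙 _)) := Sigma.ι_desc _ _
    refine (ConcreteCategory.congr_hom (NatTrans.congr_app e (op U)) (s.φ PUnit.unit)).trans ?_
    show res (s.φ PUnit.unit) (pt _ (𝟙 _)) = s
    rw [res_pt, Category.comp_id, pt_eta]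
  intro a b e
  rw [← h a, ← h b, e]

theorem el_surjective {U : C} : Function.Surjective (el (K := K) (U := U)) := by
  intro x
  obtain ⟨⟨i⟩, a, rfl⟩ := Types.jointly_surjective _
    (isColimitOfPreserves ((evaluation Cᵒᵖ (Type u)).obj (op U))
      (coproductIsCoproduct fun i => yoneda.obj (K.obj i))) x
  exact ⟨pt i a, rfl⟩

theorem isLocallySurjective_of_isSRCovering (J : GrothendieckTopology C) (f : K ⟶ L)
    (hf : Hyper.IsSRCovering J f) : Presheaf.IsLocallySurjective J (FormalCoproduct.yoneda.map f) := by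
  refine ⟨fun {U} x => ?_⟩
  obtain ⟨s, rfl⟩ := el_surjective (K := L) (U := U) x
  refine J.superset_covering ?_ ((isSRCovering_iff J f).1 hf U s)
  rintro V g ⟨t, ht⟩
  exact ⟨el t, by rw [← el_comp, ht, el_res]⟩

end Yoneda

end Groth.Agent.HyperH28
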