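import Groth.Agent.Lib.HyperH28.Basic
import Mathlib.Algebra.Homology.ShortComplex.Ab
import Mathlib.Algebra.Category.Grp.Limits
import Mathlib.CategoryTheory.Sites.Sheaf
import Mathlib.Algebra.Category.Grp.Adjunctions

/-!
# Degree zero Čech cohomology of a simplicial formal coproduct
-/

set_option autoImplicit false
set_option backward.isDefEq.respectTransparency false
set_option backward.isDefEq.respectTransparency.types false

universe u

open CategoryTheory CategoryTheory.Limits Opposite

noncomputable section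

namespace Groth.Agent.HyperH28

variable {C : Type u} [SmallCategory C]

/-- Degree zero and one of a hypercovering, pointwise. -/
structure IsZeroOneCover (J : GrothendieckTopology C) (K : SimplicialObject (FormalCoproduct.{u} C)) : Prop where
  zero : ∀ U : C, ∃ S : Sieve U, S ∈ J U ∧ ∀ ⦃V : C⦄ (g : V ⟶ U), S g → Nonempty (Pt V (K.obj (op (SimplexCategory.mk 0))))
  one : ∀ (U : C) (a b : Pt U (K.obj (op (SimplexCategory.mk 0)))), ∃ S : Sieve U, S ∈ J U ∧ ∀ ⦃V : C⦄ (g : V ⟶ U), S g →
    ∃ c : Pt V (K.obj (op (SimplexCategory.mk 1))), c ≫ K.δ (1 : Fin 2) = res g a ∧ c ≫ K.δ (0 : Fin 2) = res g b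

theorem isZeroOneCover_of_site (J : GrothendieckTopology C) (K : SimplicialObject (FormalCoproduct.{u} C))
    [∀ (n : ℕ) (F : (SimplexCategory.Truncated n)ᵒᵖ ⥤ FormalCoproduct.{u} C),
      (SimplexCategory.Truncated.inclusion n).op.HasRightKanExtension F]
    (hK : Hyper.IsHypercoveringSite J K) : IsZeroOneCover J K where
  zero U := by
    let t : (⊤_ (Cᵒᵖ ⥤ Type u)).obj (op U) :=
      (terminal.from (yoneda.obj U)).app (op U) (𝟙 U)
    refine ⟨_, hK.1.imageSieve_mem t, fun V g ⟨x, hx⟩ => ?_⟩
    obtain ⟨s, -⟩ := el_surjective x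
    exact ⟨s⟩
  one U a b := by
    let P := FormalCoproduct.yoneda.obj (K.obj (op (SimplexCategory.mk 0)))
    let pq : yoneda.obj U ⟶ P ⨯ P := prod.lift (yonedaEquiv.symm (el a)) (yonedaEquiv.symm (el b))
    refine ⟨_, hK.2.1.imageSieve_mem (pq.app (op U) (𝟙 U)), fun V g ⟨x, hx⟩ => ?_⟩
    obtain ⟨c, rfl⟩ := el_surjective x
    have hπ : ∀ (π' : P ⨯ P ⟶ P) (w : Pt U (K.obj (op (SimplexCategory.mk 0))))
        (d : K.obj (op (SimplexCategory.mk 1)) ⟶ K.obj (op (SimplexCategory.mk 0))),
        pq ≫ π' = yonedaEquiv.symm (el w) →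
        prod.lift (FormalCoproduct.yoneda.map (K.δ (1 : Fin 2))) (FormalCoproduct.yoneda.map (K.δ (0 : Fin 2))) ≫ π' =
          FormalCoproduct.yoneda.map d → el (c ≫ d) = el (res g w) := by
      intro π' w d h1 h2
      rw [el_comp, el_res]
      refine (ConcreteCategory.congr_hom (NatTrans.congr_app h2 (op V)) (el c)).symm.trans ?_
      refine (congrArg (π'.app (op V)) hx).trans ?_
      refine (NatTrans.naturality_apply π' g.op _).trans (congrArg _ ?_)
      refine (ConcreteCategory.congr_hom (NatTrans.congr_app h1 (op U)) (𝟙 U)).trans ?_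
      exact Equiv.apply_symm_apply yonedaEquiv (el w)
    exact ⟨c, el_injective (hπ prod.fst a _ (prod.lift_fst _ _) (prod.lift_fst _ _)),
      el_injective (hπ prod.snd b _ (prod.lift_snd _ _) (prod.lift_snd _ _))⟩

variable (F : Cᵒᵖ ⥤ AddCommGrpCat.{u}) {K : FormalCoproduct.{u} C}

/-- The value of a presheaf on a formal coproduct. -/
abbrev ev (K : FormalCoproduct.{u} C) : AddCommGrpCat.{u} :=
  ((FormalCoproduct.evalOp.{u} C AddCommGrpCat.{u}).obj F).obj (op K)

variable {F}

/-- The value of an element at a point. -/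
def val (x : ev F K) {U : C} (s : Pt U K) : F.obj (op U) :=
  F.map (s.φ PUnit.unit).op (Pi.π (fun i => F.obj (op (K.obj i))) (s.f PUnit.unit) x)

theorem val_res (x : ev F K) {U V : C} (g : V ⟶ U) (s : Pt U K) : val x (res g s) = F.map g.op (val x s) := by
  show F.map (g ≫ s.φ PUnit.unit).op _ = _
  rw [op_comp, F.map_comp, ConcreteCategory.comp_apply]
  rfl

theorem val_comp {L : FormalCoproduct.{u} C} (f : K ⟶ L) (x : ev F L) {U : C} (s : Pt U K) :
    val (((FormalCoproduct.evalOp.{u} C AddCommGrpCat.{u}).obj F).map f.op x) s = val x (s ≫ f) := by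
  show F.map (s.φ PUnit.unit).op _ = F.map (s.φ PUnit.unit ≫ f.φ (s.f PUnit.unit)).op _
  rw [op_comp, F.map_comp, ConcreteCategory.comp_apply]
  congr 1
  exact ConcreteCategory.congr_hom (Pi.lift_π (fun i => Pi.π (fun j => F.obj (op (L.obj j))) (f.f i) ≫ F.map (f.φ i).op) (s.f PUnit.unit)) x

theorem val_pt_id (x : ev F K) (i : K.I) : val x (pt i (𝟙 _)) = Pi.π (fun i => F.obj (op (K.obj i))) i x := by
  show F.map (𝟙 (K.obj i)).op _ = _
  rw [op_id, F.map_id]
  rfl

theorem ev_ext {x y : ev F K} (h : ∀ i : K.I, val x (pt i (𝟙 _)) = val y (pt i (𝟙 _))) : x = y :=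
  Concrete.limit_ext (Discrete.functor fun i => F.obj (op (K.obj i))) x y fun ⟨i⟩ => by
    have := h i
    rwa [val_pt_id, val_pt_id] at this

theorem val_sub (x y : ev F K) {U : C} (s : Pt U K) : val (x - y) s = val x s - val y s := by
  show F.map _ (Pi.π (fun i => F.obj (op (K.obj i))) _ (x - y)) = _
  rw [map_sub, map_sub]
  rfl

theorem val_zero {U : C} (s : Pt U K) : val (0 : ev F K) s = 0 := by
  show F.map _ (Pi.π (fun i => F.obj (op (K.obj i))) _ (0 : ev F K)) = _
  rw [map_zero, map_zero]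

theorem nonempty_h0_iso (J : GrothendieckTopology C) (K : SimplicialObject (FormalCoproduct.{u} C))
    (hK : IsZeroOneCover J K) (F : Sheaf J AddCommGrpCat.{u}) :
    Nonempty ((Hyper.cechCxSite K F.obj).homology 0 ≅ limit F.obj) := by
  let K0 := K.obj (op (SimplexCategory.mk 0))
  let K1 := K.obj (op (SimplexCategory.mk 1))
  let cx := Hyper.cechCxSite K F.obj
  have hF : Presieve.IsSheaf J (F.obj ⋙ forget AddCommGrpCat.{u}) :=
    (isSheaf_iff_isSheaf_of_type _ _).1 ((Presheaf.isSheaf_iff_isSheaf_forget J F.obj (forget _)).1 F.2)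
  have sep : ∀ {U : C} {S : Sieve U}, S ∈ J U → ∀ p q : F.obj.obj (op U),
      (∀ ⦃V⦄ (g : V ⟶ U), S g → F.obj.map g.op p = F.obj.map g.op q) → p = q :=
    fun {U S} hS p q h => (hF S hS).isSeparatedFor.ext fun V g hg => h g hg
  -- the differential
  have hd : ∀ (x : ev F.obj K0) {U : C} (c : Pt U K1),
      val (K := K1) (cx.d 0 1 x) c = val x (c ≫ K.δ (0 : Fin 2)) - val x (c ≫ K.δ (1 : Fin 2)) := by
    intro x U c
    have e : cx.d 0 1 =
        ((FormalCoproduct.evalOp.{u} C AddCommGrpCat.{u}).obj F.obj).map (K.δ (0 : Fin 2)).op -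
          ((FormalCoproduct.evalOp.{u} C AddCommGrpCat.{u}).obj F.obj).map (K.δ (1 : Fin 2)).op := by
      show cx.d 0 (0 + 1) = _
      refine (CochainComplex.of_d
        (fun n => ((FormalCoproduct.cosimplicialObjectFunctor K).obj F.obj).obj (SimplexCategory.mk n))
        (AlgebraicTopology.AlternatingCofaceMapComplex.objD
          ((FormalCoproduct.cosimplicialObjectFunctor K).obj F.obj)) 0).trans ?_
      simp [ Hyper.cechCxSite, FormalCoproduct.cochainComplexFunctor, AlgebraicTopology.alternatingCofaceMapComplex,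
        AlgebraicTopology.AlternatingCofaceMapComplex.obj, AlgebraicTopology.AlternatingCofaceMapComplex.objD,
        Fin.sum_univ_two, sub_eq_add_neg]
      rfl
    rw [e, ← val_comp, ← val_comp, ← val_sub]
    rfl
  let lam : limit F.obj ⟶ cx.X 0 := Pi.lift fun i => limit.π F.obj (op (K0.obj i))
  have hlam : ∀ (z : ↑(limit F.obj)) {U : C} (s : Pt U K0),
      val (lam z) s = limit.π F.obj (op U) z := by
    intro z U s
    show F.obj.map (s.φ PUnit.unit).op (Pi.π (fun i => F.obj.obj (op (K0.obj i))) _ (lam z)) = _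
    have : Pi.π (fun i => F.obj.obj (op (K0.obj i))) (s.f PUnit.unit) (lam z) = limit.π F.obj _ z :=
      ConcreteCategory.congr_hom (Pi.lift_π _ _) z
    rw [this, ← ConcreteCategory.comp_apply, limit.w]
    rfl
  have hcomp : lam ≫ cx.d 0 1 = 0 := by
    refine ConcreteCategory.hom_ext _ _ fun z => ev_ext (K := K1) fun k => ?_
    rw [ConcreteCategory.comp_apply, hd, hlam, hlam, sub_self]
    exact (val_zero _).symm
  let S := ShortComplex.mk lam (cx.d 0 1) hcomp
  haveI hm : Mono S.f := by
    rw [AddCommGrpCat.mono_iff_injective]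
    intro z z' hz
    refine Concrete.limit_ext F.obj z z' fun U => ?_
    obtain ⟨U⟩ := U
    obtain ⟨T, hT, hT'⟩ := hK.zero U
    refine sep hT _ _ fun V g hg => ?_
    obtain ⟨s⟩ := hT' g hg
    rw [← ConcreteCategory.comp_apply, ← ConcreteCategory.comp_apply, limit.w, ← hlam z s, ← hlam z' s]
    exact congrArg (fun w => val (K := K0) w s) hz
  have hex : S.Exact := by
    rw [ShortComplex.ab_exact_iff]
    intro x hx
    have hcoc : ∀ {U : C} (a b : Pt U K0), val (K := K0) x a = val (K := K0) x b := by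
      intro U a b
      obtain ⟨T, hT, hT'⟩ := hK.one U a b
      refine sep hT _ _ fun V g hg => ?_
      obtain ⟨c, hc1, hc0⟩ := hT' g hg
      have h := hd x c
      rw [hc1, hc0, val_res, val_res, show cx.d 0 1 x = 0 from hx] at h
      have h0 : val (K := K1) (0 : ev F.obj K1) c = 0 := val_zero c
      exact (sub_eq_zero.1 (h.symm.trans h0)).symm
    have key : ∀ U : C, ∃ y : F.obj.obj (op U),
        ∀ ⦃V : C⦄ (g : V ⟶ U) (s : Pt V K0), F.obj.map g.op y = val (K := K0) x s := by
      intro U
      obtain ⟨T, hT, hT'⟩ := hK.zero U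
      let fam : Presieve.FamilyOfElements (F.obj ⋙ forget AddCommGrpCat.{u}) T.arrows :=
        fun V g hg => val (K := K0) x (hT' g hg).some
      have hfam : fam.Compatible := fun V₁ V₂ W g₁ g₂ f₁ f₂ hf₁ hf₂ _ => by
        show F.obj.map g₁.op (val (K := K0) x _) = F.obj.map g₂.op (val (K := K0) x _)
        rw [← val_res, ← val_res]
        exact hcoc _ _
      refine ⟨(hF T hT).amalgamate fam hfam, fun V g s => ?_⟩
      refine sep (J.pullback_stable g hT) _ _ fun W h hh => ?_
      rw [← ConcreteCategory.comp_apply, ← F.obj.map_comp, ← op_comp, ← val_res]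
      exact ((hF T hT).valid_glue hfam (h ≫ g) hh).trans (hcoc _ _)
    choose y hy using key
    let cn : Cone F.obj :=
      { pt := AddCommGrpCat.of (ULift.{u} ℤ)
        π :=
          { app := fun U => AddCommGrpCat.ofHom ((zmultiplesHom _ (y U.unop)).comp AddEquiv.ulift.toAddMonoidHom)
            naturality := fun U V g => by
              refine ConcreteCategory.hom_ext _ _ fun n => ?_
              show n.down • y V.unop = F.obj.map g (n.down • y U.unop)
              rw [map_zsmul]
              congr 1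
              obtain ⟨T, hT, hT'⟩ := hK.zero V.unop
              refine (sep hT _ _ fun W h hh => ?_).symm
              obtain ⟨s⟩ := hT' h hh
              rw [← ConcreteCategory.comp_apply, ← F.obj.map_comp, hy V.unop h s]
              exact hy U.unop (h ≫ g.unop) s } }
    refine ⟨limit.lift F.obj cn ⟨1⟩, ev_ext (K := K0) fun i => ?_⟩
    rw [hlam, ← ConcreteCategory.comp_apply, limit.lift_π]
    show (1 : ℤ) • y (K0.obj i) = _
    rw [one_zsmul, ← hy (K0.obj i) (𝟙 _) (pt i (𝟙 _)), op_id, F.obj.map_id]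
    rfl
  exact ⟨cx.isoHomologyπ₀.symm ≪≫ IsLimit.conePointUniqueUpToIso (cx.cyclesIsKernel 0 1 (by simp)) hex.fIsKernel⟩

end Groth.Agent.HyperH28
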