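import Groth.Agent.Lib.HyperH28.Free
import Groth.Agent.Lib.HyperH28.H0
import Mathlib.CategoryTheory.Limits.Shapes.ConcreteCategory

/-!
# Čech cohomology of an injective sheaf along a hypercovering vanishes in positive degrees
-/

set_option autoImplicit false
set_option backward.isDefEq.respectTransparency false
set_option backward.isDefEq.respectTransparency.types false

universe u

open CategoryTheory CategoryTheory.Limits Opposite

noncomputable section

namespace Groth.Agent.HyperH28

variable {C : Type u} [SmallCategory C]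

section Values

variable {F : Cᵒᵖ ⥤ AddCommGrpCat.{u}} {L : FormalCoproduct.{u} C}

/-- `val` as an additive map. -/
def valHom {U : C} (s : Pt U L) : ev F L →+ F.obj (op U) :=
  AddMonoidHom.mk' (fun x => val x s) fun x y => by
    show F.map _ (Pi.π (fun i => F.obj (op (L.obj i))) _ (x + y)) = _
    rw [map_add, map_add]
    rfl

/-- Sections of `F(L)` as points. -/
def elEquiv (U : C) : Pt U L ≃ (FormalCoproduct.yoneda.obj L).obj (op U) :=
  Equiv.ofBijective el ⟨el_injective, el_surjective⟩

theorem elEquiv_symm_el {U : C} (s : Pt U L) : (elEquiv U).symm (el s) = s :=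
  (elEquiv U).symm_apply_apply s

/-- The morphism out of the free presheaf given by an element. -/
def homOfVal (x : ev F L) :
    ((Functor.whiskeringRight Cᵒᵖ _ _).obj AddCommGrpCat.free.{u}).obj (FormalCoproduct.yoneda.obj L) ⟶ F where
  app U := AddCommGrpCat.ofHom (FreeAbelianGroup.lift fun e => val x ((elEquiv U.unop).symm e))
  naturality U V g := by
    refine ConcreteCategory.hom_ext _ _ fun z => ?_
    obtain ⟨U⟩ := U
    obtain ⟨V⟩ := V
    show FreeAbelianGroup.lift _ (FreeAbelianGroup.map _ z) = F.map g (FreeAbelianGroup.lift _ z)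
    induction z using FreeAbelianGroup.induction_on with
    | zero => simp
    | neg w ih => rw [map_neg, map_neg, map_neg, ih, map_neg]
    | add a b iha ihb => simp [iha, ihb]
    | of e =>
      rw [FreeAbelianGroup.map_of_apply, FreeAbelianGroup.lift_apply_of, FreeAbelianGroup.lift_apply_of]
      obtain ⟨s, rfl⟩ := el_surjective e
      have he : (FormalCoproduct.yoneda.obj L).map g (el s) = el (res g.unop s) := (el_res g.unop s).symm
      refine (congrArg (fun w => val x ((elEquiv V).symm w)) he).trans ?_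
      rw [elEquiv_symm_el, elEquiv_symm_el, val_res]
      rfl

theorem homOfVal_of (x : ev F L) {U : C} (s : Pt U L) :
    (homOfVal x).app (op U) (FreeAbelianGroup.of (el s)) = val x s := by
  show FreeAbelianGroup.lift _ (FreeAbelianGroup.of (el s)) = _
  rw [FreeAbelianGroup.lift_apply_of, elEquiv_symm_el]

/-- The element given by a morphism out of the free presheaf. -/
def valOfHom
    (φ : ((Functor.whiskeringRight Cᵒᵖ _ _).obj AddCommGrpCat.free.{u}).obj (FormalCoproduct.yoneda.obj L) ⟶ F) :
    ev F L :=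
  (Concrete.productEquiv fun i => F.obj (op (L.obj i))).symm
    fun i => φ.app (op (L.obj i)) (FreeAbelianGroup.of (el (pt i (𝟙 _))))

theorem val_valOfHom
    (φ : ((Functor.whiskeringRight Cᵒᵖ _ _).obj AddCommGrpCat.free.{u}).obj (FormalCoproduct.yoneda.obj L) ⟶ F)
    {U : C} (s : Pt U L) : val (valOfHom φ) s = φ.app (op U) (FreeAbelianGroup.of (el s)) := by
  obtain ⟨i, a, rfl⟩ := exists_pt s
  show F.map a.op (Pi.π (fun i => F.obj (op (L.obj i))) i (valOfHom φ)) = _
  rw [show Pi.π (fun i => F.obj (op (L.obj i))) i (valOfHom φ) =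
    φ.app (op (L.obj i)) (FreeAbelianGroup.of (el (pt i (𝟙 _)))) from
      Concrete.productEquiv_symm_apply_π _ _ _]
  refine (NatTrans.naturality_apply φ a.op _).symm.trans (congrArg _ ?_)
  show FreeAbelianGroup.map _ (FreeAbelianGroup.of _) = _
  rw [FreeAbelianGroup.map_of_apply]
  refine congrArg FreeAbelianGroup.of ((el_res a _).symm.trans (congrArg el ?_))
  rw [res_pt, Category.comp_id]

end Values

variable (K : SimplicialObject (FormalCoproduct.{u} C)) (F : Cᵒᵖ ⥤ AddCommGrpCat.{u})

theorem cech_d_val (n : ℕ) (x : ev F (K.obj (op (SimplexCategory.mk n)))) {U : C}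
    (c : Pt U (K.obj (op (SimplexCategory.mk (n + 1))))) :
    val (K := K.obj (op (SimplexCategory.mk (n + 1)))) ((Hyper.cechCxSite K F).d n (n + 1) x) c =
      ∑ i : Fin (n + 2), (-1 : ℤ) ^ (i : ℕ) • val x (c ≫ K.δ i) := by
  have e : (Hyper.cechCxSite K F).d n (n + 1) = ∑ i : Fin (n + 2), (-1 : ℤ) ^ (i : ℕ) •
      ((FormalCoproduct.evalOp.{u} C AddCommGrpCat.{u}).obj F).map (K.δ i).op := by
    refine (CochainComplex.of_d
      (fun n => ((FormalCoproduct.cosimplicialObjectFunctor K).obj F).obj (SimplexCategory.mk n))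
      (AlgebraicTopology.AlternatingCofaceMapComplex.objD
        ((FormalCoproduct.cosimplicialObjectFunctor K).obj F)) n).trans ?_
    rfl
  rw [e]
  let w : (ev F (K.obj (op (SimplexCategory.mk n))) ⟶ ev F (K.obj (op (SimplexCategory.mk (n + 1))))) →+
      F.obj (op U) := AddMonoidHom.mk' (fun φ => valHom c (φ x)) fun a b => map_add (valHom c) _ _
  show w _ = _
  rw [map_sum]
  refine Finset.sum_congr rfl fun i _ => ?_
  rw [map_zsmul]
  exact congrArg _ (val_comp (K.δ i) x c)

theorem dP_comp_homOfVal (n : ℕ) (x : ev F (K.obj (op (SimplexCategory.mk n)))) :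
    dP (K ⋙ FormalCoproduct.yoneda) n ≫ homOfVal x = homOfVal ((Hyper.cechCxSite K F).d n (n + 1) x) := by
  refine NatTrans.ext (funext fun U => ConcreteCategory.hom_ext _ _ fun z => ?_)
  obtain ⟨U⟩ := U
  show (homOfVal x).app (op U) ((dP (K ⋙ FormalCoproduct.yoneda) n).app (op U) z) = _
  rw [dP_app]
  induction (z : Ch (K ⋙ FormalCoproduct.yoneda) (n + 1) U) using FreeAbelianGroup.induction_on with
  | zero => rw [map_zero]; exact (map_zero _).trans (map_zero _).symm
  | neg w ih => rw [map_neg]; exact (map_neg _ _).trans ((congrArg Neg.neg ih).trans (map_neg _ _).symm)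
  | add a b iha ihb =>
    rw [map_add]; exact (map_add _ _ _).trans ((congrArg₂ (· + ·) iha ihb).trans (map_add _ _ _).symm)
  | of e =>
    obtain ⟨s, rfl⟩ := el_surjective e
    refine Eq.trans ?_ ((cech_d_val K F n x s).symm.trans (homOfVal_of _ s).symm)
    rw [bd, FreeAbelianGroup.lift_apply_of]
    refine (map_sum ((homOfVal x).app (op U)).hom _ _).trans (Finset.sum_congr rfl fun i _ => ?_)
    refine (map_zsmul ((homOfVal x).app (op U)).hom _ _).trans (congrArg _ ?_)
    have : fc (K ⋙ FormalCoproduct.yoneda) i (el s) = el (s ≫ K.δ i) := (el_comp s (K.δ i)).symm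
    rw [this]
    exact homOfVal_of x (s ≫ K.δ i)

theorem isZero_cech_succ (J : GrothendieckTopology C) (hS : IsLocContr J (K ⋙ FormalCoproduct.yoneda))
    (I : Sheaf J AddCommGrpCat.{u}) [Injective I] (p : ℕ) :
    IsZero ((Hyper.cechCxSite K I.obj).homology (p + 1)) := by
  rw [← HomologicalComplex.exactAt_iff_isZero_homology,
    HomologicalComplex.exactAt_iff' _ p (p + 1) (p + 1 + 1) (by simp) (by simp), ShortComplex.ab_exact_iff]
  intro x hx
  change (Hyper.cechCxSite K I.obj).d (p + 1) (p + 1 + 1) x = 0 at hx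
  let S := K ⋙ FormalCoproduct.yoneda
  let adj := sheafificationAdjunction J AddCommGrpCat.{u}
  let φ : (presheafToSheaf J AddCommGrpCat.{u}).obj ((freeP S).obj (op (SimplexCategory.mk (p + 1)))) ⟶ I :=
    (adj.homEquiv _ _).symm (homOfVal (F := I.obj) x)
  have h0 : homOfVal (F := I.obj) (L := K.obj (op (SimplexCategory.mk (p + 1 + 1)))) 0 = 0 := by
    refine NatTrans.ext (funext fun U => ConcreteCategory.hom_ext _ _ fun z => ?_)
    show FreeAbelianGroup.lift _ _ = (0 : _)
    induction z using FreeAbelianGroup.induction_on with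
    | zero => simp
    | of e => rw [FreeAbelianGroup.lift_apply_of]; exact val_zero _
    | neg w ih => simp [ih]
    | add a b iha ihb => simp [iha, ihb]
  have hc : dP S (p + 1) ≫ homOfVal (F := I.obj) x = 0 := by rw [dP_comp_homOfVal, hx]; exact h0
  have hf : ((freeC J S).sc' (p + 1 + 1) (p + 1) p).f ≫ φ = 0 := by
    show (freeC J S).d (p + 1 + 1) (p + 1) ≫ φ = 0
    rw [freeC_d]
    refine (adj.homEquiv _ _).injective ?_
    rw [adj.homEquiv_naturality_left, Equiv.apply_symm_apply]
    refine hc.trans ?_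
    exact ((adj.homAddEquiv _ _).map_zero).symm
  have hex := exactAt_succ hS (J := J) p
  rw [HomologicalComplex.exactAt_iff' _ (p + 1 + 1) (p + 1) p (by simp) (by simp)] at hex
  let ψ : (presheafToSheaf J AddCommGrpCat.{u}).obj ((freeP S).obj (op (SimplexCategory.mk p))) ⟶ I :=
    hex.descToInjective φ hf
  have hψ : (presheafToSheaf J AddCommGrpCat.{u}).map (dP S p) ≫ ψ = φ := by
    rw [← freeC_d]
    exact hex.comp_descToInjective φ hf
  refine ⟨valOfHom (F := I.obj) (adj.homEquiv _ _ ψ), ev_ext (K := K.obj (op (SimplexCategory.mk (p + 1)))) fun i => ?_⟩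
  refine (cech_d_val K I.obj p _ _).trans ?_
  have h1 : dP S p ≫ adj.homEquiv _ _ ψ = homOfVal (F := I.obj) x := by
    rw [← adj.homEquiv_naturality_left, hψ]
    exact Equiv.apply_symm_apply _ _
  rw [← homOfVal_of x (pt i (𝟙 _)), ← h1]
  show _ = (adj.homEquiv _ _ ψ).app _ ((dP S p).app _ _)
  rw [dP_app, bd, FreeAbelianGroup.lift_apply_of, map_sum]
  refine Finset.sum_congr rfl fun k _ => ?_
  rw [map_zsmul, val_valOfHom, el_comp]
  rfl

end Groth.Agent.HyperH28
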