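import Groth.Agent.Lib.HyperH28.Fills
import Mathlib.CategoryTheory.Limits.Constructions.Over.Basic
import Mathlib.CategoryTheory.Limits.Constructions.FiniteProductsOfBinaryProducts
import Mathlib.CategoryTheory.Limits.Constructions.LimitsOfProductsAndEqualizers
import Mathlib.CategoryTheory.Limits.FormalCoproducts.Basic
import Mathlib.CategoryTheory.Limits.FunctorCategory.Shapes.Pullbacks

/-!
# Refinements of hypercoverings
-/

set_option autoImplicit false
set_option backward.isDefEq.respectTransparency false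
set_option backward.isDefEq.respectTransparency.types false

universe u

open CategoryTheory CategoryTheory.Limits Opposite

noncomputable section

namespace Groth.Agent.HyperH28

variable {C : Type u} [SmallCategory C]

section Power

variable (n : ℕ) [HasFiniteProducts (FormalCoproduct.{u} C)]

/-- The simplicial object right adjoint to evaluation at `n`. -/
def pw (Y : FormalCoproduct.{u} C) : SimplicialObject (FormalCoproduct.{u} C) where
  obj m := ∏ᶜ fun _ : (SimplexCategory.mk n ⟶ m.unop) => Y
  map f := Pi.lift fun g => Pi.π _ (g ≫ f.unop)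
  map_id m := Pi.hom_ext _ _ fun g => by simp
  map_comp f g := Pi.hom_ext _ _ fun h => by simp

theorem pw_map_π (Y : FormalCoproduct.{u} C) {m m' : SimplexCategoryᵒᵖ} (f : m ⟶ m')
    (g : SimplexCategory.mk n ⟶ m'.unop) :
    (pw n Y).map f ≫ Pi.π (fun _ : (SimplexCategory.mk n ⟶ m'.unop) => Y) g =
      Pi.π (fun _ : (SimplexCategory.mk n ⟶ m.unop) => Y) (g ≫ f.unop) :=
  Pi.lift_π _ _

/-- Functoriality. -/
def pwMap {Y Y' : FormalCoproduct.{u} C} (u : Y ⟶ Y') : pw n Y ⟶ pw n Y' where
  app m := Pi.lift fun g => Pi.π _ g ≫ u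
  naturality m m' f := Pi.hom_ext _ _ fun g => by
    simp [pw]

/-- The unit. -/
def toPw (K : SimplicialObject (FormalCoproduct.{u} C)) : K ⟶ pw n (K.obj (op (SimplexCategory.mk n))) where
  app m := Pi.lift fun g => K.map g.op
  naturality m m' f := Pi.hom_ext _ _ fun g => by
    simp [pw, ← Functor.map_comp]

theorem exists_refinement [HasPullbacks (FormalCoproduct.{u} C)] (J : GrothendieckTopology C)
    (K : SimplicialObject (FormalCoproduct.{u} C)) (hK : Fills J K) {Z : FormalCoproduct.{u} C}
    (u : Z ⟶ K.obj (op (SimplexCategory.mk n))) (hu : Hyper.IsSRCovering J u) :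
    ∃ (L : SimplicialObject (FormalCoproduct.{u} C)) (f : L ⟶ K) (g : L.obj (op (SimplexCategory.mk n)) ⟶ Z),
      Fills J L ∧ g ≫ u = f.app (op (SimplexCategory.mk n)) := by
  classical
  haveI : ∀ a b : ℕ, Fintype (SimplexCategory.mk a ⟶ SimplexCategory.mk b) := fun a b =>
    Fintype.ofInjective (fun g => (g.toOrderHom : Fin (a + 1) → Fin (b + 1)))
      fun g g' h => SimplexCategory.Hom.ext _ _ (OrderHom.ext _ _ h)
  let L := pullback (toPw n K) (pwMap n u)
  let f : L ⟶ K := pullback.fst _ _
  let s : L ⟶ pw n Z := pullback.snd _ _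
  let π := fun (m : ℕ) (g : SimplexCategory.mk n ⟶ SimplexCategory.mk m) =>
    Pi.π (fun _ : (SimplexCategory.mk n ⟶ SimplexCategory.mk m) => Z) g
  have hL := fun m : ℕ => (IsPullback.of_hasPullback (toPw n K) (pwMap n u)).map
    ((evaluation SimplexCategoryᵒᵖ (FormalCoproduct.{u} C)).obj (op (SimplexCategory.mk m)))
  have hw : ∀ (m : ℕ) (g : SimplexCategory.mk n ⟶ SimplexCategory.mk m),
      f.app (op (SimplexCategory.mk m)) ≫ K.map g.op = s.app (op (SimplexCategory.mk m)) ≫ π m g ≫ u := by
    intro m g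
    have h := congrArg (fun q => q ≫ Pi.π (fun _ : (SimplexCategory.mk n ⟶ SimplexCategory.mk m) =>
      K.obj (op (SimplexCategory.mk n))) g) (hL m).w
    simp [toPw, pwMap] at h
    exact h
  refine ⟨L, f, s.app _ ≫ π n (𝟙 _), ⟨fun U => ?_, fun m U y hy => ?_⟩, ?_⟩
  rotate_left 2
  · rw [Category.assoc, ← hw, op_id, K.map_id, Category.comp_id]
  · obtain ⟨S, hS, hS'⟩ := hK.zero U
    refine ⟨Sieve.bind S.arrows fun V g hg => Finset.univ.inf fun q : (SimplexCategory.mk n ⟶ SimplexCategory.mk 0) =>
      liftSieve u ((hS' g hg).some ≫ K.map q.op),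
      J.bind_covering hS fun V g hg => finset_inf_mem J _ (fun q : (SimplexCategory.mk n ⟶ SimplexCategory.mk _) => liftSieve u (_ ≫ K.map q.op)) fun q _ => (isSRCovering_iff J u).1 hu _ _, ?_⟩
    rintro W _ ⟨V, g', g, hg, hg', rfl⟩
    have : ∀ q : (SimplexCategory.mk n ⟶ SimplexCategory.mk 0), ∃ t : Pt W Z,
        t ≫ u = res g' ((hS' g hg).some ≫ K.map q.op) := fun q =>
      (Finset.inf_le (f := fun q : (SimplexCategory.mk n ⟶ SimplexCategory.mk 0) =>
        liftSieve u ((hS' g hg).some ≫ K.map q.op)) (Finset.mem_univ q)) _ hg'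
    choose t ht using this
    refine ⟨(hL 0).lift (res g' (hS' g hg).some) (Pi.lift t) (Pi.hom_ext _ _ fun q => ?_)⟩
    simp only [evaluation_obj_map, toPw, pwMap, Category.assoc, Pi.lift_π, Pi.lift_π_assoc]
    rw [ht q]
  · have natf : ∀ {l l' : SimplexCategoryᵒᵖ} (a : l ⟶ l'), L.map a ≫ f.app l' = f.app l ≫ K.map a :=
      fun a => f.naturality a
    have nats : ∀ {l l' : SimplexCategoryᵒᵖ} (a : l ⟶ l'), L.map a ≫ s.app l' = s.app l ≫ (pw n Z).map a :=
      fun a => s.naturality a
    let yK := fun j => y j ≫ f.app _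
    have hyK : Compat K yK := fun l j k α β h => by
      simp only [yK, Category.assoc, ← natf]
      rw [← Category.assoc, ← Category.assoc, hy l j k α β h]
    obtain ⟨S, hS, hS'⟩ := hK.fill m U yK hyK
    refine ⟨Sieve.bind S.arrows fun V g hg => Finset.univ.inf fun q : (SimplexCategory.mk n ⟶ SimplexCategory.mk (m + 1)) =>
      liftSieve u ((hS' g hg).choose ≫ K.map q.op),
      J.bind_covering hS fun V g hg => finset_inf_mem J _ (fun q : (SimplexCategory.mk n ⟶ SimplexCategory.mk _) => liftSieve u (_ ≫ K.map q.op)) fun q _ => (isSRCovering_iff J u).1 hu _ _, ?_⟩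
    rintro W _ ⟨V, g', g, hg, hg', rfl⟩
    have : ∀ q : (SimplexCategory.mk n ⟶ SimplexCategory.mk (m + 1)), ∃ t : Pt W Z,
        t ≫ u = res g' ((hS' g hg).choose ≫ K.map q.op) := fun q =>
      (Finset.inf_le (f := fun q : (SimplexCategory.mk n ⟶ SimplexCategory.mk (m + 1)) =>
        liftSieve u ((hS' g hg).choose ≫ K.map q.op)) (Finset.mem_univ q)) _ hg'
    choose t ht using this
    have he : ∀ j, res g' (hS' g hg).choose ≫ K.δ j = res (g' ≫ g) (yK j) := fun j => by
      rw [← res_res]
      exact (Category.assoc _ _ _).trans (congrArg _ ((hS' g hg).choose_spec j))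
    let z : ∀ q : (SimplexCategory.mk n ⟶ SimplexCategory.mk (m + 1)), Pt W Z := fun q =>
      if h : ∃ j : Fin (m + 2), ∀ x, q.toOrderHom x ≠ j then
        res (g' ≫ g) ((exists_bdry hy q h).choose ≫ s.app _ ≫ π n (𝟙 _))
      else t q
    have hz : ∀ q, z q ≫ u = res g' (hS' g hg).choose ≫ K.map q.op := by
      intro q
      by_cases h : ∃ j : Fin (m + 2), ∀ x, q.toOrderHom x ≠ j
      · simp only [z, dif_pos h]
        obtain ⟨j, hj⟩ := h
        obtain ⟨a, rfl⟩ := exists_factor q j hj
        rw [(exists_bdry hy _ ⟨j, hj⟩).choose_spec j a rfl, op_comp, K.map_comp,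
          ← Category.assoc (res g' (hS' g hg).choose)]
        refine Eq.trans ?_ (congrArg (· ≫ K.map a.op) (he j)).symm
        simp only [res, yK, Category.assoc]
        rw [← hw n (𝟙 _), op_id, K.map_id, Category.comp_id, natf]
      · simp only [z, dif_neg h]
        rw [ht q]
        exact (Category.assoc _ _ _).symm
    refine ⟨(hL (m + 1)).lift (res g' (hS' g hg).choose) (Pi.lift z) (Pi.hom_ext _ _ fun q => ?_), fun j => ?_⟩
    · simp only [evaluation_obj_map, toPw, pwMap, Category.assoc, Pi.lift_π, Pi.lift_π_assoc]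
      exact ((hz q).trans (Category.assoc _ _ _)).symm
    · refine (hL m).hom_ext ?_ ?_
      · show (_ ≫ L.map _) ≫ f.app _ = res _ (y j) ≫ f.app _
        rw [Category.assoc, natf, ← Category.assoc]
        refine (congrArg (· ≫ K.map _) ((hL (m + 1)).lift_fst _ _ _)).trans ?_
        exact (he j).trans (Category.assoc _ _ _).symm
      · show (_ ≫ L.map _) ≫ s.app _ = res _ (y j) ≫ s.app _
        rw [Category.assoc, nats, ← Category.assoc]
        refine (congrArg (· ≫ (pw n Z).map _) ((hL (m + 1)).lift_snd _ _ _)).trans (Pi.hom_ext _ _ fun a => ?_)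
        rw [Category.assoc]
        erw [pw_map_π, Pi.lift_π]
        have h : ∃ k : Fin (m + 2), ∀ x, (a ≫ SimplexCategory.δ j).toOrderHom x ≠ k :=
          ⟨j, fun x => Fin.succAbove_ne j _⟩
        show z (a ≫ SimplexCategory.δ j) = _
        simp only [z, dif_pos h]
        rw [(exists_bdry hy _ h).choose_spec j a rfl]
        simp only [res, Category.assoc]
        rw [reassoc_of% nats a.op]
        erw [pw_map_π]
        rw [Category.id_comp]
        rfl

end Power

section Over

variable [HasPullbacks C] (X : C)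

theorem exists_refinement_over (J : GrothendieckTopology C)
    [∀ (n : ℕ) (F : (SimplexCategory.Truncated n)ᵒᵖ ⥤ FormalCoproduct.{u} (Over X)),
      (SimplexCategory.Truncated.inclusion n).op.HasRightKanExtension F]
    (K : SimplicialObject (FormalCoproduct.{u} (Over X))) (hK : Hyper.IsHypercovering J X K) (n : ℕ)
    {Z : FormalCoproduct.{u} (Over X)} (u : Z ⟶ K.obj (op (SimplexCategory.mk n)))
    (hu : Hyper.IsSRCovering (J.over X) u) :
    ∃ (L : SimplicialObject (FormalCoproduct.{u} (Over X))) (f : L ⟶ K)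
      (g : L.obj (op (SimplexCategory.mk n)) ⟶ Z),
      Hyper.IsHypercovering J X L ∧ g ≫ u = f.app (op (SimplexCategory.mk n)) := by
  haveI : HasFiniteLimits (FormalCoproduct.{u} (Over X)) := hasFiniteLimits_of_hasTerminal_and_pullbacks
  obtain ⟨L, f, g, hL, hg⟩ := exists_refinement n (J.over X) K (fills_of_hypercovering J X hK) u hu
  exact ⟨L, f, g, isHypercovering_of_fills J X hL, hg⟩

end Over

end Groth.Agent.HyperH28
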