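import Groth.Agent.Lib.HyperH28.Acyclic
import Groth.Agent.Lib.HyperH28.Refine
import Groth.Prelude.Def_Hyper2
import Mathlib.Algebra.Homology.ConcreteCategory

/-!
# Classes in Čech cohomology of simplicial formal coproducts, elementwise
-/

set_option autoImplicit false
set_option backward.isDefEq.respectTransparency false
set_option backward.isDefEq.respectTransparency.types false

universe u

open CategoryTheory CategoryTheory.Limits Opposite

noncomputable section

namespace Groth.Agent.HyperH28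

section Complex

variable {A B : CochainComplex AddCommGrpCat.{u} ℕ}

theorem class_succ_eq_zero_iff (p : ℕ) (z : A.cycles (p + 1)) :
    A.homologyπ (p + 1) z = 0 ↔ ∃ y, A.d p (p + 1) y = A.iCycles (p + 1) z := by
  have hex := (ShortComplex.ab_exact_iff _).1
    (ShortComplex.exact_of_g_is_cokernel (ShortComplex.mk _ _ (A.toCycles_comp_homologyπ p (p + 1)))
      (A.homologyIsCokernel p (p + 1) (by simp)))
  constructor
  · intro h
    obtain ⟨y, hy⟩ := hex z h
    exact ⟨y, (ConcreteCategory.congr_hom (A.toCycles_i p (p + 1)) y).symm.trans (congrArg _ hy)⟩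
  · rintro ⟨y, hy⟩
    have : A.toCycles p (p + 1) y = z :=
      (AddCommGrpCat.mono_iff_injective (A.iCycles (p + 1))).1 inferInstance
        ((ConcreteCategory.congr_hom (A.toCycles_i p (p + 1)) y).trans hy)
    rw [← this]
    exact ConcreteCategory.congr_hom (A.toCycles_comp_homologyπ p (p + 1)) y

theorem class_zero_eq_zero_iff (z : A.cycles 0) : A.homologyπ 0 z = 0 ↔ A.iCycles 0 z = 0 := by
  constructor
  · intro h
    have : z = 0 := by
      have hinj : Function.Injective (A.homologyπ 0) :=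
        (AddCommGrpCat.mono_iff_injective _).1 inferInstance
      exact hinj (h.trans (map_zero _).symm)
    rw [this, map_zero]
  · intro h
    rw [(AddCommGrpCat.mono_iff_injective (A.iCycles 0)).1 inferInstance (h.trans (map_zero _).symm), map_zero]

/-- A cocycle as a cycle. -/
def mkCycle (n : ℕ) (x : A.X n) (hx : A.d n (n + 1) x = 0) : A.cycles n :=
  ((ShortComplex.ab_exact_iff _).1 (ShortComplex.exact_of_f_is_kernel (ShortComplex.mk _ _ (A.iCycles_d n (n + 1)))
    (A.cyclesIsKernel n (n + 1) (by simp))) x hx).choose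

theorem iCycles_mkCycle (n : ℕ) (x : A.X n) (hx : A.d n (n + 1) x = 0) :
    A.iCycles n (mkCycle n x hx) = x :=
  ((ShortComplex.ab_exact_iff _).1 (ShortComplex.exact_of_f_is_kernel (ShortComplex.mk _ _ (A.iCycles_d n (n + 1)))
    (A.cyclesIsKernel n (n + 1) (by simp))) x hx).choose_spec

theorem homologyMap_class (φ : A ⟶ B) (n : ℕ) (z : A.cycles n) :
    ∃ z' : B.cycles n, HomologicalComplex.homologyMap φ n (A.homologyπ n z) = B.homologyπ n z' ∧
      B.iCycles n z' = φ.f n (A.iCycles n z) :=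
  ⟨HomologicalComplex.cyclesMap φ n z,
    ConcreteCategory.congr_hom (HomologicalComplex.homologyπ_naturality φ n) z,
    ConcreteCategory.congr_hom (HomologicalComplex.cyclesMap_i φ n) z⟩

theorem exists_rep (n : ℕ) (ξ : A.homology n) :
    ∃ z : A.cycles n, A.homologyπ n z = ξ ∧ A.d n (n + 1) (A.iCycles n z) = 0 := by
  obtain ⟨z, rfl⟩ := (AddCommGrpCat.epi_iff_surjective (A.homologyπ n)).1 inferInstance ξ
  exact ⟨z, rfl, ConcreteCategory.congr_hom (A.iCycles_d n (n + 1)) z⟩

end Complex

section Hyper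

variable {C : Type u} [SmallCategory C] (X : C) {K L : SimplicialObject (FormalCoproduct.{u} (Over X))}
  (f : L ⟶ K) (P : Cᵒᵖ ⥤ AddCommGrpCat.{u})

/-- Pull back of cochains. -/
def pull (n : ℕ) (x : ev ((Over.forget X).op ⋙ P) (K.obj (op (SimplexCategory.mk n)))) :
    ev ((Over.forget X).op ⋙ P) (L.obj (op (SimplexCategory.mk n))) :=
  (Hyper.cechMap X f P).f n x

theorem val_pull (n : ℕ) (x : ev ((Over.forget X).op ⋙ P) (K.obj (op (SimplexCategory.mk n)))) {U : Over X}
    (s : Pt U (L.obj (op (SimplexCategory.mk n)))) :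
    val (pull X f P n x) s = val x (s ≫ f.app (op (SimplexCategory.mk n))) :=
  val_comp _ x s

theorem pull_d (n : ℕ) (x : ev ((Over.forget X).op ⋙ P) (K.obj (op (SimplexCategory.mk n)))) :
    pull X f P (n + 1) ((Hyper.cechCx X K P).d n (n + 1) x) =
      (Hyper.cechCx X L P).d n (n + 1) (pull X f P n x) :=
  (ConcreteCategory.congr_hom ((Hyper.cechMap X f P).comm n (n + 1)) x).symm

theorem cechHMap_succ_eq_zero_iff (p : ℕ) (z : (Hyper.cechCx X K P).cycles (p + 1)) :
    Hyper.cechHMap X f P (p + 1) ((Hyper.cechCx X K P).homologyπ (p + 1) z) = 0 ↔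
      ∃ y, (Hyper.cechCx X L P).d p (p + 1) y = pull X f P (p + 1) ((Hyper.cechCx X K P).iCycles (p + 1) z) := by
  obtain ⟨z', h, h'⟩ := homologyMap_class (Hyper.cechMap X f P) (p + 1) z
  show HomologicalComplex.homologyMap (Hyper.cechMap X f P) (p + 1) _ = 0 ↔ _
  rw [h, class_succ_eq_zero_iff, h']
  rfl

theorem cechHMap_zero_eq_zero_iff (z : (Hyper.cechCx X K P).cycles 0) :
    Hyper.cechHMap X f P 0 ((Hyper.cechCx X K P).homologyπ 0 z) = 0 ↔
      pull X f P 0 ((Hyper.cechCx X K P).iCycles 0 z) = 0 := by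
  obtain ⟨z', h, h'⟩ := homologyMap_class (Hyper.cechMap X f P) 0 z
  show HomologicalComplex.homologyMap (Hyper.cechMap X f P) 0 _ = 0 ↔ _
  rw [h, class_zero_eq_zero_iff, h']
  rfl

end Hyper

section Refine

variable {C : Type u} [SmallCategory C] [HasPullbacks C] (J : GrothendieckTopology C) (X : C)
  [∀ (n : ℕ) (F : (SimplexCategory.Truncated n)ᵒᵖ ⥤ FormalCoproduct.{u} (Over X)),
      (SimplexCategory.Truncated.inclusion n).op.HasRightKanExtension F]

theorem exists_refinement_sieve (K : SimplicialObject (FormalCoproduct.{u} (Over X)))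
    (hK : Hyper.IsHypercovering J X K) (n : ℕ)
    (S : ∀ i : (K.obj (op (SimplexCategory.mk n))).I, Sieve ((K.obj (op (SimplexCategory.mk n))).obj i).left)
    (hS : ∀ i, S i ∈ J _) :
    ∃ (L : SimplicialObject (FormalCoproduct.{u} (Over X))) (f : L ⟶ K), Hyper.IsHypercovering J X L ∧
      ∀ {U : Over X} (s : Pt U (L.obj (op (SimplexCategory.mk n)))),
        ∃ (i : (K.obj (op (SimplexCategory.mk n))).I) (a : U ⟶ (K.obj (op (SimplexCategory.mk n))).obj i),
          s ≫ f.app (op (SimplexCategory.mk n)) = pt i a ∧ S i a.left := by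
  let K' := K.obj (op (SimplexCategory.mk n))
  let Z : FormalCoproduct.{u} (Over X) :=
    ⟨Σ i : K'.I, Σ V : Over X, {a : V ⟶ K'.obj i // S i a.left}, fun q => q.2.1⟩
  let u : Z ⟶ K' := { f := fun q => q.1, φ := fun q => q.2.2.1 }
  have hu : Hyper.IsSRCovering (J.over X) u := by
    rw [isSRCovering_iff]
    intro U s
    obtain ⟨i, a, rfl⟩ := exists_pt s
    refine (J.over X).superset_covering ?_ (GrothendieckTopology.overEquiv_symm_mem_over J U _
      (J.pullback_stable a.left (hS i)))
    intro V g hg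
    rw [Sieve.overEquiv_symm_iff, Sieve.pullback_apply] at hg
    exact ⟨pt (K := Z) ⟨i, V, g ≫ a, by rw [Over.comp_left]; exact hg⟩ (𝟙 V), by
      rw [pt_comp, res_pt, Category.id_comp]⟩
  obtain ⟨L, f, g, hL, hg⟩ := exists_refinement_over X J K hK n u hu
  refine ⟨L, f, hL, fun s => ?_⟩
  rw [← hg, ← Category.assoc]
  obtain ⟨⟨i, V, a, ha⟩, b, e⟩ := exists_pt (s ≫ g)
  refine ⟨i, b ≫ a, by rw [e]; rfl, ?_⟩
  rw [Over.comp_left]
  exact (S i).downward_closed ha _

end Refine

end Groth.Agent.HyperH28
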