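import Groth.Agent.Lib.HyperH28.HoFill
import Groth.Agent.Lib.HyperH28.Refine

/-!
# Hypercoverings form a cofiltered category up to homotopy
-/

set_option autoImplicit false
set_option backward.isDefEq.respectTransparency false
set_option backward.isDefEq.respectTransparency.types false

universe u

open CategoryTheory CategoryTheory.Limits Opposite

noncomputable section

namespace Groth.Agent.HyperH28

variable {C : Type u} [SmallCategory C] {J : GrothendieckTopology C}
  [HasFiniteLimits (FormalCoproduct.{u} C)] {K L : SimplicialObject (FormalCoproduct.{u} C)}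

theorem fills_prod (hK : Fills J K) (hL : Fills J L) : Fills J (K ⨯ L) := by
  have hP := fun m : ℕ => isLimitOfHasBinaryProductOfPreservesLimit
    ((evaluation SimplexCategoryᵒᵖ (FormalCoproduct.{u} C)).obj (op (SimplexCategory.mk m))) K L
  let p1 : K ⨯ L ⟶ K := prod.fst
  let p2 : K ⨯ L ⟶ L := prod.snd
  refine ⟨fun U => ?_, fun n U y hy => ?_⟩
  · obtain ⟨S, hS, hS'⟩ := hK.zero U
    obtain ⟨T, hT, hT'⟩ := hL.zero U
    refine ⟨S ⊓ T, J.intersection_covering hS hT, fun V g hg => ?_⟩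
    exact ⟨(BinaryFan.IsLimit.lift' (hP 0) (hS' g hg.1).some (hT' g hg.2).some).1⟩
  · have n1 : ∀ {l l' : SimplexCategoryᵒᵖ} (f : l ⟶ l'), (K ⨯ L).map f ≫ p1.app l' = p1.app l ≫ K.map f :=
      fun f => p1.naturality f
    have n2 : ∀ {l l' : SimplexCategoryᵒᵖ} (f : l ⟶ l'), (K ⨯ L).map f ≫ p2.app l' = p2.app l ≫ L.map f :=
      fun f => p2.naturality f
    obtain ⟨S, hS, hS'⟩ := hK.fill n U (fun j => y j ≫ p1.app _) fun l j k α β h => by
      simp only [Category.assoc, ← n1]
      rw [← Category.assoc, ← Category.assoc, hy l j k α β h]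
    obtain ⟨T, hT, hT'⟩ := hL.fill n U (fun j => y j ≫ p2.app _) fun l j k α β h => by
      simp only [Category.assoc, ← n2]
      rw [← Category.assoc, ← Category.assoc, hy l j k α β h]
    refine ⟨S ⊓ T, J.intersection_covering hS hT, fun V g hg => ?_⟩
    obtain ⟨e, he⟩ := hS' g hg.1
    obtain ⟨e', he'⟩ := hT' g hg.2
    obtain ⟨z, h1, h2⟩ := BinaryFan.IsLimit.lift' (hP (n + 1)) e e'
    refine ⟨z, fun j => BinaryFan.IsLimit.hom_ext (hP n) ?_ ?_⟩
    · show (z ≫ (K ⨯ L).map _) ≫ p1.app _ = res g (y j) ≫ p1.app _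
      rw [Category.assoc, n1, ← Category.assoc]
      exact ((congrArg (· ≫ K.map _) h1).trans (he j)).trans (Category.assoc _ _ _).symm
    · show (z ≫ (K ⨯ L).map _) ≫ p2.app _ = res g (y j) ≫ p2.app _
      rw [Category.assoc, n2, ← Category.assoc]
      exact ((congrArg (· ≫ L.map _) h2).trans (he' j)).trans (Category.assoc _ _ _).symm

theorem exists_common_refinement (hK : Fills J K) (hL : Fills J L) :
    (∃ (M : SimplicialObject (FormalCoproduct.{u} C)) (_ : M ⟶ K) (_ : M ⟶ L), Fills J M) ∧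
      ∀ a b : K ⟶ L, ∃ (M : SimplicialObject (FormalCoproduct.{u} C)) (c : M ⟶ K),
        Fills J M ∧ Nonempty (SimplicialObject.Homotopy (c ≫ a) (c ≫ b)) :=
  ⟨⟨K ⨯ L, prod.fst, prod.snd, fills_prod hK hL⟩,
    fun a b => ⟨hoEq a b, hoProj a b, fills_hoEq a b hK hL, ⟨hoHomotopy a b⟩⟩⟩

end Groth.Agent.HyperH28
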