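import Groth.Agent.Lib.HyperH28.Kill
import Mathlib.CategoryTheory.Sites.LocallySurjective

/-!
# Vanishing of sheaf cohomology via hypercovering classes
-/

set_option autoImplicit false
set_option backward.isDefEq.respectTransparency false
set_option backward.isDefEq.respectTransparency.types false

universe u

open CategoryTheory CategoryTheory.Limits Opposite Groth.Agent.SiteCoh

noncomputable section

namespace Groth.Agent.HyperH28

variable {C : Type u} [SmallCategory C] (X : C)

section Pull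

variable {K L M : SimplicialObject (FormalCoproduct.{u} (Over X))} (P : Cᵒᵖ ⥤ AddCommGrpCat.{u})

theorem pull_id (n : ℕ) (x : ev ((Over.forget X).op ⋙ P) (K.obj (op (SimplexCategory.mk n)))) :
    pull X (𝟙 K) P n x = x :=
  ev_ext fun i => by rw [val_pull, NatTrans.id_app, Category.comp_id]

theorem pull_comp (g : M ⟶ L) (f : L ⟶ K) (n : ℕ)
    (x : ev ((Over.forget X).op ⋙ P) (K.obj (op (SimplexCategory.mk n)))) :
    pull X (g ≫ f) P n x = pull X g P n (pull X f P n x) :=
  ev_ext fun i => by rw [val_pull, val_pull, val_pull, NatTrans.comp_app, Category.assoc]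

theorem pull_sub (f : L ⟶ K) (n : ℕ) (x y : ev ((Over.forget X).op ⋙ P) (K.obj (op (SimplexCategory.mk n)))) :
    pull X f P n (x - y) = pull X f P n x - pull X f P n y :=
  map_sub ((Hyper.cechMap X f P).f n).hom x y

theorem pull_zero (f : L ⟶ K) (n : ℕ) : pull X f P n 0 = 0 := map_zero ((Hyper.cechMap X f P).f n).hom

variable {P} {Q : Cᵒᵖ ⥤ AddCommGrpCat.{u}} (φ : P ⟶ Q)

theorem mapEv_pull (f : L ⟶ K) (n : ℕ) (x : ev ((Over.forget X).op ⋙ P) (K.obj (op (SimplexCategory.mk n)))) :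
    mapEv (Functor.whiskerLeft (Over.forget X).op φ) (pull X f P n x) =
      pull X f Q n (mapEv (Functor.whiskerLeft (Over.forget X).op φ) x) :=
  ev_ext fun i => by rw [val_mapEv, val_pull, val_pull, val_mapEv]

theorem mapEv_sub {D : Type u} [SmallCategory D] {A B : Dᵒᵖ ⥤ AddCommGrpCat.{u}} (ψ : A ⟶ B)
    {R : FormalCoproduct.{u} D} (x y : ev A R) : mapEv ψ (x - y) = mapEv ψ x - mapEv ψ y :=
  ev_ext fun i => by rw [val_mapEv, val_sub, val_sub, val_mapEv, val_mapEv, map_sub]

theorem mapEv_zero {D : Type u} [SmallCategory D] {A B : Dᵒᵖ ⥤ AddCommGrpCat.{u}} (ψ : A ⟶ B)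
    {R : FormalCoproduct.{u} D} : mapEv ψ (0 : ev A R) = 0 :=
  ev_ext fun i => by rw [val_mapEv, val_zero, map_zero, val_zero]

end Pull

/-- All classes die on refinements, elementwise. -/
def DiesZero (J : GrothendieckTopology C)
    [∀ (n : ℕ) (F : (SimplexCategory.Truncated n)ᵒᵖ ⥤ FormalCoproduct.{u} (Over X)),
      (SimplexCategory.Truncated.inclusion n).op.HasRightKanExtension F] (P : Cᵒᵖ ⥤ AddCommGrpCat.{u}) : Prop :=
  ∀ K, Hyper.IsHypercovering J X K → ∀ x : ev ((Over.forget X).op ⋙ P) (K.obj (op (SimplexCategory.mk 0))),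
    (Hyper.cechCx X K P).d 0 (0 + 1) x = 0 →
    ∃ (L : SimplicialObject (FormalCoproduct.{u} (Over X))) (f : L ⟶ K), Hyper.IsHypercovering J X L ∧
      pull X f P 0 x = 0

/-- All classes die on refinements, elementwise, in positive degree. -/
def DiesSucc (J : GrothendieckTopology C)
    [∀ (n : ℕ) (F : (SimplexCategory.Truncated n)ᵒᵖ ⥤ FormalCoproduct.{u} (Over X)),
      (SimplexCategory.Truncated.inclusion n).op.HasRightKanExtension F] (P : Cᵒᵖ ⥤ AddCommGrpCat.{u}) (p : ℕ) :
    Prop :=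
  ∀ K, Hyper.IsHypercovering J X K →
    ∀ x : ev ((Over.forget X).op ⋙ P) (K.obj (op (SimplexCategory.mk (p + 1)))),
    (Hyper.cechCx X K P).d (p + 1) (p + 1 + 1) x = 0 →
    ∃ (L : SimplicialObject (FormalCoproduct.{u} (Over X))) (f : L ⟶ K), Hyper.IsHypercovering J X L ∧
      ∃ y, (Hyper.cechCx X L P).d p (p + 1) y = pull X f P (p + 1) x

variable (J : GrothendieckTopology C)
  [∀ (n : ℕ) (F : (SimplexCategory.Truncated n)ᵒᵖ ⥤ FormalCoproduct.{u} (Over X)),
      (SimplexCategory.Truncated.inclusion n).op.HasRightKanExtension F]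

theorem forall_class_dies_iff_zero (P : Cᵒᵖ ⥤ AddCommGrpCat.{u}) :
    (∀ K, Hyper.IsHypercovering J X K → ∀ ξ : Hyper.cechH X K P 0,
      ∃ (L : SimplicialObject (FormalCoproduct.{u} (Over X))) (f : L ⟶ K),
        Hyper.IsHypercovering J X L ∧ Hyper.cechHMap X f P 0 ξ = 0) ↔ DiesZero X J P := by
  constructor
  · intro h K hK x hx
    obtain ⟨L, f, hL, hf⟩ := h K hK ((Hyper.cechCx X K P).homologyπ 0 (mkCycle 0 x hx))
    rw [cechHMap_zero_eq_zero_iff, iCycles_mkCycle] at hf
    exact ⟨L, f, hL, hf⟩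
  · intro h K hK ξ
    obtain ⟨z, rfl, hz⟩ := exists_rep 0 ξ
    obtain ⟨L, f, hL, hf⟩ := h K hK _ hz
    exact ⟨L, f, hL, (cechHMap_zero_eq_zero_iff X f P z).2 hf⟩

theorem forall_class_dies_iff_succ (P : Cᵒᵖ ⥤ AddCommGrpCat.{u}) (p : ℕ) :
    (∀ K, Hyper.IsHypercovering J X K → ∀ ξ : Hyper.cechH X K P (p + 1),
      ∃ (L : SimplicialObject (FormalCoproduct.{u} (Over X))) (f : L ⟶ K),
        Hyper.IsHypercovering J X L ∧ Hyper.cechHMap X f P (p + 1) ξ = 0) ↔ DiesSucc X J P p := by
  constructor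
  · intro h K hK x hx
    obtain ⟨L, f, hL, hf⟩ := h K hK ((Hyper.cechCx X K P).homologyπ (p + 1) (mkCycle (p + 1) x hx))
    rw [cechHMap_succ_eq_zero_iff, iCycles_mkCycle] at hf
    exact ⟨L, f, hL, hf⟩
  · intro h K hK ξ
    obtain ⟨z, rfl, hz⟩ := exists_rep (p + 1) ξ
    obtain ⟨L, f, hL, hf⟩ := h K hK _ hz
    exact ⟨L, f, hL, (cechHMap_succ_eq_zero_iff X f P p z).2 hf⟩

/-- The constant simplicial object on `X`. -/
def trivHyp : SimplicialObject (FormalCoproduct.{u} (Over X)) :=
  (Functor.const SimplexCategoryᵒᵖ).obj ((FormalCoproduct.incl.{u} (Over X)).obj (Over.mk (𝟙 X)))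

theorem isHypercovering_trivHyp : Hyper.IsHypercovering J X (trivHyp X) := by
  refine isHypercovering_of_fills J X ⟨fun U => ⟨⊤, (J.over X).top_mem U,
    fun V g _ => ⟨(FormalCoproduct.incl _).map (Over.mkIdTerminal.from V)⟩⟩,
    fun n U y hy => ⟨⊤, (J.over X).top_mem U, fun V g _ =>
      ⟨(FormalCoproduct.incl _).map (Over.mkIdTerminal.from V), fun j => ?_⟩⟩⟩
  refine (FormalCoproduct.hom_ext_iff' _ _).2 fun i => ⟨rfl, Over.mkIdTerminal.hom_ext _ _⟩

section Sections

variable (F : Sheaf J AddCommGrpCat.{u})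

theorem section_eq_zero {K : SimplicialObject (FormalCoproduct.{u} (Over X))} (hK : Hyper.IsHypercovering J X K)
    (a : F.obj.obj (op X))
    (h : ∀ {U : Over X} (_ : Pt U (K.obj (op (SimplexCategory.mk 0)))), F.obj.map U.hom.op a = 0) : a = 0 := by
  have hF : Presieve.IsSheaf J (F.obj ⋙ forget AddCommGrpCat.{u}) :=
    (isSheaf_iff_isSheaf_of_type _ _).1 ((Presheaf.isSheaf_iff_isSheaf_forget J F.obj (forget _)).1 F.2)
  refine (hF _ hK.1).isSeparatedFor.ext fun V g hg => ?_
  rw [Sieve.mem_ofArrows_iff] at hg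
  obtain ⟨i, b, rfl⟩ := hg
  show F.obj.map _ a = F.obj.map _ 0
  rw [map_zero, op_comp, F.obj.map_comp, ConcreteCategory.comp_apply, h (pt i (𝟙 _)), map_zero]

theorem exists_section {K : SimplicialObject (FormalCoproduct.{u} (Over X))} (hK : Hyper.IsHypercovering J X K)
    (x : ev (F.over X).obj (K.obj (op (SimplexCategory.mk 0))))
    (hx : (Hyper.cechCxSite K (F.over X).obj).d 0 (0 + 1) x = 0) :
    ∃ a : F.obj.obj (op X), ∀ {U : Over X} (s : Pt U (K.obj (op (SimplexCategory.mk 0)))),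
      val x s = F.obj.map U.hom.op a := by
  obtain ⟨a, ha⟩ := exists_section_of_cocycle (J.over X) Over.mkIdTerminal
    (isZeroOneCover_of_hypercovering J X K hK) (F.over X) x hx
  refine ⟨a, fun {U} s => (ha s).trans ?_⟩
  have e : (Over.mkIdTerminal.from U).left = U.hom :=
    (Category.comp_id _).symm.trans (Over.w (Over.mkIdTerminal.from U))
  exact congrArg (fun f => F.obj.map f.op a) e

/-- A section as a cochain. -/
def secCochain (K : SimplicialObject (FormalCoproduct.{u} (Over X))) (a : F.obj.obj (op X)) :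
    ev (F.over X).obj (K.obj (op (SimplexCategory.mk 0))) :=
  evMk fun k => F.obj.map ((K.obj (op (SimplexCategory.mk 0))).obj k).hom.op a

theorem val_secCochain (K : SimplicialObject (FormalCoproduct.{u} (Over X))) (a : F.obj.obj (op X)) {U : Over X}
    (s : Pt U (K.obj (op (SimplexCategory.mk 0)))) : val (secCochain X J F K a) s = F.obj.map U.hom.op a := by
  obtain ⟨k, c, rfl⟩ := exists_pt s
  rw [secCochain, val_evMk]
  refine (ConcreteCategory.comp_apply _ _ _).symm.trans ?_
  show (F.obj.map _ ≫ F.obj.map c.left.op) a = _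
  rw [← F.obj.map_comp, ← op_comp, Over.w]

theorem secCochain_cocycle (K : SimplicialObject (FormalCoproduct.{u} (Over X))) (a : F.obj.obj (op X)) :
    (Hyper.cechCxSite K (F.over X).obj).d 0 (0 + 1) (secCochain X J F K a) = 0 := by
  refine cocycle_of_section Over.mkIdTerminal _ _ a fun {U} s => ?_
  rw [val_secCochain]
  have e : (Over.mkIdTerminal.from U).left = U.hom :=
    (Category.comp_id _).symm.trans (Over.w (Over.mkIdTerminal.from U))
  exact congrArg (fun f => F.obj.map f.op a) e.symm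

theorem subsingleton_HU_zero_iff (U : C) :
    Subsingleton (CohSite.HU F 0 U) ↔ Subsingleton (F.obj.obj (op U)) :=
  ((Equiv.ofBijective _ (Abelian.Ext.mk₀_bijective (fr J U) F)).symm.trans (secEquiv U F)).subsingleton_congr

end Sections

variable [HasPullbacks C]

theorem subsingleton_HU_zero_iff_dies (F : Sheaf J AddCommGrpCat.{u}) :
    Subsingleton (CohSite.HU F 0 X) ↔ DiesZero X J F.obj := by
  rw [subsingleton_HU_zero_iff]
  constructor
  · intro h K hK x hx
    obtain ⟨a, ha⟩ := exists_section X J F hK x hx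
    refine ⟨K, 𝟙 K, hK, ?_⟩
    rw [pull_id]
    refine ev_ext fun i => (ha _).trans ?_
    rw [h.elim a 0, map_zero]
    exact (val_zero (F := (Over.forget X).op ⋙ F.obj) _).symm
  · intro h
    refine subsingleton_of_forall_eq 0 fun a => ?_
    obtain ⟨L, f, hL, hf⟩ := h _ (isHypercovering_trivHyp X J) (secCochain X J F _ a)
      (secCochain_cocycle X J F _ a)
    refine section_eq_zero X J F hL a fun {U} s => ?_
    rw [← val_secCochain X J F _ a (s ≫ f.app _)]
    exact ((val_pull X f F.obj 0 _ s).symm.trans (congrArg (fun w => val w s) hf)).trans (val_zero _)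

section Seq

variable {F I Q : Sheaf J AddCommGrpCat.{u}} {i : F ⟶ I} {g : I ⟶ Q} {w : i ≫ g = 0}
  (hS : (ShortComplex.mk i g w).ShortExact)

/-- `i` on the slice. -/
abbrev iX (i : F ⟶ I) : (Over.forget X).op ⋙ F.obj ⟶ (Over.forget X).op ⋙ I.obj :=
  Functor.whiskerLeft (Over.forget X).op i.hom

include hS

theorem i_injective (U : Over X) : Function.Injective ((iX X J i).app (op U)) := by
  haveI := hS.mono_f
  haveI : Mono i.hom := inferInstanceAs (Mono ((sheafToPresheaf J AddCommGrpCat.{u}).map i))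
  exact (AddCommGrpCat.mono_iff_injective _).1 (inferInstanceAs (Mono (i.hom.app (op U.left))))

theorem exists_of_g_eq_zero {U : Over X} (b : I.obj.obj (op U.left)) (hb : g.hom.app (op U.left) b = 0) :
    ∃ a, (iX X J i).app (op U) a = b := by
  haveI := hS.mono_f
  exact (ShortComplex.ab_exact_iff _).1 (hS.exact.map_of_mono_of_preservesKernel
    (sheafToPresheaf J AddCommGrpCat.{u} ⋙ (evaluation Cᵒᵖ AddCommGrpCat.{u}).obj (op U.left))
    inferInstance inferInstance) b hb

theorem exists_mapEv_i {R : FormalCoproduct.{u} (Over X)} (y : ev ((Over.forget X).op ⋙ I.obj) R)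
    (hy : mapEv (iX X J g) y = 0) : ∃ v, mapEv (iX X J i) v = y :=
  exists_mapEv_eq _ _ fun k => exists_of_g_eq_zero X J hS _
    ((val_mapEv (iX X J g) y _).symm.trans ((congrArg (fun a => val a _) hy).trans (val_zero _)))

omit [HasPullbacks C] in
theorem g_i_eq_zero {R : FormalCoproduct.{u} (Over X)} (x : ev ((Over.forget X).op ⋙ F.obj) R) :
    mapEv (iX X J g) (mapEv (iX X J i) x) = 0 :=
  ev_ext fun k => by
    rw [val_mapEv, val_mapEv, val_zero]
    exact ConcreteCategory.congr_hom (congrArg (fun (φ : F ⟶ Q) => φ.hom.app (op _)) w) _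

theorem exists_cochain_over [Injective I] {K : SimplicialObject (FormalCoproduct.{u} (Over X))}
    (hK : Hyper.IsHypercovering J X K) (p : ℕ)
    (x : ev ((Over.forget X).op ⋙ F.obj) (K.obj (op (SimplexCategory.mk (p + 1)))))
    (hx : (Hyper.cechCx X K F.obj).d (p + 1) (p + 1 + 1) x = 0) :
    ∃ y : ev ((Over.forget X).op ⋙ I.obj) (K.obj (op (SimplexCategory.mk p))),
      (Hyper.cechCx X K I.obj).d p (p + 1) y = mapEv (iX X J i) x ∧
      (Hyper.cechCx X K Q.obj).d p (p + 1) (mapEv (iX X J g) y) = 0 := by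
  haveI : Injective (I.over X) := injective_restrict J X I inferInstance
  have hI := isZero_cech_succ K (J.over X)
    (isLocContr_of_site K (J.over X) (isHypercoveringSite_over J X K hK)) (I.over X) p
  rw [← HomologicalComplex.exactAt_iff_isZero_homology,
    HomologicalComplex.exactAt_iff' _ p (p + 1) (p + 1 + 1) (by simp) (by simp), ShortComplex.ab_exact_iff] at hI
  have hx' : (Hyper.cechCx X K I.obj).d (p + 1) (p + 1 + 1) (mapEv (iX X J i) x) = 0 := by
    rw [← mapEv_d, hx]
    exact mapEv_zero _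
  obtain ⟨(y : ev ((Over.forget X).op ⋙ I.obj) (K.obj (op (SimplexCategory.mk p)))), hy⟩ := hI _ hx'
  refine ⟨y, hy, ?_⟩
  rw [← mapEv_d]
  exact (congrArg (mapEv (iX X J g)) hy).trans (g_i_eq_zero X J hS x)

theorem exists_primitive {K : SimplicialObject (FormalCoproduct.{u} (Over X))} (p : ℕ)
    (x : ev ((Over.forget X).op ⋙ F.obj) (K.obj (op (SimplexCategory.mk (p + 1)))))
    (y z : ev ((Over.forget X).op ⋙ I.obj) (K.obj (op (SimplexCategory.mk p))))
    (hy : (Hyper.cechCx X K I.obj).d p (p + 1) y = mapEv (iX X J i) x)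
    (hz : (Hyper.cechCx X K I.obj).d p (p + 1) z = 0) (hzy : mapEv (iX X J g) z = mapEv (iX X J g) y) :
    ∃ v, (Hyper.cechCx X K F.obj).d p (p + 1) v = x := by
  obtain ⟨v, hv⟩ := exists_mapEv_i X J hS (y - z) (by rw [mapEv_sub, hzy, sub_self])
  refine ⟨v, mapEv_injective (iX X J i) (i_injective X J hS) ?_⟩
  rw [mapEv_d, hv]
  exact ((map_sub _ y z).trans (congrArg₂ (· - ·) hy hz)).trans (sub_zero _)

theorem imageSieve_g (U : C) (q : Q.obj.obj (op U)) : Presheaf.imageSieve g.hom q ∈ J U := by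
  haveI := hS.epi_g
  haveI : Sheaf.IsLocallySurjective g := (Sheaf.isLocallySurjective_iff_epi' AddCommGrpCat.{u} g).2 inferInstance
  exact Presheaf.imageSieve_mem J g.hom q

theorem dies_one_iff [Injective I] : Subsingleton (CohSite.HU F 1 X) ↔ DiesSucc X J F.obj 0 := by
  constructor
  · intro h K hK x hx
    obtain ⟨y, hy, hgy⟩ := exists_cochain_over X J hS hK 0 x hx
    obtain ⟨a, ha⟩ := exists_section X J Q hK _ hgy
    obtain ⟨b, hb⟩ := surjective_sections X hS h a
    refine ⟨K, 𝟙 K, hK, ?_⟩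
    rw [pull_id]
    refine exists_primitive X J hS 0 x y (secCochain X J I K b) hy (secCochain_cocycle X J I K b)
      (ev_ext fun k => (val_mapEv _ _ _).trans ?_)
    refine (congrArg _ (val_secCochain X J I K b _)).trans ?_
    refine (NatTrans.naturality_apply g.hom _ b).trans ?_
    exact (congrArg _ hb).trans (ha _).symm
  · intro h
    refine subsingleton_HU_one X hS (fun a => ?_) (subsingleton_HU_of_injective X I 0)
    obtain ⟨K, f, hK, y, hy⟩ := exists_refinement_lift J X _ (isHypercovering_trivHyp X J) g.hom 0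
      (secCochain X J Q _ a) (imageSieve_g J hS)
    obtain ⟨x, hx⟩ := exists_mapEv_i X J hS ((Hyper.cechCx X K I.obj).d 0 (0 + 1) y) (by
      rw [mapEv_d]
      refine (congrArg ((Hyper.cechCx X K Q.obj).d 0 (0 + 1)) hy).trans ?_
      rw [← pull_d]
      exact (congrArg (pull X f Q.obj (0 + 1)) (secCochain_cocycle X J Q _ a)).trans (pull_zero X _ _ _))
    have hx0 : (Hyper.cechCx X K F.obj).d (0 + 1) (0 + 1 + 1) x = 0 := by
      refine mapEv_injective (iX X J i) (i_injective X J hS) ?_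
      rw [mapEv_d, mapEv_zero, hx, ← ConcreteCategory.comp_apply, HomologicalComplex.d_comp_d]
      rfl
    obtain ⟨L, f', hL, v, hv⟩ := h K hK x hx0
    let y' := pull X f' I.obj 0 y - mapEv (iX X J i) v
    have hy' : (Hyper.cechCx X L I.obj).d 0 (0 + 1) y' = 0 := by
      refine (map_sub _ _ _).trans ?_
      rw [sub_eq_zero]
      refine ((pull_d X f' I.obj 0 y).symm.trans ?_).trans (mapEv_d L _ 0 v)
      rw [hv, mapEv_pull, hx]
    obtain ⟨b, hb⟩ := exists_section X J I hL y' hy'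
    refine ⟨b, sub_eq_zero.1 (section_eq_zero X J Q hL _ fun {U} s => ?_)⟩
    rw [map_sub, sub_eq_zero, ← NatTrans.naturality_apply g.hom, ← hb s]
    have e : mapEv (iX X J g) y' = mapEv (iX X J g) (pull X f' I.obj 0 y) := by
      rw [mapEv_sub, g_i_eq_zero X J hS, sub_zero]
    refine (val_mapEv (iX X J g) y' s).symm.trans ?_
    rw [e, mapEv_pull]
    exact (val_pull X f' Q.obj 0 _ s).trans ((congrArg (fun w => val w (s ≫ f'.app _)) hy).trans
      ((val_pull X f Q.obj 0 _ _).trans (val_secCochain X J Q (trivHyp X) a _)))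

theorem dies_shift [Injective I] (p : ℕ) : DiesSucc X J Q.obj p ↔ DiesSucc X J F.obj (p + 1) := by
  constructor
  · intro h K hK x hx
    obtain ⟨y, hy, hgy⟩ := exists_cochain_over X J hS hK (p + 1) x hx
    obtain ⟨L, f, hL, r, hr⟩ := h K hK _ hgy
    obtain ⟨M, f', hM, r', hr'⟩ := exists_refinement_lift J X L hL g.hom p r (imageSieve_g J hS)
    refine ⟨M, f' ≫ f, hM, ?_⟩
    refine exists_primitive X J hS (p + 1) _ (pull X (f' ≫ f) I.obj (p + 1) y)
      ((Hyper.cechCx X M I.obj).d p (p + 1) r') ?_ ?_ ?_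
    · rw [← pull_d, hy, mapEv_pull]
    · rw [← ConcreteCategory.comp_apply, HomologicalComplex.d_comp_d]
      rfl
    · rw [mapEv_d, hr', ← pull_d, hr, mapEv_pull, pull_comp]
  · intro h K₀ hK₀ ζ hζ
    obtain ⟨K, f₀, hK, y, hy⟩ := exists_refinement_lift J X K₀ hK₀ g.hom (p + 1) ζ (imageSieve_g J hS)
    obtain ⟨x, hx⟩ := exists_mapEv_i X J hS ((Hyper.cechCx X K I.obj).d (p + 1) (p + 1 + 1) y) (by
      rw [mapEv_d]
      refine (congrArg ((Hyper.cechCx X K Q.obj).d (p + 1) (p + 1 + 1)) hy).trans ?_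
      rw [← pull_d, hζ]
      exact pull_zero X _ _ _)
    have hx0 : (Hyper.cechCx X K F.obj).d (p + 1 + 1) (p + 1 + 1 + 1) x = 0 := by
      refine mapEv_injective (iX X J i) (i_injective X J hS) ?_
      rw [mapEv_d, mapEv_zero, hx, ← ConcreteCategory.comp_apply, HomologicalComplex.d_comp_d]
      rfl
    obtain ⟨L, f', hL, v, hv⟩ := h K hK x hx0
    let y' := pull X f' I.obj (p + 1) y - mapEv (iX X J i) v
    have hy' : (Hyper.cechCx X L I.obj).d (p + 1) (p + 1 + 1) y' = 0 := by
      refine (map_sub _ _ _).trans ?_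
      rw [sub_eq_zero]
      refine ((pull_d X f' I.obj (p + 1) y).symm.trans ?_).trans (mapEv_d L _ (p + 1) v)
      rw [hv, mapEv_pull, hx]
    haveI : Injective (I.over X) := injective_restrict J X I inferInstance
    have hI := isZero_cech_succ L (J.over X)
      (isLocContr_of_site L (J.over X) (isHypercoveringSite_over J X L hL)) (I.over X) p
    rw [← HomologicalComplex.exactAt_iff_isZero_homology,
      HomologicalComplex.exactAt_iff' _ p (p + 1) (p + 1 + 1) (by simp) (by simp), ShortComplex.ab_exact_iff] at hI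
    obtain ⟨(r : ev ((Over.forget X).op ⋙ I.obj) (L.obj (op (SimplexCategory.mk p)))), hr⟩ := hI _ hy'
    refine ⟨L, f' ≫ f₀, hL, mapEv (iX X J g) r, ?_⟩
    rw [← mapEv_d]
    refine (congrArg (mapEv (iX X J g)) hr).trans ?_
    rw [mapEv_sub, g_i_eq_zero X J hS, sub_zero, mapEv_pull, pull_comp]
    exact congrArg _ hy

end Seq

theorem subsingleton_HU_succ_iff_dies : ∀ (p : ℕ) (F : Sheaf J AddCommGrpCat.{u}),
    Subsingleton (CohSite.HU F (p + 1) X) ↔ DiesSucc X J F.obj p
  | 0, F => by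
    obtain ⟨I, Q, i, g, w, hI, hS⟩ := exists_inj_seq F
    exact dies_one_iff X J hS
  | p + 1, F => by
    obtain ⟨I, Q, i, g, w, hI, hS⟩ := exists_inj_seq F
    rw [← dies_shift X J hS p, ← subsingleton_HU_succ_iff_dies p Q]
    exact ⟨fun h => subsingleton_HU₃ X hS (p + 1) (subsingleton_HU_of_injective X I p) h,
      fun h => subsingleton_HU₁ X hS (p + 1) h (subsingleton_HU_of_injective X I (p + 1))⟩

section Presheaf

variable (G : Cᵒᵖ ⥤ AddCommGrpCat.{u})

omit [HasPullbacks C] in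
theorem eq_locally {U : C} (a b : G.obj (op U))
    (h : (toSheafify J G).app (op U) a = (toSheafify J G).app (op U) b) :
    ∃ T : Sieve U, T ∈ J U ∧ ∀ ⦃V : C⦄ (g : V ⟶ U), T g → G.map g.op (a - b) = 0 :=
  ⟨_, Presheaf.equalizerSieve_mem J (toSheafify J G) a b h, fun V g hg => by
    rw [map_sub, sub_eq_zero]; exact hg⟩

theorem exists_refinement_eq {K : SimplicialObject (FormalCoproduct.{u} (Over X))}
    (hK : Hyper.IsHypercovering J X K) (n : ℕ)
    (x y : ev ((Over.forget X).op ⋙ G) (K.obj (op (SimplexCategory.mk n))))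
    (h : mapEv (Functor.whiskerLeft (Over.forget X).op (toSheafify J G)) x =
      mapEv (Functor.whiskerLeft (Over.forget X).op (toSheafify J G)) y) :
    ∃ (L : SimplicialObject (FormalCoproduct.{u} (Over X))) (f : L ⟶ K), Hyper.IsHypercovering J X L ∧
      pull X f G n x = pull X f G n y := by
  obtain ⟨L, f, hL, hf⟩ := exists_refinement_eq_zero J X K hK n (x - y) fun k => by
    rw [val_sub]
    refine eq_locally J G _ _ ?_
    refine ((val_mapEv (Functor.whiskerLeft (Over.forget X).op (toSheafify J G)) x _).symm.trans ?_).trans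
      (val_mapEv (Functor.whiskerLeft (Over.forget X).op (toSheafify J G)) y _)
    rw [h]
  refine ⟨L, f, hL, sub_eq_zero.1 ?_⟩
  rw [← pull_sub]
  exact hf

theorem diesZero_sheafify_iff : DiesZero X J (sheafify J G) ↔ DiesZero X J G := by
  constructor
  · intro h K hK x hx
    obtain ⟨L, f, hL, hf⟩ := h K hK (mapEv (Functor.whiskerLeft (Over.forget X).op (toSheafify J G)) x) (by
      rw [← mapEv_d, hx]; exact mapEv_zero _)
    obtain ⟨M, f', hM, hf'⟩ := exists_refinement_eq X J G hL 0 (pull X f G 0 x) 0 (by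
      rw [mapEv_pull, hf, mapEv_zero])
    exact ⟨M, f' ≫ f, hM, by rw [pull_comp, hf', pull_zero]⟩
  · intro h K₀ hK₀ ζ hζ
    obtain ⟨K, f₀, hK, x, hx⟩ := exists_refinement_lift J X K₀ hK₀ (toSheafify J G) 0 ζ
      fun U q => Presheaf.imageSieve_mem J _ q
    obtain ⟨L, f, hL, hf⟩ := exists_refinement_eq X J G hK (0 + 1) ((Hyper.cechCx X K G).d 0 (0 + 1) x) 0 (by
      rw [mapEv_d, hx, mapEv_zero]
      refine (pull_d X f₀ _ 0 ζ).symm.trans ?_
      rw [hζ]; exact pull_zero X _ _ _)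
    rw [pull_d, pull_zero] at hf
    obtain ⟨M, f', hM, hf'⟩ := h L hL _ hf
    refine ⟨M, f' ≫ f ≫ f₀, hM, ?_⟩
    rw [pull_comp, pull_comp, ← hx, ← mapEv_pull, ← mapEv_pull, hf', mapEv_zero]

theorem diesSucc_sheafify_iff (p : ℕ) : DiesSucc X J (sheafify J G) p ↔ DiesSucc X J G p := by
  constructor
  · intro h K hK x hx
    obtain ⟨L, f, hL, r, hr⟩ := h K hK (mapEv (Functor.whiskerLeft (Over.forget X).op (toSheafify J G)) x) (by
      rw [← mapEv_d, hx]; exact mapEv_zero _)
    obtain ⟨L', f', hL', r', hr'⟩ := exists_refinement_lift J X L hL (toSheafify J G) p r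
      fun U q => Presheaf.imageSieve_mem J _ q
    obtain ⟨M, f'', hM, hM'⟩ := exists_refinement_eq X J G hL' (p + 1) ((Hyper.cechCx X L' G).d p (p + 1) r')
      (pull X (f' ≫ f) G (p + 1) x) (by rw [mapEv_d, hr', ← pull_d, hr, mapEv_pull, pull_comp])
    refine ⟨M, f'' ≫ f' ≫ f, hM, pull X f'' G p r', ?_⟩
    rw [← pull_d, hM', pull_comp X G f'' (f' ≫ f)]
  · intro h K₀ hK₀ ζ hζ
    obtain ⟨K, f₀, hK, x, hx⟩ := exists_refinement_lift J X K₀ hK₀ (toSheafify J G) (p + 1) ζ
      fun U q => Presheaf.imageSieve_mem J _ q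
    obtain ⟨L, f, hL, hf⟩ := exists_refinement_eq X J G hK (p + 1 + 1)
      ((Hyper.cechCx X K G).d (p + 1) (p + 1 + 1) x) 0 (by
      rw [mapEv_d, hx, mapEv_zero]
      refine (pull_d X f₀ _ (p + 1) ζ).symm.trans ?_
      rw [hζ]; exact pull_zero X _ _ _)
    rw [pull_d, pull_zero] at hf
    obtain ⟨M, f', hM, y, hy⟩ := h L hL _ hf
    refine ⟨M, f' ≫ f ≫ f₀, hM, mapEv (Functor.whiskerLeft (Over.forget X).op (toSheafify J G)) y, ?_⟩
    rw [← mapEv_d, hy, mapEv_pull, mapEv_pull, hx, pull_comp, pull_comp]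

end Presheaf

end Groth.Agent.HyperH28
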