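import Groth.Agent.Lib.HyperH28.H0

/-!
# Points of coskeleta
-/

set_option autoImplicit false
set_option backward.isDefEq.respectTransparency false
set_option backward.isDefEq.respectTransparency.types false

universe u

open CategoryTheory CategoryTheory.Limits Opposite

noncomputable section

namespace Groth.Agent.HyperH28

variable {C : Type u} [SmallCategory C]

/-- The simplicial formal coproduct `U × Δ[m]`. -/
def simplexFC (U : C) (m : ℕ) : SimplicialObject (FormalCoproduct.{u} C) where
  obj n := ⟨ULift.{u} (n.unop ⟶ SimplexCategory.mk m), fun _ => U⟩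
  map g := { f := fun e => ⟨g.unop ≫ e.down⟩, φ := fun _ => 𝟙 U }
  map_id n := FormalCoproduct.hom_ext (funext fun e => by
    apply ULift.ext
    simp) fun e => by simp
  map_comp g h := FormalCoproduct.hom_ext (funext fun e => by
    apply ULift.ext
    simp) fun e => by simp

/-- A vertex of `U × Δ[m]`. -/
def simplexPt (U : C) {m l : ℕ} (g : SimplexCategory.mk l ⟶ SimplexCategory.mk m) :
    Pt U ((simplexFC U m).obj (op (SimplexCategory.mk l))) :=
  pt (K := (simplexFC U m).obj (op (SimplexCategory.mk l))) ⟨g⟩ (𝟙 U)

theorem simplexPt_map (U : C) {m l k : ℕ} (g : SimplexCategory.mk l ⟶ SimplexCategory.mk m)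
    (h : SimplexCategory.mk k ⟶ SimplexCategory.mk l) :
    simplexPt U g ≫ (simplexFC U m).map h.op = simplexPt U (h ≫ g) := by
  rw [simplexPt, pt_comp]
  show pt (K := (simplexFC U m).obj (op (SimplexCategory.mk k))) ⟨h ≫ g⟩ (𝟙 U ≫ 𝟙 U) = _
  rw [Category.id_comp]
  rfl

variable (n : ℕ) [∀ (F : (SimplexCategory.Truncated n)ᵒᵖ ⥤ FormalCoproduct.{u} C),
      (SimplexCategory.Truncated.inclusion n).op.HasRightKanExtension F]

/-- A compatible family of points on the simplices of dimension `≤ n` gives a point of the coskeleton. -/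
theorem exists_coskPt (T : SimplicialObject.Truncated (FormalCoproduct.{u} C) n) {U : C} {m : ℕ}
    (τ : (SimplicialObject.truncation n).obj (simplexFC U m) ⟶ T) :
    ∃ c : Pt U (((SimplicialObject.Truncated.cosk n).obj T).obj (op (SimplexCategory.mk m))),
      ∀ (l : ℕ) (hl : l ≤ n) (g : SimplexCategory.mk l ⟶ SimplexCategory.mk m),
        c ≫ ((SimplicialObject.Truncated.cosk n).obj T).map g.op ≫
            ((SimplicialObject.coskAdj n).counit.app T).app (op ⟨SimplexCategory.mk l, hl⟩) =
          simplexPt U g ≫ τ.app (op ⟨SimplexCategory.mk l, hl⟩) := by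
  let σ := (SimplicialObject.coskAdj n).homEquiv _ _ τ
  refine ⟨simplexPt U (𝟙 (SimplexCategory.mk m)) ≫ σ.app (op (SimplexCategory.mk m)), fun l hl g => ?_⟩
  rw [Category.assoc, ← Category.assoc (σ.app _), ← σ.naturality g.op, Category.assoc, ← Category.assoc,
    simplexPt_map, Category.comp_id]
  congr 1
  have h : (SimplicialObject.truncation n).map σ ≫ (SimplicialObject.coskAdj n).counit.app T = τ :=
    ((SimplicialObject.coskAdj n).homEquiv_counit _ _ _).symm.trans (Equiv.symm_apply_apply _ _)
  exact NatTrans.congr_app h (op ⟨SimplexCategory.mk l, hl⟩)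

/-- The unit followed by the counit, in degrees `≤ n`. -/
theorem unit_counit_app (K : SimplicialObject (FormalCoproduct.{u} C)) (l : ℕ) (hl : l ≤ n) :
    ((SimplicialObject.coskAdj n).unit.app K).app (op (SimplexCategory.mk l)) ≫
      ((SimplicialObject.coskAdj n).counit.app ((SimplicialObject.truncation n).obj K)).app
        (op ⟨SimplexCategory.mk l, hl⟩) = 𝟙 _ :=
  NatTrans.congr_app ((SimplicialObject.coskAdj n).left_triangle_components K) (op ⟨SimplexCategory.mk l, hl⟩)

/-- If a lift of a point of the coskeleton is given, its faces are the given family. -/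
theorem face_of_lift (K : SimplicialObject (FormalCoproduct.{u} C)) {U V : C} {m : ℕ} (a : V ⟶ U)
    (τ : (SimplicialObject.truncation n).obj (simplexFC U m) ⟶ (SimplicialObject.truncation n).obj K)
    (c : Pt U (((SimplicialObject.Truncated.cosk n).obj ((SimplicialObject.truncation n).obj K)).obj
      (op (SimplexCategory.mk m))))
    (t : Pt V (K.obj (op (SimplexCategory.mk m))))
    (ht : t ≫ ((SimplicialObject.coskAdj n).unit.app K).app (op (SimplexCategory.mk m)) = res a c)
    (hc : ∀ (l : ℕ) (hl : l ≤ n) (g : SimplexCategory.mk l ⟶ SimplexCategory.mk m),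
        c ≫ ((SimplicialObject.Truncated.cosk n).obj ((SimplicialObject.truncation n).obj K)).map g.op ≫
            ((SimplicialObject.coskAdj n).counit.app ((SimplicialObject.truncation n).obj K)).app (op ⟨SimplexCategory.mk l, hl⟩) =
          simplexPt U g ≫ τ.app (op ⟨SimplexCategory.mk l, hl⟩))
    (l : ℕ) (hl : l ≤ n) (g : SimplexCategory.mk l ⟶ SimplexCategory.mk m) :
    t ≫ K.map g.op = res a (simplexPt U g ≫ τ.app (op ⟨SimplexCategory.mk l, hl⟩)) := by
  rw [← Category.comp_id (t ≫ K.map g.op)]
  erw [← unit_counit_app n K l hl]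
  have hn : K.map g.op ≫ ((SimplicialObject.coskAdj n).unit.app K).app (op (SimplexCategory.mk l)) =
      ((SimplicialObject.coskAdj n).unit.app K).app (op (SimplexCategory.mk m)) ≫
        ((SimplicialObject.Truncated.cosk n).obj ((SimplicialObject.truncation n).obj K)).map g.op :=
    ((SimplicialObject.coskAdj n).unit.app K).naturality g.op
  rw [Category.assoc]
  erw [reassoc_of% hn, reassoc_of% ht]
  exact congrArg _ (hc l hl g)

end Groth.Agent.HyperH28
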