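import Groth.Agent.Lib.HyperH28.Free
import Mathlib.AlgebraicTopology.SimplicialObject.ChainHomotopy
import Mathlib.AlgebraicTopology.SimplexCategory.Basic

/-!
# Morphisms of coskeletal simplicial presheaves which are local isomorphisms in low degrees
-/

set_option autoImplicit false
set_option backward.isDefEq.respectTransparency false
set_option backward.isDefEq.respectTransparency.types false

universe u

open CategoryTheory CategoryTheory.Limits Opposite AlgebraicTopology

noncomputable section

namespace Groth.Agent.HyperH28.CoskRel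

variable {C : Type u} [SmallCategory C]

section Elements

variable (L : SimplicialObject (Cᵒᵖ ⥤ Type u))

/-- Sections at an object of the simplex category. -/
abbrev At (l : SimplexCategory) (U : C) : Type u := (L.obj (op l)).obj (op U)

/-- The simplicial structure on sections. -/
abbrev act {l m : SimplexCategory} (g : l ⟶ m) {U : C} (x : At L m U) : At L l U := (L.map g.op).app (op U) x

/-- Restriction. -/
abbrev rst {l : SimplexCategory} {U V : C} (a : V ⟶ U) (x : At L l U) : At L l V := (L.obj (op l)).map a.op x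

theorem act_id {l : SimplexCategory} {U : C} (x : At L l U) : act L (𝟙 l) x = x := by
  rw [act, op_id, L.map_id]
  rfl

theorem act_comp {k l m : SimplexCategory} (g : k ⟶ l) (h : l ⟶ m) {U : C} (x : At L m U) :
    act L (g ≫ h) x = act L g (act L h x) := by
  rw [act, op_comp, L.map_comp]
  rfl

theorem act_rst {l m : SimplexCategory} (g : l ⟶ m) {U V : C} (a : V ⟶ U) (x : At L m U) :
    act L g (rst L a x) = rst L a (act L g x) :=
  NatTrans.naturality_apply (L.map g.op) a.op x

theorem rst_id {l : SimplexCategory} {U : C} (x : At L l U) : rst L (𝟙 U) x = x := by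
  rw [rst, op_id, CategoryTheory.Functor.map_id]
  rfl

theorem rst_rst {l : SimplexCategory} {U V W : C} (a : V ⟶ U) (b : W ⟶ V) (x : At L l U) :
    rst L b (rst L a x) = rst L (b ≫ a) x := by
  rw [rst, rst, rst, ← ConcreteCategory.comp_apply, ← Functor.map_comp, ← op_comp]

/-- Simplices are the compatible families on the simplices of dimension at most `n`. -/
structure IsCoskel (n : ℕ) : Prop where
  ext : ∀ {m : SimplexCategory} {U : C} (c c' : At L m U),
    (∀ (l : SimplexCategory) (_ : l.len ≤ n) (g : l ⟶ m), act L g c = act L g c') → c = c'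
  exists_elt : ∀ {m : SimplexCategory} {U : C}
    (F : ∀ l : SimplexCategory, l.len ≤ n → (l ⟶ m) → At L l U),
    (∀ (l l' : SimplexCategory) (hl : l.len ≤ n) (hl' : l'.len ≤ n) (θ : l' ⟶ l) (g : l ⟶ m),
      F l' hl' (θ ≫ g) = act L θ (F l hl g)) →
    ∃ c : At L m U, ∀ (l : SimplexCategory) (hl : l.len ≤ n) (g : l ⟶ m), act L g c = F l hl g

variable {L}

theorem IsCoskel.ext_mono {n : ℕ} (hL : IsCoskel L n) {m : SimplexCategory} {U : C} (c c' : At L m U)
    (h : ∀ (l : SimplexCategory) (_ : l.len ≤ n) (ι : l ⟶ m), Mono ι → act L ι c = act L ι c') : c = c' :=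
  hL.ext c c' fun l hl g => by
    haveI : Epi (factorThruImage g) := inferInstance
    rw [← image.fac g, act_comp, act_comp,
      h _ ((SimplexCategory.len_le_of_epi (factorThruImage g)).trans hl) (image.ι g) inferInstance]

end Elements

section Map

variable {L K : SimplicialObject (Cᵒᵖ ⥤ Type u)} (f : L ⟶ K)

/-- The map on sections. -/
abbrev mp {l : SimplexCategory} {U : C} (x : At L l U) : At K l U := (f.app (op l)).app (op U) x

theorem mp_act {l m : SimplexCategory} (g : l ⟶ m) {U : C} (x : At L m U) :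
    mp f (act L g x) = act K g (mp f x) :=
  ConcreteCategory.congr_hom (NatTrans.congr_app (f.naturality g.op) (op U)) x

theorem mp_rst {l : SimplexCategory} {U V : C} (a : V ⟶ U) (x : At L l U) :
    mp f (rst L a x) = rst K a (mp f x) :=
  NatTrans.naturality_apply (f.app (op l)) a.op x

/-- Bijectivity below `n` and local surjectivity in degree `n`, for coskeletal simplicial presheaves. -/
structure IsTrivFib (J : GrothendieckTopology C) (n : ℕ) : Prop where
  coskL : IsCoskel L n
  coskK : IsCoskel K n
  bij : ∀ (l : SimplexCategory) (_ : l.len < n) (U : C), Function.Bijective (mp f : At L l U → At K l U)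
  surj : ∀ (U : C) (y : At K (SimplexCategory.mk n) U), ∃ S : Sieve U, S ∈ J U ∧ ∀ ⦃V : C⦄ (a : V ⟶ U), S a →
    ∃ x : At L (SimplexCategory.mk n) V, mp f x = rst K a y

variable {f} {J : GrothendieckTopology C} {n : ℕ} (hf : IsTrivFib f J n)

/-- The top faces have lifts. -/
def Good (n : ℕ) {m : SimplexCategory} {V : C} (σ : At K m V) : Prop :=
  ∀ g : SimplexCategory.mk n ⟶ m, ∃ x : At L (SimplexCategory.mk n) V, mp f x = act K g σ

theorem Good.act {m m' : SimplexCategory} {V : C} {σ : At K m V} (h : Good (f := f) n σ) (g : m' ⟶ m) :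
    Good (f := f) n (act K g σ) := fun a => by
  obtain ⟨x, hx⟩ := h (a ≫ g)
  exact ⟨x, hx.trans (act_comp K a g σ)⟩

theorem Good.rst {m : SimplexCategory} {V W : C} {σ : At K m V} (h : Good (f := f) n σ) (a : W ⟶ V) :
    Good (f := f) n (rst K a σ) := fun g => by
  obtain ⟨x, hx⟩ := h g
  exact ⟨CoskRel.rst L a x, by rw [mp_rst, hx, act_rst]⟩

include hf

theorem exists_lift_low {l : SimplexCategory} (hl : l.len ≤ n) {V : C} (τ : At K l V) (h : Good (f := f) n τ) :
    ∃ x : At L l V, mp f x = τ := by
  rcases hl.lt_or_eq with hl' | hl'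
  · exact (hf.bij l hl' V).2 τ
  · obtain rfl : l = SimplexCategory.mk n := SimplexCategory.ext hl'
    obtain ⟨x, hx⟩ := h (𝟙 _)
    exact ⟨x, hx.trans (act_id K τ)⟩

theorem exists_section (V : C) : ∃ s : ∀ (m : SimplexCategory) (σ : At K m V), Good (f := f) n σ → At L m V,
    (∀ m σ h, mp f (s m σ h) = σ) ∧
    ∀ (m m' : SimplexCategory) (ι : m' ⟶ m), Mono ι → ∀ (σ : At K m V) (h : Good (f := f) n σ),
      act L ι (s m σ h) = s m' (act K ι σ) (h.act ι) := by
  classical
  choose u hu using fun (l : SimplexCategory) (hl : l.len ≤ n) (τ : At K l V) (h : Good (f := f) n τ) =>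
    exists_lift_low hf hl τ h
  -- the values on all small simplices
  let F : ∀ (m : SimplexCategory) (σ : At K m V), Good (f := f) n σ → ∀ l : SimplexCategory, l.len ≤ n →
      (l ⟶ m) → At L l V := fun m σ h l hl g =>
    act L (factorThruImage g) (u (image g) ((SimplexCategory.len_le_of_epi (factorThruImage g)).trans hl)
      (act K (image.ι g) σ) (h.act _))
  have hFac : ∀ m σ h (l : SimplexCategory) (hl : l.len ≤ n) (g : l ⟶ m) (k : SimplexCategory) (e : l ⟶ k)
      (ι : k ⟶ m) (hk : k.len ≤ n), Epi e → Mono ι → e ≫ ι = g →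
      F m σ h l hl g = act L e (u k hk (act K ι σ) (h.act ι)) := by
    intro m σ h l hl g k e ι hk he hι fac
    obtain rfl := SimplexCategory.image_eq fac
    have h1 := SimplexCategory.image_ι_eq fac
    have h2 := SimplexCategory.factorThruImage_eq fac
    subst h1 h2
    rfl
  have hnat : ∀ m σ h (l l' : SimplexCategory) (hl : l.len ≤ n) (hl' : l'.len ≤ n) (θ : l' ⟶ l) (g : l ⟶ m),
      F m σ h l' hl' (θ ≫ g) = act L θ (F m σ h l hl g) := by
    intro m σ h l l' hl hl' θ g
    have hk : (image g).len ≤ n := (SimplexCategory.len_le_of_epi (factorThruImage g)).trans hl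
    have hk' : (image (θ ≫ factorThruImage g)).len ≤ n :=
      (SimplexCategory.len_le_of_epi (factorThruImage (θ ≫ factorThruImage g))).trans hl'
    rw [hFac m σ h l' hl' (θ ≫ g) _ (factorThruImage (θ ≫ factorThruImage g))
      (image.ι (θ ≫ factorThruImage g) ≫ image.ι g) hk' inferInstance inferInstance
      (by rw [image.fac_assoc, Category.assoc, image.fac])]
    show _ = act L θ (act L (factorThruImage g) (u (image g) hk (act K (image.ι g) σ) (h.act _)))
    rw [← act_comp L θ]
    refine Eq.trans ?_ (congrArg (fun q => act L q (u (image g) hk (act K (image.ι g) σ) (h.act _)))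
      (image.fac (θ ≫ factorThruImage g)))
    refine Eq.trans ?_ (act_comp L _ _ _).symm
    refine congrArg _ ?_
    -- compatibility of the chosen lifts
    by_cases hlt : (image (θ ≫ factorThruImage g)).len < n
    · refine (hf.bij _ hlt V).1 ?_
      rw [mp_act, hu, hu, act_comp]
    · have he : image (θ ≫ factorThruImage g) = image g := SimplexCategory.ext (le_antisymm
        (SimplexCategory.len_le_of_mono (image.ι (θ ≫ factorThruImage g))) (hk.trans (not_lt.1 hlt)))
      have key : ∀ (k : SimplexCategory) (_ : k = image g) (ι : k ⟶ image g) (_ : Mono ι) (hk₀ : k.len ≤ n),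
          u k hk₀ (act K (ι ≫ image.ι g) σ) (h.act _) =
            act L ι (u (image g) hk (act K (image.ι g) σ) (h.act _)) := by
        rintro _ rfl ι hι hk₀
        obtain rfl := SimplexCategory.eq_id_of_mono ι
        rw [act_id]
        simp
      exact key _ he _ inferInstance hk'
  choose s hs using fun (m : SimplexCategory) (σ : At K m V) (h : Good (f := f) n σ) =>
    hf.coskL.exists_elt (F m σ h) (fun l l' hl hl' θ g => hnat m σ h l l' hl hl' θ g)
  have hmono : ∀ m σ h (k : SimplexCategory) (hk : k.len ≤ n) (ι : k ⟶ m), Mono ι →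
      act L ι (s m σ h) = u k hk (act K ι σ) (h.act ι) := fun m σ h k hk ι hι => by
    rw [hs m σ h k hk ι, hFac m σ h k hk ι k (𝟙 k) ι hk inferInstance hι (Category.id_comp ι), act_id]
  refine ⟨s, fun m σ h => hf.coskK.ext_mono _ _ fun k hk ι hι => ?_, fun m m' ι hι σ h =>
    hf.coskL.ext_mono _ _ fun k hk κ hκ => ?_⟩
  · rw [← mp_act, hmono m σ h k hk ι hι, hu]
  · rw [← act_comp, hmono m σ h k hk (κ ≫ ι) (mono_comp κ ι), hmono m' _ _ k hk κ hκ]
    congr 1
    exact act_comp K κ ι σ

/-- The sieve where finitely many simplices become good. -/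
theorem exists_good_cover {m : SimplexCategory} {U : C} (A : Finset (At K m U)) :
    ∃ S : Sieve U, S ∈ J U ∧ ∀ ⦃V : C⦄ (a : V ⟶ U), S a → ∀ σ ∈ A, Good (f := f) n (rst K a σ) := by
  classical
  choose S hS hS' using fun y : At K (SimplexCategory.mk n) U => hf.surj U y
  haveI : Finite (SimplexCategory.mk n ⟶ m) :=
    Finite.of_injective (fun g => (g.toOrderHom : Fin _ → Fin _))
      fun g g' e => SimplexCategory.Hom.ext _ _ (OrderHom.ext _ _ e)
  haveI := Fintype.ofFinite (SimplexCategory.mk n ⟶ m)
  refine ⟨A.inf fun σ => Finset.univ.inf fun g : SimplexCategory.mk n ⟶ m => S (act K g σ),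
    finset_inf_mem J _ _ fun σ _ => finset_inf_mem J _ _ fun g _ => hS _, fun V a ha σ hσ g => ?_⟩
  have h1 := (Finset.inf_le (f := fun σ => Finset.univ.inf fun g : SimplexCategory.mk n ⟶ m => S (act K g σ)) hσ) _ ha
  have h2 := (Finset.inf_le (f := fun g : SimplexCategory.mk n ⟶ m => S (act K g σ)) (Finset.mem_univ g)) _ h1
  obtain ⟨x, hx⟩ := hS' _ a h2
  exact ⟨x, by rw [hx, act_rst]⟩

theorem agree {m l : SimplexCategory} (hl : l.len < n) (g : l ⟶ m) {U : C} {x y : At L m U}
    (h : mp f x = mp f y) : act L g x = act L g y :=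
  (hf.bij l hl U).1 (by rw [mp_act, mp_act, h])

/-- The prism simplices between two simplices with the same image. -/
theorem exists_prism {m m' : SimplexCategory} {U : C} (x y : At L m U) (hxy : mp f x = mp f y) (a : m' ⟶ m)
    (β : m' ⟶ SimplexCategory.mk 1) :
    ∃ c : At L m' U, ∀ (l : SimplexCategory) (_ : l.len ≤ n) (φ : l ⟶ m'),
      ((∀ k, (φ ≫ β).toOrderHom k = 0) → act L φ c = act L (φ ≫ a) x) ∧
      (¬(∀ k, (φ ≫ β).toOrderHom k = 0) → act L φ c = act L (φ ≫ a) y) := by
  classical
  let F : ∀ l : SimplexCategory, l.len ≤ n → (l ⟶ m') → At L l U := fun l _ φ =>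
    if ∀ k, (φ ≫ β).toOrderHom k = 0 then act L (φ ≫ a) x else act L (φ ≫ a) y
  obtain ⟨c, hc⟩ := hf.coskL.exists_elt F fun l l' hl hl' θ φ => by
    simp only [F]
    by_cases h0 : ∀ k, (φ ≫ β).toOrderHom k = 0
    · rw [if_pos h0, if_pos (fun k => ?_), Category.assoc, act_comp]
      exact h0 (θ.toOrderHom k)
    · rw [if_neg h0]
      split_ifs with h1
      · obtain ⟨l⟩ := l
        obtain ⟨l'⟩ := l'
        cases l with
        | zero =>
          exfalso
          refine h0 fun k => ?_
          have := h1 0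
          rw [show k = θ.toOrderHom 0 from Subsingleton.elim (α := Fin 1) _ _]
          exact this
        | succ l =>
          obtain ⟨j, hj⟩ : ∃ j, ∀ k, θ.toOrderHom k ≠ j := by
            by_contra hne
            push Not at hne
            refine h0 fun j => ?_
            obtain ⟨k, hk⟩ := hne j
            rw [← hk]
            exact h1 k
          obtain ⟨θ', rfl⟩ := SimplexCategory.eq_comp_δ_of_not_surjective' θ j hj
          rw [Category.assoc, Category.assoc, act_comp, act_comp _ θ', act_comp _ (SimplexCategory.δ j)]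
          congr 1
          rw [← act_comp, ← act_comp]
          exact agree hf (Nat.lt_of_succ_le hl) _ hxy
      · rw [Category.assoc, act_comp]
  refine ⟨c, fun l hl φ => ⟨fun h => ?_, fun h => ?_⟩⟩
  · rw [hc l hl φ]; exact if_pos h
  · rw [hc l hl φ]; exact if_neg h

/-- The prism simplex. -/
def prism {m m' : SimplexCategory} {U : C} (x y : At L m U) (hxy : mp f x = mp f y) (a : m' ⟶ m)
    (β : m' ⟶ SimplexCategory.mk 1) : At L m' U :=
  (exists_prism hf x y hxy a β).choose

theorem eq_prism {m m' : SimplexCategory} {U : C} (x y : At L m U) (hxy : mp f x = mp f y) (a : m' ⟶ m)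
    (β : m' ⟶ SimplexCategory.mk 1) (c : At L m' U)
    (h0 : ∀ (l : SimplexCategory) (_ : l.len ≤ n) (φ : l ⟶ m'),
      (∀ k, (φ ≫ β).toOrderHom k = 0) → act L φ c = act L (φ ≫ a) x)
    (h1 : ∀ (l : SimplexCategory) (_ : l.len ≤ n) (φ : l ⟶ m'),
      ¬(∀ k, (φ ≫ β).toOrderHom k = 0) → act L φ c = act L (φ ≫ a) y) :
    c = prism hf x y hxy a β := by
  refine hf.coskL.ext _ _ fun l hl φ => ?_
  have hp := (exists_prism hf x y hxy a β).choose_spec l hl φ
  by_cases h : ∀ k, (φ ≫ β).toOrderHom k = 0
  · exact (h0 l hl φ h).trans (hp.1 h).symm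
  · exact (h1 l hl φ h).trans (hp.2 h).symm

theorem act_prism {m m' m'' : SimplexCategory} {U : C} (x y : At L m U) (hxy : mp f x = mp f y) (a : m' ⟶ m)
    (β : m' ⟶ SimplexCategory.mk 1) (θ : m'' ⟶ m') :
    act L θ (prism hf x y hxy a β) = prism hf x y hxy (θ ≫ a) (θ ≫ β) := by
  refine eq_prism hf _ _ _ _ _ _ (fun l hl φ h => ?_) fun l hl φ h => ?_
  · rw [← act_comp, ← Category.assoc]
    exact ((exists_prism hf x y hxy a β).choose_spec l hl (φ ≫ θ)).1 (by rwa [Category.assoc])
  · rw [← act_comp, ← Category.assoc]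
    exact ((exists_prism hf x y hxy a β).choose_spec l hl (φ ≫ θ)).2 (by rwa [Category.assoc])

theorem prism_act {k m m' : SimplexCategory} {U : C} (x y : At L m U) (hxy : mp f x = mp f y) (g : k ⟶ m)
    (hxy' : mp f (act L g x) = mp f (act L g y)) (a : m' ⟶ k) (β : m' ⟶ SimplexCategory.mk 1) :
    prism hf (act L g x) (act L g y) hxy' a β = prism hf x y hxy (a ≫ g) β := by
  refine eq_prism hf _ _ _ _ _ _ (fun l hl φ h => ?_) fun l hl φ h => ?_
  · rw [((exists_prism hf _ _ hxy' a β).choose_spec l hl φ).1 h |> fun e => (show act L φ (prism hf _ _ hxy' a β) = _ from e),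
      ← act_comp, Category.assoc]
  · rw [((exists_prism hf _ _ hxy' a β).choose_spec l hl φ).2 h |> fun e => (show act L φ (prism hf _ _ hxy' a β) = _ from e),
      ← act_comp, Category.assoc]

theorem rst_prism {m m' : SimplexCategory} {U V : C} (b : V ⟶ U) (x y : At L m U) (hxy : mp f x = mp f y)
    (hxy' : mp f (rst L b x) = mp f (rst L b y)) (a : m' ⟶ m) (β : m' ⟶ SimplexCategory.mk 1) :
    rst L b (prism hf x y hxy a β) = prism hf (rst L b x) (rst L b y) hxy' a β := by
  refine eq_prism hf _ _ _ _ _ _ (fun l hl φ h => ?_) fun l hl φ h => ?_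
  · rw [act_rst, act_rst]
    exact congrArg _ (((exists_prism hf x y hxy a β).choose_spec l hl φ).1 h)
  · rw [act_rst, act_rst]
    exact congrArg _ (((exists_prism hf x y hxy a β).choose_spec l hl φ).2 h)

end Map

end Groth.Agent.HyperH28.CoskRel
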