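import Mathlib.CategoryTheory.Sites.EpiMono
import Mathlib.CategoryTheory.Sites.LocallyBijective
import Mathlib.CategoryTheory.Sites.Abelian
import Mathlib.CategoryTheory.Sites.LeftExact
import Mathlib.Algebra.Homology.ShortComplex.Exact
import Mathlib.Algebra.Category.Grp.Abelian
import Mathlib.Algebra.Category.Grp.EpiMono
import Mathlib.Algebra.Category.Grp.Limits
import Mathlib.Algebra.Category.Grp.FilteredColimits
import Groth.Prelude.Def_SiteColimFix

/-!
# Locally exact complexes of presheaves sheafify to exact complexes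
-/

set_option autoImplicit false
set_option backward.isDefEq.respectTransparency false
set_option backward.isDefEq.respectTransparency.types false

universe u

open CategoryTheory CategoryTheory.Limits Opposite

namespace Groth.Agent.HyperH28

variable {C : Type u} [SmallCategory C] (J : GrothendieckTopology C)

theorem epi_sheafify_of_local {P Q : Cᵒᵖ ⥤ AddCommGrpCat.{u}} (f : P ⟶ Q)
    (h : ∀ (U : C) (x : Q.obj (op U)), ∃ S : Sieve U, S ∈ J U ∧ ∀ ⦃V : C⦄ (g : V ⟶ U), S g →
      ∃ y, f.app (op V) y = Q.map g.op x) : Epi ((presheafToSheaf J AddCommGrpCat.{u}).map f) := by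
  haveI : Presheaf.IsLocallySurjective J f := ⟨fun {U} x => by
    obtain ⟨S, hS, hS'⟩ := h U x
    exact J.superset_covering (fun V g hg => hS' g hg) hS⟩
  haveI := (Presheaf.isLocallySurjective_presheafToSheaf_map_iff J f).2 ‹_›
  exact (Sheaf.isLocallySurjective_iff_epi' _ _).1 ‹_›

/-- A complex of presheaves that is locally exact becomes exact after sheafification. -/
theorem exact_sheafify_of_local (S : ShortComplex (Cᵒᵖ ⥤ AddCommGrpCat.{u}))
    (h : ∀ (U : C) (x : S.X₂.obj (op U)), S.g.app (op U) x = 0 → ∃ T : Sieve U, T ∈ J U ∧ ∀ ⦃V : C⦄ (g : V ⟶ U), T g →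
      ∃ y, S.f.app (op V) y = S.X₂.map g.op x) :
    (S.map (presheafToSheaf J AddCommGrpCat.{u})).Exact := by
  let F := presheafToSheaf J AddCommGrpCat.{u}
  haveI he : Epi (F.map (kernel.lift S.g S.f S.zero)) := epi_sheafify_of_local J _ fun U x => by
    obtain ⟨T, hT, hT'⟩ := h U ((kernel.ι S.g).app (op U) x) (by
      rw [← ConcreteCategory.comp_apply, ← NatTrans.comp_app, kernel.condition]; rfl)
    refine ⟨T, hT, fun V g hg => ?_⟩
    obtain ⟨y, hy⟩ := hT' g hg
    refine ⟨y, ?_⟩
    have hinj : Function.Injective ((kernel.ι S.g).app (op V)) :=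
      (AddCommGrpCat.mono_iff_injective _).1 inferInstance
    apply hinj
    rw [← ConcreteCategory.comp_apply, ← NatTrans.comp_app, kernel.lift_ι, hy,
      ← NatTrans.naturality_apply (kernel.ι S.g) g.op x]
  rw [ShortComplex.exact_iff_epi_kernel_lift]
  have e : F.map (kernel.lift S.g S.f S.zero) ≫ (PreservesKernel.iso F S.g).hom =
      kernel.lift (F.map S.g) (F.map S.f) (by rw [← F.map_comp, S.zero, F.map_zero]) := by
    simp
  rw [show kernel.lift (S.map F).g (S.map F).f (S.map F).zero = _ from e.symm]
  exact epi_comp _ _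

end Groth.Agent.HyperH28
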