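import Groth.Agent.Lib.HyperH28.CoskRel
import Groth.Agent.Lib.HyperH28.LocExact
import Mathlib.Algebra.Homology.ShortComplex.HomologicalComplex

/-!
# Local trivial fibrations of coskeletal simplicial presheaves induce isomorphisms on homology
-/

set_option autoImplicit false
set_option backward.isDefEq.respectTransparency false
set_option backward.isDefEq.respectTransparency.types false

universe u

open CategoryTheory CategoryTheory.Limits Opposite AlgebraicTopology

noncomputable section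

namespace Groth.Agent.HyperH28.CoskRel

variable {C : Type u} [SmallCategory C]

section Local

variable (J : GrothendieckTopology C)

theorem exists_cycle {S : ShortComplex (Cᵒᵖ ⥤ AddCommGrpCat.{u})} {U : C} (x : S.X₂.obj (op U))
    (hx : S.g.app (op U) x = 0) : ∃ z : S.cycles.obj (op U), S.iCycles.app (op U) z = x :=
  (ShortComplex.ab_exact_iff _).1 ((ShortComplex.exact_of_f_is_kernel (ShortComplex.mk _ _ S.iCycles_g)
    S.cyclesIsKernel).map ((evaluation Cᵒᵖ AddCommGrpCat.{u}).obj (op U))) x hx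

theorem g_iCycles {S : ShortComplex (Cᵒᵖ ⥤ AddCommGrpCat.{u})} {U : C} (z : S.cycles.obj (op U)) :
    S.g.app (op U) (S.iCycles.app (op U) z) = 0 :=
  ConcreteCategory.congr_hom (NatTrans.congr_app S.iCycles_g (op U)) z

theorem class_eq_zero_iff {S : ShortComplex (Cᵒᵖ ⥤ AddCommGrpCat.{u})} {U : C} (z : S.cycles.obj (op U)) :
    S.homologyπ.app (op U) z = 0 ↔ ∃ y, S.f.app (op U) y = S.iCycles.app (op U) z := by
  have hex := (ShortComplex.ab_exact_iff _).1 ((ShortComplex.exact_of_g_is_cokernel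
    (ShortComplex.mk _ _ S.toCycles_comp_homologyπ) S.homologyIsCokernel).map
      ((evaluation Cᵒᵖ AddCommGrpCat.{u}).obj (op U)))
  constructor
  · intro h
    obtain ⟨y, hy⟩ := hex z h
    exact ⟨y, (ConcreteCategory.congr_hom (NatTrans.congr_app S.toCycles_i (op U)) y).symm.trans
      (congrArg _ hy)⟩
  · rintro ⟨y, hy⟩
    have hinj : Function.Injective (S.iCycles.app (op U)) :=
      (AddCommGrpCat.mono_iff_injective _).1 inferInstance
    have : S.toCycles.app (op U) y = z :=
      hinj ((ConcreteCategory.congr_hom (NatTrans.congr_app S.toCycles_i (op U)) y).trans hy)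
    rw [← this]
    exact ConcreteCategory.congr_hom (NatTrans.congr_app S.toCycles_comp_homologyπ (op U)) y

theorem surjective_homologyπ {S : ShortComplex (Cᵒᵖ ⥤ AddCommGrpCat.{u})} (U : C) :
    Function.Surjective (S.homologyπ.app (op U)) :=
  (AddCommGrpCat.epi_iff_surjective _).1 inferInstance

theorem isIso_map_homologyMap {S T : ShortComplex (Cᵒᵖ ⥤ AddCommGrpCat.{u})} (φ : S ⟶ T)
    (hs : ∀ (U : C) (b : T.X₂.obj (op U)), T.g.app (op U) b = 0 → ∃ R : Sieve U, R ∈ J U ∧
      ∀ ⦃V : C⦄ (a : V ⟶ U), R a → ∃ z, S.g.app (op V) z = 0 ∧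
        ∃ w, T.f.app (op V) w = φ.τ₂.app (op V) z - T.X₂.map a.op b)
    (hi : ∀ (U : C) (z : S.X₂.obj (op U)), S.g.app (op U) z = 0 → (∃ w, T.f.app (op U) w = φ.τ₂.app (op U) z) →
      ∃ R : Sieve U, R ∈ J U ∧ ∀ ⦃V : C⦄ (a : V ⟶ U), R a → ∃ v, S.f.app (op V) v = S.X₂.map a.op z) :
    IsIso ((presheafToSheaf J AddCommGrpCat.{u}).map (ShortComplex.homologyMap φ)) := by
  have hnat : ∀ (U : C) (z : S.cycles.obj (op U)), (ShortComplex.homologyMap φ).app (op U)
      (S.homologyπ.app (op U) z) = T.homologyπ.app (op U) ((ShortComplex.cyclesMap φ).app (op U) z) := fun U z =>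
    ConcreteCategory.congr_hom (NatTrans.congr_app (ShortComplex.homologyπ_naturality φ) (op U)) z
  have hcyc : ∀ (U : C) (z : S.cycles.obj (op U)), T.iCycles.app (op U) ((ShortComplex.cyclesMap φ).app (op U) z) =
      φ.τ₂.app (op U) (S.iCycles.app (op U) z) := fun U z =>
    ConcreteCategory.congr_hom (NatTrans.congr_app (ShortComplex.cyclesMap_i φ) (op U)) z
  haveI : Presheaf.IsLocallySurjective J (ShortComplex.homologyMap φ) := ⟨fun {U} ξ => by
    obtain ⟨b, rfl⟩ := surjective_homologyπ U ξ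
    obtain ⟨R, hR, hR'⟩ := hs U (T.iCycles.app (op U) b) (g_iCycles b)
    refine J.superset_covering (fun V a ha => ?_) hR
    obtain ⟨z, hz, w, hw⟩ := hR' a ha
    obtain ⟨z, rfl⟩ := exists_cycle z hz
    refine ⟨S.homologyπ.app (op V) z, ?_⟩
    rw [hnat]
    refine Eq.trans ?_ (NatTrans.naturality_apply T.homologyπ a.op b)
    rw [← sub_eq_zero, ← map_sub, class_eq_zero_iff]
    exact ⟨w, by rw [map_sub, hcyc, NatTrans.naturality_apply T.iCycles a.op b, hw]⟩⟩
  haveI : Presheaf.IsLocallyInjective J (ShortComplex.homologyMap φ) := ⟨fun {U} x y hxy => by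
    obtain ⟨U⟩ := U
    obtain ⟨d, hd⟩ := surjective_homologyπ U (x - y)
    have h0 : T.homologyπ.app (op U) ((ShortComplex.cyclesMap φ).app (op U) d) = 0 := by
      rw [← hnat, hd, map_sub]
      exact sub_eq_zero.2 hxy
    obtain ⟨w, hw⟩ := (class_eq_zero_iff _).1 h0
    rw [hcyc] at hw
    obtain ⟨R, hR, hR'⟩ := hi U (S.iCycles.app (op U) d) (g_iCycles d) ⟨w, hw⟩
    refine J.superset_covering (fun V a ha => ?_) hR
    obtain ⟨v, hv⟩ := hR' a ha
    show S.homology.map a.op x = S.homology.map a.op y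
    rw [← sub_eq_zero, ← map_sub, ← hd, ← NatTrans.naturality_apply S.homologyπ a.op d, class_eq_zero_iff]
    exact ⟨v, by rw [hv, NatTrans.naturality_apply S.iCycles a.op d]⟩⟩
  exact (J.W_iff _).1 (J.W_of_isLocallyBijective _)

theorem isIso_homologyMap_sheafify {A B : ChainComplex (Cᵒᵖ ⥤ AddCommGrpCat.{u}) ℕ} (φ : A ⟶ B) (i : ℕ)
    (h : IsIso ((presheafToSheaf J AddCommGrpCat.{u}).map (HomologicalComplex.homologyMap φ i))) :
    IsIso (HomologicalComplex.homologyMap
      (((presheafToSheaf J AddCommGrpCat.{u}).mapHomologicalComplex (ComplexShape.down ℕ)).map φ) i) := by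
  let F := presheafToSheaf J AddCommGrpCat.{u}
  let ψ := (HomologicalComplex.shortComplexFunctor (Cᵒᵖ ⥤ AddCommGrpCat.{u}) (ComplexShape.down ℕ) i).map φ
  have e := ShortComplex.mapHomologyIso_hom_naturality ψ F
  have hh : IsIso (F.map (ShortComplex.homologyMap ψ)) := h
  have : ShortComplex.homologyMap (F.mapShortComplex.map ψ) =
      ((A.sc i).mapHomologyIso F).hom ≫ F.map (ShortComplex.homologyMap ψ) ≫ ((B.sc i).mapHomologyIso F).inv := by
    rw [← cancel_mono ((B.sc i).mapHomologyIso F).hom, Category.assoc, Category.assoc, Iso.inv_hom_id,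
      Category.comp_id]
    exact e
  show IsIso (ShortComplex.homologyMap (F.mapShortComplex.map ψ))
  rw [this]
  infer_instance

end Local

section Chains

variable {L K : SimplicialObject (Cᵒᵖ ⥤ Type u)} (f : L ⟶ K)

/-- The free chain complex of a simplicial presheaf. -/
abbrev chP (L : SimplicialObject (Cᵒᵖ ⥤ Type u)) : ChainComplex (Cᵒᵖ ⥤ AddCommGrpCat.{u}) ℕ :=
  (alternatingFaceMapComplex _).obj (freeP L)

/-- The map of free chain complexes. -/
abbrev chMap : chP L ⟶ chP K :=
  (alternatingFaceMapComplex _).map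
    (Functor.whiskerRight f ((Functor.whiskeringRight Cᵒᵖ (Type u) AddCommGrpCat.{u}).obj AddCommGrpCat.free.{u}))

/-- Extension of a partially defined map to chains. -/
def pCh {S T : SimplicialObject (Cᵒᵖ ⥤ Type u)} {V : C} (G : ∀ m, Sec S m V → Prop)
    (s : ∀ m (σ : Sec S m V), G m σ → Sec T m V) (m : ℕ) : Ch S m V →+ Ch T m V := by
  classical
  exact FreeAbelianGroup.lift fun σ => if h : G m σ then FreeAbelianGroup.of (s m σ h) else 0

/-- Chains supported on good simplices. -/
def gCh {S : SimplicialObject (Cᵒᵖ ⥤ Type u)} {V : C} (G : ∀ m, Sec S m V → Prop) (m : ℕ) :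
    AddSubgroup (Ch S m V) :=
  AddSubgroup.closure (FreeAbelianGroup.of '' {σ | G m σ})

theorem pCh_of {S T : SimplicialObject (Cᵒᵖ ⥤ Type u)} {V : C} (G : ∀ m, Sec S m V → Prop)
    (s : ∀ m (σ : Sec S m V), G m σ → Sec T m V) (m : ℕ) (σ : Sec S m V) (h : G m σ) :
    pCh G s m (FreeAbelianGroup.of σ) = FreeAbelianGroup.of (s m σ h) := by
  classical
  rw [pCh, FreeAbelianGroup.lift_apply_of, dif_pos h]

theorem bd_pCh {S T : SimplicialObject (Cᵒᵖ ⥤ Type u)} {V : C} (G : ∀ m, Sec S m V → Prop)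
    (s : ∀ m (σ : Sec S m V), G m σ → Sec T m V) (hG : ∀ m (σ : Sec S (m + 1) V) i, G (m + 1) σ → G m (fc S i σ))
    (hs : ∀ m (σ : Sec S (m + 1) V) i (h : G (m + 1) σ), fc T i (s (m + 1) σ h) = s m (fc S i σ) (hG m σ i h))
    (m : ℕ) (z : Ch S (m + 1) V) (hz : z ∈ gCh G (m + 1)) :
    bd T m V (pCh G s (m + 1) z) = pCh G s m (bd S m V z) := by
  induction hz using AddSubgroup.closure_induction with
  | mem x hx =>
    obtain ⟨σ, hσ, rfl⟩ := hx
    rw [pCh_of G s _ σ hσ, bd, bd, FreeAbelianGroup.lift_apply_of, FreeAbelianGroup.lift_apply_of, map_sum]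
    refine Finset.sum_congr rfl fun i _ => ?_
    rw [map_zsmul, pCh_of G s m _ (hG m σ i hσ), hs]
  | zero => simp
  | add a b _ _ ha hb => simp only [map_add, ha, hb]
  | neg a _ ha => simp only [map_neg, ha]

/-- The map on chains. -/
def fCh (m : ℕ) (U : C) : Ch L m U →+ Ch K m U := FreeAbelianGroup.map (mp f)

theorem fCh_of (m : ℕ) (U : C) (x : Sec L m U) : fCh f m U (FreeAbelianGroup.of x) = FreeAbelianGroup.of (mp f x) :=
  FreeAbelianGroup.map_of_apply _

theorem chMap_app (m : ℕ) (U : C) (z : Ch L m U) :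
    ((chMap f).f m).app (op U) z = fCh f m U z := rfl

theorem chP_map (S : SimplicialObject (Cᵒᵖ ⥤ Type u)) {m : ℕ} {U V : C} (a : V ⟶ U) (z : Ch S m U) :
    ((chP S).X m).map a.op z = rch S a z := rch_eq S a z

theorem chP_d (S : SimplicialObject (Cᵒᵖ ⥤ Type u)) (m : ℕ) (U : C) (z : Ch S (m + 1) U) :
    ((chP S).d (m + 1) m).app (op U) z = bd S m U z := by
  rw [alternatingFaceMapComplex_obj_d]
  exact dP_app S m U z

variable {f} {J : GrothendieckTopology C} {n : ℕ} (hf : IsTrivFib f J n)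
include hf

theorem exists_good_chain {m : ℕ} {U : C} (z : Ch K m U) : ∃ R : Sieve U, R ∈ J U ∧
    ∀ ⦃V : C⦄ (a : V ⟶ U), R a → rch K a z ∈ gCh (fun m σ => Good (f := f) n (m := SimplexCategory.mk m) σ) m := by
  classical
  obtain ⟨A, hA⟩ := exists_support z
  obtain ⟨R, hR, hR'⟩ := exists_good_cover hf (m := SimplexCategory.mk m) A
  refine ⟨R, hR, fun V a ha => ?_⟩
  have := AddSubgroup.mem_map_of_mem (rch K a) hA
  rw [AddMonoidHom.map_closure] at this
  refine AddSubgroup.closure_mono ?_ this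
  rintro _ ⟨_, ⟨x, hx, rfl⟩, rfl⟩
  exact ⟨rs K a x, hR' a ha x hx, (FreeAbelianGroup.lift_apply_of _ _).symm⟩

/-- Lifting of chains over a good cover. -/
theorem exists_lift_chains (V : C) : ∃ (s : ∀ m (σ : Sec K m V), Good (f := f) n (m := SimplexCategory.mk m) σ → Sec L m V),
    (∀ m σ h, mp f (s m σ h) = σ) ∧
    (∀ m (σ : Sec K (m + 1) V) i (h : Good (f := f) n (m := SimplexCategory.mk (m + 1)) σ),
      fc L i (s (m + 1) σ h) = s m (fc K i σ) (h.act (SimplexCategory.δ i))) ∧
    ∀ m (z : Ch K m V), z ∈ gCh (fun m σ => Good (f := f) n (m := SimplexCategory.mk m) σ) m →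
      fCh f m V (pCh _ s m z) = z := by
  obtain ⟨s, hs, hs'⟩ := exists_section hf V
  refine ⟨fun m => s (SimplexCategory.mk m), fun m => hs _, fun m σ i h => hs' _ _ _ inferInstance σ h,
    fun m z hz => ?_⟩
  induction hz using AddSubgroup.closure_induction with
  | mem x hx => obtain ⟨σ, hσ, rfl⟩ := hx; rw [pCh_of _ _ m σ hσ, fCh_of, hs]
  | zero => simp
  | add a b _ _ ha hb => simp only [map_add, ha, hb]
  | neg a _ ha => simp only [map_neg, ha]

end Chains

section Pairs

variable {L K : SimplicialObject (Cᵒᵖ ⥤ Type u)} (f : L ⟶ K)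

/-- The pairs of simplices with the same image. -/
def pairs : SimplicialObject (Cᵒᵖ ⥤ Type u) where
  obj l :=
    { obj := fun U => {p : (L.obj l).obj U × (L.obj l).obj U // (f.app l).app U p.1 = (f.app l).app U p.2}
      map := fun {U V} g => TypeCat.ofHom fun p => ⟨((L.obj l).map g p.1.1, (L.obj l).map g p.1.2), by
        rw [NatTrans.naturality_apply (f.app l) g, NatTrans.naturality_apply (f.app l) g, p.2]⟩
      map_id := fun U => by ext p <;> simp
      map_comp := fun g g' => by ext p <;> simp }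
  map {l l'} θ :=
    { app := fun U => TypeCat.ofHom fun p => ⟨((L.map θ).app U p.1.1, (L.map θ).app U p.1.2), by
        have h : ∀ x, (f.app l').app U ((L.map θ).app U x) = (K.map θ).app U ((f.app l).app U x) := fun x =>
          ConcreteCategory.congr_hom (NatTrans.congr_app (f.naturality θ) U) x
        rw [h, h, p.2]⟩
      naturality := fun U V g => by ext p <;> exact NatTrans.naturality_apply (L.map θ) g _ }
  map_id l := by ext U p <;> simp
  map_comp θ θ' := by ext U p <;> simp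

/-- The projections. -/
def pr₁ : pairs f ⟶ L where app l := { app := fun U => TypeCat.ofHom fun p => p.1.1 }

/-- The projections. -/
def pr₂ : pairs f ⟶ L where app l := { app := fun U => TypeCat.ofHom fun p => p.1.2 }

/-- Vertices up to `i` go to zero. -/
def step {m : ℕ} (i : Fin (m + 1)) : SimplexCategory.mk (m + 1) ⟶ SimplexCategory.mk 1 :=
  SimplexCategory.Hom.mk ⟨fun k : Fin (m + 2) => if (k : ℕ) ≤ i then (0 : Fin 2) else 1, fun a b hab => by
    have : (a : ℕ) ≤ b := hab
    simp only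
    split_ifs <;> simp <;> omega⟩

theorem step_apply {m : ℕ} (i : Fin (m + 1)) (k : Fin (m + 2)) :
    (step i).toOrderHom k = if (k : ℕ) ≤ i then (0 : Fin 2) else 1 := rfl

theorem hom_ext_val {m m' : ℕ} {g g' : SimplexCategory.mk m ⟶ SimplexCategory.mk m'}
    (h : ∀ k : Fin (m + 1), (g.toOrderHom k : ℕ) = g'.toOrderHom k) : g = g' :=
  SimplexCategory.Hom.ext _ _ (OrderHom.ext _ _ (funext fun k => Fin.ext (h k)))

variable {f} {J : GrothendieckTopology C} {n : ℕ} (hf : IsTrivFib f J n)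
include hf

theorem prism_congr {m m' : SimplexCategory} {U : C} (x y : At L m U) (hxy : mp f x = mp f y) {a a' : m' ⟶ m}
    {β β' : m' ⟶ SimplexCategory.mk 1} (ha : a = a') (hβ : β = β') :
    prism hf x y hxy a β = prism hf x y hxy a' β' := by
  subst ha hβ; rfl

/-- The prism as a map of presheaves. -/
def hMap {m : ℕ} (i : Fin (m + 1)) :
    (pairs f).obj (op (SimplexCategory.mk m)) ⟶ L.obj (op (SimplexCategory.mk (m + 1))) where
  app U := TypeCat.ofHom fun p => prism hf (U := U.unop) p.1.1 p.1.2 p.2 (SimplexCategory.σ i) (step i)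
  naturality U V g := by
    ext p
    exact (rst_prism hf g.unop p.1.1 p.1.2 p.2
      ((mp_rst f _ _).trans ((congrArg _ p.2).trans (mp_rst f _ _).symm)) _ _).symm

/-- The two projections are homotopic. -/
def homotopy : SimplicialObject.Homotopy (pr₁ f) (pr₂ f) where
  h i := hMap hf i
  h_zero_comp_δ_zero m := by
    ext U p
    show act L (SimplexCategory.δ 0) (prism hf (U := U.unop) p.1.1 p.1.2 p.2 _ _) = p.1.2
    rw [act_prism]
    refine (eq_prism hf _ _ _ _ _ _ (fun l hl φ h => ?_) fun l hl φ _ => ?_).symm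
    · exfalso
      have := h 0
      simp [SimplexCategory.comp_toOrderHom, step_apply, SimplexCategory.δ, SimplexCategory.mkHom] at this
    · rw [SimplexCategory.δ_comp_σ_self' (Fin.castSucc_zero).symm, Category.comp_id]
  h_last_comp_δ_last m := by
    ext U p
    show act L (SimplexCategory.δ (Fin.last (m + 1))) (prism hf (U := U.unop) p.1.1 p.1.2 p.2 _ _) = p.1.1
    rw [act_prism]
    refine (eq_prism hf _ _ _ _ _ _ (fun l hl φ _ => ?_) fun l hl φ h => ?_).symm
    · rw [SimplexCategory.δ_comp_σ_succ' (Fin.succ_last m).symm, Category.comp_id]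
    · exfalso
      refine h fun k => ?_
      simp [SimplexCategory.comp_toOrderHom, step_apply, SimplexCategory.δ, SimplexCategory.mkHom]
      exact Nat.le_of_lt_succ (φ.toOrderHom k).isLt
  h_succ_comp_δ_castSucc_of_lt {m} i j hij := by
    ext U p
    show act L (SimplexCategory.δ i.castSucc) (prism hf (U := U.unop) p.1.1 p.1.2 p.2 _ _) =
      prism hf (U := U.unop) (act L (SimplexCategory.δ i) p.1.1) (act L (SimplexCategory.δ i) p.1.2) 
        ((mp_act f _ _).trans ((congrArg _ p.2).trans (mp_act f _ _).symm)) _ _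
    rw [act_prism, prism_act hf _ _ p.2]
    refine prism_congr hf _ _ _ (SimplexCategory.δ_comp_σ_of_le hij) (hom_ext_val fun k => ?_)
    simp [SimplexCategory.comp_toOrderHom, step_apply, SimplexCategory.δ, SimplexCategory.mkHom,
      Fin.succAbove, Fin.lt_def, Fin.le_def, -Fin.val_fin_lt, -Fin.val_fin_le] at hij ⊢
    split_ifs <;> simp_all <;> omega
  h_succ_comp_δ_castSucc_succ {m} j := by
    ext U p
    show act L (SimplexCategory.δ j.castSucc.succ) (prism hf (U := U.unop) p.1.1 p.1.2 p.2 _ _) =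
      act L (SimplexCategory.δ j.castSucc.succ) (prism hf (U := U.unop) p.1.1 p.1.2 p.2 _ _)
    rw [act_prism, act_prism]
    refine prism_congr hf _ _ _ ?_ (hom_ext_val fun k => ?_)
    · rw [SimplexCategory.δ_comp_σ_self' (j := j.castSucc.succ) (i := j.succ) (Fin.succ_castSucc j),
        SimplexCategory.δ_comp_σ_succ' (j := j.castSucc.succ) (i := j.castSucc) rfl]
    · simp [SimplexCategory.comp_toOrderHom, step_apply, SimplexCategory.δ, SimplexCategory.mkHom,
        Fin.succAbove, Fin.lt_def, -Fin.val_fin_lt, -Fin.val_fin_le]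
      split_ifs <;> simp_all <;> omega
  h_castSucc_comp_δ_succ_of_lt {m} i j hji := by
    ext U p
    show act L (SimplexCategory.δ i.succ) (prism hf (U := U.unop) p.1.1 p.1.2 p.2 _ _) =
      prism hf (U := U.unop) (act L (SimplexCategory.δ i) p.1.1) (act L (SimplexCategory.δ i) p.1.2) 
        ((mp_act f _ _).trans ((congrArg _ p.2).trans (mp_act f _ _).symm)) _ _
    rw [act_prism, prism_act hf _ _ p.2]
    refine prism_congr hf _ _ _ (SimplexCategory.δ_comp_σ_of_gt hji) (hom_ext_val fun k => ?_)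
    simp [SimplexCategory.comp_toOrderHom, step_apply, SimplexCategory.δ, SimplexCategory.mkHom,
      Fin.succAbove, Fin.lt_def, -Fin.val_fin_lt, -Fin.val_fin_le] at hji ⊢
    split_ifs <;> simp_all <;> omega
  h_comp_σ_castSucc_of_le {m} i j hij := by
    ext U p
    show act L (SimplexCategory.σ i.castSucc) (prism hf (U := U.unop) p.1.1 p.1.2 p.2 _ _) =
      prism hf (U := U.unop) (act L (SimplexCategory.σ i) p.1.1) (act L (SimplexCategory.σ i) p.1.2) 
        ((mp_act f _ _).trans ((congrArg _ p.2).trans (mp_act f _ _).symm)) _ _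
    rw [act_prism, prism_act hf _ _ p.2]
    refine prism_congr hf _ _ _ (SimplexCategory.σ_comp_σ hij) (hom_ext_val fun k => ?_)
    simp [SimplexCategory.comp_toOrderHom, step_apply, SimplexCategory.σ, SimplexCategory.mkHom,
      Fin.predAbove, Fin.lt_def, Fin.le_def, -Fin.val_fin_lt, -Fin.val_fin_le] at hij ⊢
    split_ifs <;> simp_all <;> omega
  h_comp_σ_succ_of_lt {m} i j hji := by
    ext U p
    show act L (SimplexCategory.σ i.succ) (prism hf (U := U.unop) p.1.1 p.1.2 p.2 _ _) =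
      prism hf (U := U.unop) (act L (SimplexCategory.σ i) p.1.1) (act L (SimplexCategory.σ i) p.1.2) 
        ((mp_act f _ _).trans ((congrArg _ p.2).trans (mp_act f _ _).symm)) _ _
    rw [act_prism, prism_act hf _ _ p.2]
    refine prism_congr hf _ _ _ (SimplexCategory.σ_comp_σ hji).symm (hom_ext_val fun k => ?_)
    simp [SimplexCategory.comp_toOrderHom, step_apply, SimplexCategory.σ, SimplexCategory.mkHom,
      Fin.predAbove, Fin.lt_def, Fin.le_def, -Fin.val_fin_lt, -Fin.val_fin_le] at hji ⊢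
    split_ifs <;> simp_all <;> omega

theorem exists_bd_pr {m : ℕ} {V : C} (x : Ch (pairs f) m V)
    (hx : ((chP (pairs f)).d m ((ComplexShape.down ℕ).next m)).app (op V) x = 0) :
    ∃ v, ((chP L).d (m + 1) m).app (op V) v = fCh (pr₁ f) m V x - fCh (pr₂ f) m V x := by
  let F := (Functor.whiskeringRight Cᵒᵖ (Type u) AddCommGrpCat.{u}).obj AddCommGrpCat.free.{u}
  let H := ((homotopy hf).whiskerRight F).toChainHomotopy
  have hp : (ComplexShape.down ℕ).prev m = m + 1 := by simp
  refine ⟨(H.hom m (m + 1)).app (op V) x, ?_⟩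
  have h := H.comm m
  rw [prevD_eq (j' := m + 1) (w := by simp), dNext] at h
  have h' := ConcreteCategory.congr_hom (NatTrans.congr_app h (op V)) x
  change fCh (pr₁ f) m V x = _ + _ + fCh (pr₂ f) m V x at h'
  rw [eq_sub_iff_add_eq, h']
  congr 1
  refine (zero_add _).symm.trans (congrArg (· + _) ?_)
  refine Eq.trans ?_ (congrArg ((H.hom ((ComplexShape.down ℕ).next m) m).app (op V)) hx.symm)
  exact (map_zero _).symm

end Pairs

section Main

variable {L K : SimplicialObject (Cᵒᵖ ⥤ Type u)} {f : L ⟶ K} {J : GrothendieckTopology C} {n : ℕ}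
  (hf : IsTrivFib f J n)

/-- Cycles. -/
def IsCyc (S : SimplicialObject (Cᵒᵖ ⥤ Type u)) : ∀ {m : ℕ} {U : C}, Ch S m U → Prop
  | 0, _, _ => True
  | m + 1, U, z => bd S m U z = 0

theorem isCyc_iff (S : SimplicialObject (Cᵒᵖ ⥤ Type u)) {m : ℕ} {U : C} (z : Ch S m U) :
    IsCyc S z ↔ ((chP S).d m ((ComplexShape.down ℕ).next m)).app (op U) z = 0 := by
  cases m with
  | zero => rw [(chP S).shape _ _ (by simp)]; exact iff_of_true trivial rfl
  | succ m =>
    rw [show (ComplexShape.down ℕ).next (m + 1) = m by simp, chP_d]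
    rfl

theorem rch_bd (S : SimplicialObject (Cᵒᵖ ⥤ Type u)) {m : ℕ} {U V : C} (a : V ⟶ U) (z : Ch S (m + 1) U) :
    rch S a (bd S m U z) = bd S m V (rch S a z) := by
  rw [← chP_d, ← chP_d, ← chP_map, ← chP_map, NatTrans.naturality_apply ((chP S).d (m + 1) m) a.op]

theorem IsCyc.rch (S : SimplicialObject (Cᵒᵖ ⥤ Type u)) {m : ℕ} {U V : C} (a : V ⟶ U) {z : Ch S m U}
    (hz : IsCyc S z) : IsCyc S (HyperH28.rch S a z) := by
  cases m with
  | zero => trivial
  | succ m =>
    show bd S m V _ = 0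
    rw [← rch_bd, show bd S m U z = 0 from hz, map_zero]

theorem rch_fCh {m : ℕ} {U V : C} (a : V ⟶ U) (z : Ch L m U) :
    rch K a (fCh f m U z) = fCh f m V (rch L a z) := by
  rw [← chMap_app, ← chMap_app, ← chP_map, ← chP_map, NatTrans.naturality_apply ((chMap f).f m) a.op]

theorem isCyc_pCh {S T : SimplicialObject (Cᵒᵖ ⥤ Type u)} {V : C} (G : ∀ m, Sec S m V → Prop)
    (s : ∀ m (σ : Sec S m V), G m σ → Sec T m V) (hG : ∀ m (σ : Sec S (m + 1) V) i, G (m + 1) σ → G m (fc S i σ))
    (hs : ∀ m (σ : Sec S (m + 1) V) i (h : G (m + 1) σ), fc T i (s (m + 1) σ h) = s m (fc S i σ) (hG m σ i h))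
    {m : ℕ} {z : Ch S m V} (hzG : z ∈ gCh G m) (hz : IsCyc S z) : IsCyc T (pCh G s m z) := by
  cases m with
  | zero => trivial
  | succ m =>
    show bd T m V _ = 0
    rw [bd_pCh G s hG hs m z hzG, show bd S m V z = 0 from hz, map_zero]

include hf

theorem exists_cycle_lift {m : ℕ} {U : C} (b : Ch K m U) (hb : IsCyc K b) : ∃ R : Sieve U, R ∈ J U ∧
    ∀ ⦃V : C⦄ (a : V ⟶ U), R a → ∃ z, IsCyc L z ∧ fCh f m V z = rch K a b := by
  obtain ⟨R, hR, hR'⟩ := exists_good_chain hf b
  refine ⟨R, hR, fun V a ha => ?_⟩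
  obtain ⟨s, -, hs, hs'⟩ := exists_lift_chains hf V
  exact ⟨_, isCyc_pCh _ s (fun m σ i h => h.act _) hs (hR' a ha) (hb.rch K a), hs' m _ (hR' a ha)⟩

theorem exists_primitive {m : ℕ} {U : C} (z : Ch L m U) (hz : IsCyc L z) (w : Ch K (m + 1) U)
    (hw : bd K m U w = fCh f m U z) : ∃ R : Sieve U, R ∈ J U ∧
    ∀ ⦃V : C⦄ (a : V ⟶ U), R a → ∃ v, bd L m V v = rch L a z := by
  classical
  obtain ⟨A, hA⟩ := exists_support z
  obtain ⟨R, hR, hR'⟩ := exists_good_chain hf w
  obtain ⟨R₀, hR₀, hR₀'⟩ := exists_good_cover hf (m := SimplexCategory.mk m)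
    (A.image fun σ : Sec L m U => mp f σ)
  refine ⟨R ⊓ R₀, J.intersection_covering hR hR₀, fun V a ha => ?_⟩
  obtain ⟨s, hfs, hs, -⟩ := exists_lift_chains hf V
  let G : ∀ m, Sec L m V → Prop := fun m σ => Good (f := f) n (m := SimplexCategory.mk m) (mp f σ)
  have hG : ∀ m (σ : Sec L (m + 1) V) i, G (m + 1) σ → G m (fc L i σ) := fun m σ i h => by
    show Good n (mp f (act L (SimplexCategory.δ i) σ))
    rw [mp_act]
    exact h.act _
  let π : ∀ m (σ : Sec L m V), G m σ → Sec (pairs f) m V := fun m σ h => ⟨(σ, s m (mp f σ) h), (hfs m _ h).symm⟩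
  have hπ : ∀ m (σ : Sec L (m + 1) V) i (h : G (m + 1) σ),
      fc (pairs f) i (π (m + 1) σ h) = π m (fc L i σ) (hG m σ i h) := fun m σ i h => by
    refine Subtype.ext (Prod.ext rfl ?_)
    refine (hs m (mp f σ) i h).trans ?_
    congr 1
    exact (mp_act f _ σ).symm
  have hzG : rch L a z ∈ gCh G m := by
    have := AddSubgroup.mem_map_of_mem (rch L a) hA
    rw [AddMonoidHom.map_closure] at this
    refine AddSubgroup.closure_mono ?_ this
    rintro _ ⟨_, ⟨x, hx, rfl⟩, rfl⟩
    refine ⟨rs L a x, ?_, (FreeAbelianGroup.lift_apply_of _ _).symm⟩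
    show Good n (mp f (rst L a x))
    rw [mp_rst]
    exact hR₀' a ha.2 _ (Finset.mem_image_of_mem _ hx)
  obtain ⟨v, hv⟩ := exists_bd_pr hf (pCh G π m (rch L a z))
    ((isCyc_iff _ _).1 (isCyc_pCh G π hG hπ hzG (hz.rch L a)))
  have hp : fCh (pr₁ f) m V (pCh G π m (rch L a z)) = rch L a z ∧
      fCh (pr₂ f) m V (pCh G π m (rch L a z)) = pCh _ s m (fCh f m V (rch L a z)) := by
    revert hzG
    generalize rch L a z = x
    intro hzG
    induction hzG using AddSubgroup.closure_induction with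
    | mem x hx =>
      obtain ⟨σ, hσ, rfl⟩ := hx
      rw [pCh_of G π m σ hσ, fCh_of, fCh_of, fCh_of, pCh_of _ s m _ hσ]
      exact ⟨rfl, rfl⟩
    | zero => simp
    | add a b _ _ ha hb => simp only [map_add, ha.1, hb.1, ha.2, hb.2, and_self]
    | neg a _ ha => simp only [map_neg, ha.1, ha.2, and_self]
  rw [hp.1, hp.2, chP_d, ← rch_fCh, ← hw, rch_bd, ← bd_pCh _ s (fun m σ i h => h.act _) hs m _ (hR' a ha.1)] at hv
  let v' : Ch L (m + 1) V := v
  change bd L m V v' = _ at hv
  exact ⟨v' + pCh _ s (m + 1) (rch K a w), by rw [map_add, hv, sub_add_cancel]⟩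

theorem isIso_sheafify_homologyMap (i : ℕ) :
    IsIso (HomologicalComplex.homologyMap
      (((presheafToSheaf J AddCommGrpCat.{u}).mapHomologicalComplex (ComplexShape.down ℕ)).map (chMap f)) i) := by
  refine isIso_homologyMap_sheafify J _ i (isIso_map_homologyMap J _ (fun U b hb => ?_) fun U z hz hw => ?_)
  · obtain ⟨R, hR, hR'⟩ := exists_cycle_lift hf b ((isCyc_iff K b).2 hb)
    refine ⟨R, hR, fun V a ha => ?_⟩
    obtain ⟨z, hz, hz'⟩ := hR' a ha
    refine ⟨z, (isCyc_iff L z).1 hz, 0, (map_zero _).trans ?_⟩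
    exact (sub_eq_zero.2 (hz'.trans (chP_map K a b).symm)).symm
  · have hp : (ComplexShape.down ℕ).prev i = i + 1 := by simp
    obtain ⟨w, hw'⟩ : ∃ w, ((chP K).d (i + 1) i).app (op U) w = fCh f i U z := by
      obtain ⟨w, hw⟩ := hw
      revert w
      show ∀ w : ((chP K).X ((ComplexShape.down ℕ).prev i)).obj (op U),
        ((chP K).d ((ComplexShape.down ℕ).prev i) i).app (op U) w = fCh f i U z → _
      rw [hp]
      exact fun w hw => ⟨w, hw⟩
    rw [chP_d] at hw'
    obtain ⟨R, hR, hR'⟩ := exists_primitive hf z ((isCyc_iff L z).2 hz) w hw'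
    refine ⟨R, hR, fun V a ha => ?_⟩
    obtain ⟨v, hv⟩ := hR' a ha
    show ∃ v : ((chP L).X ((ComplexShape.down ℕ).prev i)).obj (op V),
      ((chP L).d ((ComplexShape.down ℕ).prev i) i).app (op V) v = ((chP L).X i).map a.op z
    rw [hp]
    exact ⟨v, by rw [chP_d, hv, chP_map]⟩

end Main

end Groth.Agent.HyperH28.CoskRel
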