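import Groth.Agent.Lib.HyperH28.CoskRelHom
import Groth.Prelude.Def_Hyper
import Mathlib.CategoryTheory.Sites.PreservesSheafification
import Mathlib.CategoryTheory.Adjunction.Whiskering

/-!
# Coskeletal simplicial presheaves and sheaves
-/

set_option autoImplicit false
set_option backward.isDefEq.respectTransparency false
set_option backward.isDefEq.respectTransparency.types false

universe u v w

open CategoryTheory CategoryTheory.Limits Opposite AlgebraicTopology

noncomputable section

namespace Groth.Agent.HyperH28.CoskRel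

theorem bijective_truncation_map {A : Type v} [Category.{w} A] (n : ℕ)
    [∀ (F : (SimplexCategory.Truncated n)ᵒᵖ ⥤ A), (SimplexCategory.Truncated.inclusion n).op.HasRightKanExtension F]
    (L : SimplicialObject A) [IsIso ((SimplicialObject.coskAdj n).unit.app L)] (S : SimplicialObject A) :
    Function.Bijective (fun σ : S ⟶ L => (SimplicialObject.truncation n).map σ) := by
  have h : ∀ σ : S ⟶ L, (SimplicialObject.coskAdj n).homEquiv _ _ ((SimplicialObject.truncation n).map σ) =
      σ ≫ (SimplicialObject.coskAdj n).unit.app L := fun σ => by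
    rw [Adjunction.homEquiv_unit]
    exact ((SimplicialObject.coskAdj n).unit.naturality σ).symm
  constructor
  · intro σ σ' e
    rw [← cancel_mono ((SimplicialObject.coskAdj n).unit.app L), ← h, ← h]
    exact congrArg _ e
  · intro τ
    refine ⟨(SimplicialObject.coskAdj n).homEquiv _ _ τ ≫ inv ((SimplicialObject.coskAdj n).unit.app L), ?_⟩
    apply ((SimplicialObject.coskAdj n).homEquiv _ _).injective
    rw [h, Category.assoc, IsIso.inv_hom_id, Category.comp_id]

variable {C : Type u} [SmallCategory C]

/-- The simplicial presheaf of a simplex over an object. -/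
def simplexPsh (m : SimplexCategory) (U : C) : SimplicialObject (Cᵒᵖ ⥤ Type u) where
  obj l :=
    { obj := fun V => ULift.{u} (l.unop ⟶ m) × (V.unop ⟶ U)
      map := fun g => TypeCat.ofHom fun p => (p.1, g.unop ≫ p.2)
      map_id := fun V => by ext p <;> simp
      map_comp := fun g g' => by ext p <;> simp }
  map θ := { app := fun V => TypeCat.ofHom fun p => (⟨θ.unop ≫ p.1.down⟩, p.2) }
  map_id l := by ext V p <;> simp
  map_comp θ θ' := by ext V p <;> simp

theorem isCoskel_of_bijective {L : SimplicialObject (Cᵒᵖ ⥤ Type u)} (n : ℕ)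
    (h : ∀ S : SimplicialObject (Cᵒᵖ ⥤ Type u),
      Function.Bijective (fun σ : S ⟶ L => (SimplicialObject.truncation n).map σ)) : IsCoskel L n where
  ext {m U} c c' hcc := by
    let hom : ∀ _ : At L m U, simplexPsh m U ⟶ L := fun c =>
      { app := fun l =>
          { app := fun V => TypeCat.ofHom fun p => rst L (l := l.unop) (V := V.unop) p.2 (act L p.1.down c)
            naturality := fun V V' g => by
              ext p
              exact (rst_rst L p.2 g.unop _).symm }
        naturality := fun l l' θ => by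
          ext V p
          show rst L p.2 (act L (θ.unop ≫ p.1.down) c) = act L θ.unop (rst L p.2 (act L p.1.down c))
          rw [act_rst, act_comp] }
    have e : hom c = hom c' := (h _).1 (by
      ext l V p
      show rst L (l := l.unop.obj) (V := V.unop) p.2 (act L p.1.down c) = rst L p.2 (act L p.1.down c')
      rw [hcc _ l.unop.property]
      rfl)
    have e' := ConcreteCategory.congr_hom (NatTrans.congr_app (NatTrans.congr_app e (op m)) (op U))
      ((⟨𝟙 m⟩, 𝟙 U) : ULift.{u} (m ⟶ m) × (U ⟶ U))
    change rst L (𝟙 U) (act L (𝟙 m) c) = rst L (𝟙 U) (act L (𝟙 m) c') at e'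
    rwa [act_id, act_id, rst_id, rst_id] at e'
  exists_elt {m U} F hF := by
    let τ : (SimplicialObject.truncation n).obj (simplexPsh m U) ⟶ (SimplicialObject.truncation n).obj L :=
      { app := fun l =>
          { app := fun V => TypeCat.ofHom fun p =>
              rst L (l := l.unop.obj) (V := V.unop) p.2 (F l.unop.obj l.unop.property p.1.down)
            naturality := fun V V' g => by
              ext p
              exact (rst_rst L p.2 g.unop _).symm }
        naturality := fun l l' θ => by
          ext V p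
          show rst L p.2 (F _ _ (θ.unop.hom ≫ p.1.down)) = act L θ.unop.hom (rst L p.2 (F _ _ p.1.down))
          rw [act_rst, hF _ _ l.unop.property] }
    obtain ⟨σ, hσ⟩ := (h (simplexPsh m U)).2 τ
    refine ⟨(σ.app (op m)).app (op U) (⟨𝟙 m⟩, 𝟙 U), fun l hl g => ?_⟩
    have h1 := ConcreteCategory.congr_hom (NatTrans.congr_app (σ.naturality g.op) (op U))
      ((⟨𝟙 m⟩, 𝟙 U) : ULift.{u} (m ⟶ m) × (U ⟶ U))
    refine h1.symm.trans ?_
    have h2 := ConcreteCategory.congr_hom (NatTrans.congr_app (NatTrans.congr_app hσ (op ⟨l, hl⟩)) (op U))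
      ((⟨g⟩, 𝟙 U) : ULift.{u} (l ⟶ m) × (U ⟶ U))
    show (σ.app (op l)).app (op U) (⟨g ≫ 𝟙 m⟩, 𝟙 U) = _
    rw [Category.comp_id]
    exact h2.trans (rst_id L _)

variable (J : GrothendieckTopology C)

/-- The simplicial presheaf underlying a simplicial sheaf. -/
abbrev toPsh (L : SimplicialObject (Sheaf J (Type u))) : SimplicialObject (Cᵒᵖ ⥤ Type u) :=
  L ⋙ sheafToPresheaf J (Type u)

theorem bijective_truncation_map_sheaf (n : ℕ)
    [∀ (F : (SimplexCategory.Truncated n)ᵒᵖ ⥤ Sheaf J (Type u)),
      (SimplexCategory.Truncated.inclusion n).op.HasRightKanExtension F]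
    (L : SimplicialObject (Sheaf J (Type u))) [IsIso ((SimplicialObject.coskAdj n).unit.app L)]
    (S : SimplicialObject (Cᵒᵖ ⥤ Type u)) :
    Function.Bijective (fun σ : S ⟶ toPsh J L => (SimplicialObject.truncation n).map σ) := by
  let adj := sheafificationAdjunction J (Type u)
  let e := (adj.whiskerRight SimplexCategoryᵒᵖ).homEquiv S L
  let e' := (adj.whiskerRight (SimplexCategory.Truncated n)ᵒᵖ).homEquiv ((SimplicialObject.truncation n).obj S)
    ((SimplicialObject.truncation n).obj L)
  have : (fun σ : S ⟶ toPsh J L => (SimplicialObject.truncation n).map σ) =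
      e' ∘ (fun σ : (S ⋙ presheafToSheaf J (Type u) : SimplicialObject (Sheaf J (Type u))) ⟶ L =>
        (SimplicialObject.truncation n).map σ) ∘ e.symm := by
    funext σ
    obtain ⟨σ, rfl⟩ := e.surjective σ
    simp only [Function.comp_apply, Equiv.symm_apply_apply]
    rfl
  rw [this]
  exact e'.bijective.comp ((bijective_truncation_map n L _).comp e.symm.bijective)

theorem isTrivFib_of {L K : SimplicialObject (Cᵒᵖ ⥤ Type u)} (f : L ⟶ K) (n : ℕ)
    (hL : IsCoskel L n) (hK : IsCoskel K n) (h1 : ∀ i : ℕ, i < n → IsIso (f.app (op (SimplexCategory.mk i))))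
    (h2 : Presheaf.IsLocallySurjective J (f.app (op (SimplexCategory.mk n)))) : IsTrivFib f J n where
  coskL := hL
  coskK := hK
  bij l hl U := by
    haveI := h1 l.len hl
    exact (isIso_iff_bijective ((f.app (op (SimplexCategory.mk l.len))).app (op U))).1 inferInstance
  surj U y := by
    haveI := h2
    refine ⟨_, Presheaf.imageSieve_mem J (f.app (op (SimplexCategory.mk n))) y, fun V a ha => ?_⟩
    obtain ⟨x, hx⟩ := ha
    exact ⟨x, hx⟩

theorem isLocallySurjective_of_isTrivFib {L K : SimplicialObject (Cᵒᵖ ⥤ Type u)} {f : L ⟶ K} {n : ℕ}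
    (hf : IsTrivFib f J n) (p : ℕ) : Presheaf.IsLocallySurjective J (f.app (op (SimplexCategory.mk p))) :=
  ⟨fun {U} σ => by
    obtain ⟨R, hR, hR'⟩ := exists_good_cover hf (m := SimplexCategory.mk p) ({σ} : Finset _)
    refine J.superset_covering (fun V a ha => ?_) hR
    obtain ⟨s, hs, -⟩ := exists_section hf V
    exact ⟨s _ _ (hR' a ha σ (Finset.mem_singleton_self σ)), hs _ _ _⟩⟩

theorem isIso_homologyMap_free {L K : SimplicialObject (Cᵒᵖ ⥤ Type u)} {f : L ⟶ K} {n : ℕ}
    (hf : IsTrivFib f J n) (i : ℕ) :
    IsIso (HomologicalComplex.homologyMap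
      ((alternatingFaceMapComplex (Sheaf J AddCommGrpCat.{u})).map
        (Functor.whiskerRight f ((Functor.whiskeringRight Cᵒᵖ (Type u) AddCommGrpCat.{u}).obj AddCommGrpCat.free.{u} ⋙
          presheafToSheaf J AddCommGrpCat.{u}))) i) := by
  have h := Functor.congr_hom (map_alternatingFaceMapComplex (presheafToSheaf J AddCommGrpCat.{u}))
    (Functor.whiskerRight f ((Functor.whiskeringRight Cᵒᵖ (Type u) AddCommGrpCat.{u}).obj AddCommGrpCat.free.{u}))
  haveI := isIso_sheafify_homologyMap hf i
  have h' : ((presheafToSheaf J AddCommGrpCat.{u}).mapHomologicalComplex (ComplexShape.down ℕ)).map (chMap f) =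
      eqToHom _ ≫ (alternatingFaceMapComplex (Sheaf J AddCommGrpCat.{u})).map
        (Functor.whiskerRight f ((Functor.whiskeringRight Cᵒᵖ (Type u) AddCommGrpCat.{u}).obj AddCommGrpCat.free.{u} ⋙
          presheafToSheaf J AddCommGrpCat.{u})) ≫ eqToHom _ := h
  rw [h', HomologicalComplex.homologyMap_comp, HomologicalComplex.homologyMap_comp] at this
  have h1 := @IsIso.of_isIso_comp_left _ _ _ _ _ _ _ _ this
  exact @IsIso.of_isIso_comp_right _ _ _ _ _ _ _ _ h1

end Groth.Agent.HyperH28.CoskRel
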