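import Groth.Agent.Lib.DblCx16.Aug
import Groth.Agent.Lib.SpObj.Abutment
import Groth.Agent.Lib.SpObj.Homology
import Groth.Prelude.Def_SpSeq
import Mathlib.Algebra.Homology.HomotopyCategory.SpectralObject
import Mathlib.Algebra.Homology.HomotopyCategory.HomologicalFunctor
import Mathlib.Algebra.Homology.HomotopyCategory.ShortExact
import Mathlib.Algebra.Homology.HomologicalComplexAbelian
import Mathlib.Algebra.Category.Grp.Zero

/-!
# The spectral sequence of a double complex from page two, by truncation of the columns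
-/

set_option autoImplicit false
set_option linter.style.haveILetI false

universe u

open CategoryTheory CategoryTheory.Limits ComposableArrows

namespace Groth.Agent.HyperH28

open Groth.Agent.DblCx16 CategoryTheory.Abelian

variable (M : Dbl.{u})

/-- The vertical boundaries. -/
def vIm : ∀ p q, AddSubgroup (M.X p q)
  | _, 0 => ⊥
  | p, q + 1 => (M.v p q).range

theorem v_eq_zero_of_mem_vIm : ∀ (p q : ℕ) (x : M.X p q), x ∈ vIm M p q → M.v p q x = 0
  | p, 0, x, hx => by rw [show x = 0 from hx, map_zero]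
  | p, q + 1, x, ⟨y, hy⟩ => by rw [← hy, M.vv]

/-- The truncation of the columns below `j`. -/
def tr (j : EInt) (n : ℤ) : AddSubgroup (T M n) where
  carrier := {a | ∀ i : Idx n,
    (j ≤ (((i.1.2 : ℤ) + 1 : ℤ) : EInt) → M.v i.1.1 i.1.2 (a i) = 0) ∧ (j ≤ ((i.1.2 : ℤ) : EInt) → a i = 0)}
  add_mem' {a b} ha hb i := ⟨fun h => by rw [Pi.add_apply, map_add, (ha i).1 h, (hb i).1 h, add_zero],
    fun h => by rw [Pi.add_apply, (ha i).2 h, (hb i).2 h, add_zero]⟩
  zero_mem' i := ⟨fun _ => map_zero _, fun _ => rfl⟩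
  neg_mem' {a} ha i := ⟨fun h => by rw [Pi.neg_apply, map_neg, (ha i).1 h, neg_zero],
    fun h => by rw [Pi.neg_apply, (ha i).2 h, neg_zero]⟩

theorem coe_le_coe_of_le {a b : ℤ} (h : a ≤ b) : ((a : ℤ) : EInt) ≤ ((b : ℤ) : EInt) := by simpa using h

theorem le_of_coe_le_coe {a b : ℤ} (h : ((a : ℤ) : EInt) ≤ ((b : ℤ) : EInt)) : a ≤ b := by simpa using h

theorem tr_mono {i j : EInt} (h : i ≤ j) (n : ℤ) : tr M i n ≤ tr M j n :=
  fun a ha k => ⟨fun hk => (ha k).1 (h.trans hk), fun hk => (ha k).2 (h.trans hk)⟩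

theorem td_mem_tr (j : EInt) {m n : ℤ} (e : m + 1 = n) {a : T M m} (ha : a ∈ tr M j m) :
    td M m n e a ∈ tr M j n := by
  rintro ⟨⟨p, q⟩, hi⟩
  refine ⟨fun hj => ?_, fun hj => ?_⟩
  · show M.v p q (hPart M m n e a p q hi + vPart M m n e a p q hi) = 0
    rw [map_add]
    have h1 : M.v p q (hPart M m n e a p q hi) = 0 := by
      cases p with
      | zero => exact map_zero _
      | succ p =>
        show M.v (p + 1) q (M.h p q _) = 0
        rw [← M.hv, (ha ⟨(p, q), by push_cast at hi ⊢; omega⟩).1 hj, map_zero]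
    have h2 : M.v p q (vPart M m n e a p q hi) = 0 := by
      cases q with
      | zero => exact map_zero _
      | succ q =>
        show M.v p (q + 1) (((-1 : ℤ) ^ p) • M.v p q _) = 0
        rw [map_zsmul, M.vv, smul_zero]
    rw [h1, h2, add_zero]
  · show hPart M m n e a p q hi + vPart M m n e a p q hi = 0
    have h1 : hPart M m n e a p q hi = 0 := by
      cases p with
      | zero => rfl
      | succ p =>
        show M.h p q _ = 0
        rw [(ha ⟨(p, q), by push_cast at hi ⊢; omega⟩).2 hj, map_zero]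
    have h2 : vPart M m n e a p q hi = 0 := by
      cases q with
      | zero => rfl
      | succ q =>
        show ((-1 : ℤ) ^ p) • M.v p q _ = 0
        rw [(ha ⟨(p, q), by push_cast at hi ⊢; omega⟩).1 (by push_cast at hj ⊢; exact hj), smul_zero]
    rw [h1, h2, add_zero]

/-- The restricted total differential. -/
def trTd (j : EInt) (m n : ℤ) (e : m + 1 = n) : tr M j m →+ tr M j n :=
  ((td M m n e).comp (tr M j m).subtype).codRestrict _ fun a => td_mem_tr M j e a.2

/-- The truncated total complexes. -/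
def trCx (j : EInt) : CochainComplex AddCommGrpCat.{u} ℤ where
  X n := AddCommGrpCat.of (tr M j n)
  d m n := if e : m + 1 = n then AddCommGrpCat.ofHom (trTd M j m n e) else 0
  shape m n e := dif_neg e
  d_comp_d' l m n e e' := by
    change l + 1 = m at e
    change m + 1 = n at e'
    rw [dif_pos e, dif_pos e']
    refine ConcreteCategory.hom_ext _ _ fun a => Subtype.ext ?_
    exact td_td M l m n e e' _

theorem trCx_d (j : EInt) (m n : ℤ) (e : m + 1 = n) (a : tr M j m) : (trCx M j).d m n a = trTd M j m n e a := by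
  show (if e : m + 1 = n then AddCommGrpCat.ofHom (trTd M j m n e) else 0) a = _
  rw [dif_pos e]
  rfl

/-- The functor of truncations. -/
def trFun : EInt ⥤ CochainComplex AddCommGrpCat.{u} ℤ where
  obj j := trCx M j
  map {i j} h :=
    { f := fun n => AddCommGrpCat.ofHom (AddSubgroup.inclusion (tr_mono M (leOfHom h) n))
      comm' := fun m n e => by
        change m + 1 = n at e
        refine ConcreteCategory.hom_ext _ _ fun a => Subtype.ext ?_
        refine (congrArg Subtype.val (trCx_d M j m n e _)).trans ?_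
        exact (congrArg Subtype.val (trCx_d M i m n e a)).symm }
  map_id _ := HomologicalComplex.hom_ext _ _ fun n => ConcreteCategory.hom_ext _ _ fun a => rfl
  map_comp _ _ := HomologicalComplex.hom_ext _ _ fun n => ConcreteCategory.hom_ext _ _ fun a => rfl

/-- The spectral object of the truncations. -/
noncomputable def trObj : SpectralObject AddCommGrpCat.{u} EInt :=
  SpObj.mapHomological ((HomotopyCategory.spectralObjectMappingCone AddCommGrpCat.{u}).precomp (trFun M))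
    (HomotopyCategory.homologyFunctor AddCommGrpCat.{u} (ComplexShape.up ℤ) 0)

/-- Relative cocycles modulo relative coboundaries compute the values of the spectral object. -/
theorem nonempty_H_iso {i j : EInt} (h : i ≤ j) (n : ℤ) (S : ShortComplex AddCommGrpCat.{u})
    (f : tr M j n →+ S.X₂) (h0 : ∀ b : tr M j n, b.1 ∈ tr M i n → f b = 0)
    (hc : ∀ b : tr M j n, td M n (n + 1) rfl b.1 ∈ tr M i (n + 1) → S.g (f b) = 0)
    (hsurj : ∀ y, S.g y = 0 → ∃ b : tr M j n, td M n (n + 1) rfl b.1 ∈ tr M i (n + 1) ∧ ∃ c, S.f c = y - f b)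
    (hker : ∀ b : tr M j n, td M n (n + 1) rfl b.1 ∈ tr M i (n + 1) → ((∃ c, S.f c = f b) ↔
      ∃ c : tr M j (n - 1), b.1 - td M (n - 1) n (sub_add_cancel n 1) c.1 ∈ tr M i n)) :
    Nonempty (((trObj M).H n).obj (mk₁ (homOfLE h)) ≅ S.homology) := by
  classical
  let φ := (trFun M).map (homOfLE h)
  haveI : ∀ m, Mono (φ.f m) := fun m => (AddCommGrpCat.mono_iff_injective _).2 fun a b e =>
    Subtype.ext (congrArg (fun z : tr M j m => z.1) e)
  haveI : Mono φ := HomologicalComplex.mono_of_mono_f φ inferInstance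
  let π := cokernel.π φ
  let R := ShortComplex.mk φ π (cokernel.condition φ)
  have hR : R.ShortExact := { exact := ShortComplex.exact_cokernel φ }
  haveI : QuasiIso (CochainComplex.mappingCone.descShortComplex R) :=
    CochainComplex.mappingCone.quasiIso_descShortComplex hR
  have hπ : ∀ m, Function.Surjective (π.f m) := fun m => (AddCommGrpCat.epi_iff_surjective _).1 inferInstance
  have hπ0 : ∀ m (b : tr M j m), π.f m b = 0 ↔ b.1 ∈ tr M i m := fun m b => by
    constructor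
    · intro hb
      obtain ⟨a, ha⟩ := (ShortComplex.ab_exact_iff _).1
        (hR.exact.map (HomologicalComplex.eval AddCommGrpCat.{u} (ComplexShape.up ℤ) m)) b hb
      rw [← ha]
      exact a.2
    · intro hb
      exact ConcreteCategory.congr_hom
        (HomologicalComplex.congr_hom (cokernel.condition φ) m) (⟨b.1, hb⟩ : tr M i m)
  have hd : ∀ (m m' : ℤ) (e : m + 1 = m') (b : tr M j m),
      (cokernel φ).d m m' (π.f m b) = π.f m' (trTd M j m m' e b) := fun m m' e b => by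
    have := ConcreteCategory.congr_hom (π.comm m m') b
    refine this.trans ?_
    show π.f m' ((trCx M j).d m m' b) = _
    rw [trCx_d M j m m' e]
  let g : (cokernel φ).X n →+ S.X₂ := (π.f n).hom.liftOfSurjective (hπ n)
    ⟨f, fun b hb => h0 b ((hπ0 n b).1 hb)⟩
  have hg : ∀ b, g (π.f n b) = f b :=
    AddMonoidHom.liftOfRightInverse_comp_apply _ _ (Function.rightInverse_surjInv (hπ n)) _
  have hcyc : ∀ b : tr M j n, (cokernel φ).d n (n + 1) (π.f n b) = 0 ↔
      td M n (n + 1) rfl b.1 ∈ tr M i (n + 1) := fun b => by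
    rw [hd n (n + 1) rfl]
    exact hπ0 _ _
  obtain ⟨e⟩ := nonempty_homology_iso ((cokernel φ).sc' (n - 1) n (n + 1)) S g
    (fun x hx => by
      obtain ⟨b, rfl⟩ := hπ n x
      exact (congrArg S.g (hg b)).trans (hc b ((hcyc b).1 hx)))
    (fun y hy => by
      obtain ⟨b, hb, c, hc'⟩ := hsurj y hy
      exact ⟨π.f n b, (hcyc b).2 hb, c, hc'.trans (congrArg (y - ·) (hg b)).symm⟩)
    (fun x hx => by
      obtain ⟨b, rfl⟩ := hπ n x
      refine Iff.trans (exists_congr fun c => ⟨fun h => h.trans (hg b), fun h => h.trans (hg b).symm⟩) ?_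
      refine (hker b ((hcyc b).1 hx)).trans ?_
      constructor
      · rintro ⟨c, hc'⟩
        refine ⟨π.f (n - 1) c, ?_⟩
        show (cokernel φ).d (n - 1) n _ = _
        rw [hd _ _ (sub_add_cancel n 1)]
        exact (sub_eq_zero.1 ((map_sub (π.f n).hom b (trTd M j (n - 1) n (sub_add_cancel n 1) c)).symm.trans
          ((hπ0 n _).2 hc'))).symm
      · rintro ⟨x', hx'⟩
        obtain ⟨c, rfl⟩ := hπ (n - 1) x'
        change (cokernel φ).d (n - 1) n (π.f (n - 1) c) = _ at hx'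
        have hx'' := (hd _ _ (sub_add_cancel n 1) c).symm.trans hx'
        refine ⟨c, (hπ0 n (@HSub.hSub (tr M j n) (tr M j n) (tr M j n) _ b (trTd M j (n - 1) n (sub_add_cancel n 1) c))).1 ?_⟩
        exact (map_sub (π.f n).hom _ _).trans (sub_eq_zero.2 hx''.symm))
  let ψ : CochainComplex.mappingCone φ ⟶ cokernel φ := CochainComplex.mappingCone.descShortComplex R
  haveI : QuasiIso ψ := CochainComplex.mappingCone.quasiIso_descShortComplex hR
  have hψ : IsIso (HomologicalComplex.homologyMap ψ n) :=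
    (quasiIsoAt_iff_isIso_homologyMap ψ n).1 (QuasiIso.quasiIsoAt n)
  exact ⟨(HomotopyCategory.homologyFunctorFactors AddCommGrpCat.{u} (ComplexShape.up ℤ) n).app _ ≪≫
    @asIso _ _ _ _ (HomologicalComplex.homologyMap ψ n) hψ ≪≫
    (cokernel φ).homologyIsoSc' (n - 1) n (n + 1) (by simp) (by simp) ≪≫ e⟩

theorem isZero_H_of {i j : EInt} (h : i ≤ j) (n : ℤ)
    (hb : ∀ b : tr M j n, td M n (n + 1) rfl b.1 ∈ tr M i (n + 1) → b.1 ∈ tr M i n) :
    IsZero (((trObj M).H n).obj (mk₁ (homOfLE h))) := by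
  let Z := AddCommGrpCat.of PUnit.{u + 1}
  have hZ : IsZero Z := AddCommGrpCat.isZero_of_subsingleton _
  obtain ⟨e⟩ := nonempty_H_iso M h n (ShortComplex.mk (0 : Z ⟶ Z) (0 : Z ⟶ Z) zero_comp) 0 (fun _ _ => rfl)
    (fun _ _ => rfl)
    (fun y _ => ⟨0, by rw [ZeroMemClass.coe_zero, map_zero]; exact zero_mem _, 0, Subsingleton.elim (α := PUnit) _ _⟩)
    (fun b hb' => ⟨fun _ => ⟨0, by rw [ZeroMemClass.coe_zero, map_zero, sub_zero]; exact hb b hb'⟩,
      fun _ => ⟨0, Subsingleton.elim (α := PUnit) _ _⟩⟩)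
  exact IsZero.of_iso (ShortComplex.isZero_homology_of_isZero_X₂ _ hZ) e

instance : (trObj M).IsFirstQuadrant where
  isZero₁ i j hij hj n := isZero_H_of M hij n fun b _ k => by
    have hb : b.1 k = 0 := (b.2 k).2 (hj.trans (coe_le_coe_of_le (by omega)))
    exact ⟨fun _ => by rw [hb, map_zero], fun _ => hb⟩
  isZero₂ i j hij n hi := isZero_H_of M hij n fun b hb k => by
    obtain ⟨⟨p, q⟩, hk⟩ := k
    have hk' : (p : ℤ) + q = n := hk
    refine ⟨fun hq => ?_, fun hq => ?_⟩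
    · have h1 : n < (q : ℤ) + 1 := by
        have := lt_of_lt_of_le hi hq
        simpa using this
      obtain rfl : p = 0 := by omega
      have h2 := (hb ⟨(0, q + 1), by push_cast; omega⟩).2 (by push_cast; exact hq)
      rw [td_apply] at h2
      simpa [hPart, vPart] using h2
    · have := le_of_coe_le_coe (a := (q : ℤ) + 1) (b := q) ?_
      · omega
      · have := lt_of_lt_of_le hi hq
        have : n < (q : ℤ) := by simpa using this
        omega

/-- The total complex is the value on everything. -/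
theorem nonempty_H_top_iso (n : ℤ) :
    Nonempty (((trObj M).H n).obj (mk₁ (homOfLE (bot_le : (⊥ : EInt) ≤ ⊤))) ≅ (Tot M).homology n) := by
  have hbot : ∀ (m : ℤ) (b : T M m), b ∈ tr M ⊥ m ↔ b = 0 := fun m b =>
    ⟨fun hb => funext fun k => (hb k).2 bot_le, fun hb => by rw [hb]; exact zero_mem _⟩
  have htop : ∀ (m : ℤ) (b : T M m), b ∈ tr M ⊤ m := fun m b k =>
    ⟨fun hk => absurd hk (by simp), fun hk => absurd hk (by simp)⟩
  obtain ⟨e⟩ := nonempty_H_iso M (bot_le : (⊥ : EInt) ≤ ⊤) n ((Tot M).sc' (n - 1) n (n + 1))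
    (tr M ⊤ n).subtype (fun b hb => (hbot n _).1 hb)
    (fun b hb => (Tot_d M n (n + 1) rfl b.1).trans ((hbot _ _).1 hb))
    (fun y hy => ⟨⟨y, htop n y⟩, (hbot _ _).2 ((Tot_d M n (n + 1) rfl y).symm.trans hy), 0,
      (map_zero _).trans (sub_self _).symm⟩)
    (fun b _ => ⟨fun ⟨c, hc⟩ => ⟨⟨c, htop _ c⟩, (hbot _ _).2 (by
        show b.1 - td M _ _ _ c = 0
        rw [sub_eq_zero]; exact hc.symm.trans (Tot_d M _ _ (sub_add_cancel n 1) c))⟩,
      fun ⟨c, hc⟩ => ⟨c.1, (Tot_d M _ _ (sub_add_cancel n 1) c.1).trans (sub_eq_zero.1 ((hbot _ _).1 hc)).symm⟩⟩)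
  exact ⟨e ≪≫ ((Tot M).homologyIsoSc' (n - 1) n (n + 1) (by simp) (by simp)).symm⟩

theorem exists_vert {m n : ℤ} (e : m + 1 = n) (p q : ℕ) (hi : (p : ℤ) + q = n) (x : M.X p q)
    (hx : x ∈ vIm M p q) :
    ∃ c : tr M (((q : ℤ) + 1 : ℤ) : EInt) m, td M m n e c.1 ⟨(p, q), hi⟩ = x ∧ ∀ k : Idx m, k.1.1 ≠ p → c.1 k = 0 := by
  cases q with
  | zero =>
    obtain rfl : x = 0 := hx
    exact ⟨0, by rw [ZeroMemClass.coe_zero, map_zero]; rfl, fun k _ => rfl⟩
  | succ q =>
    obtain ⟨z, rfl⟩ := hx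
    refine ⟨⟨single M p q (by push_cast at hi; omega) (((-1 : ℤ) ^ p) • z), fun k => ?_⟩, ?_,
      fun k hk => single_ne M p q _ _ k hk⟩
    · by_cases hk : k.1.1 = p
      · have hk2 : k.1.2 = q := by
          have hk' := k.2
          push_cast at hi
          omega
        refine ⟨fun h => ?_, fun h => ?_⟩ <;>
          · have := le_of_coe_le_coe h
            push_cast at this
            omega
      · rw [single_ne M p q _ _ k hk]
        exact ⟨fun _ => map_zero _, fun _ => rfl⟩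
    · show td M m n e (single M p q _ _) _ = _
      rw [td_single_v, map_zsmul, smul_smul, ← mul_pow]
      simp

theorem single_mem_tr {n : ℤ} (p q : ℕ) (hi : (p : ℤ) + q = n) (x : M.X p q) (hx : M.v p q x = 0) :
    single M p q hi x ∈ tr M (((q : ℤ) + 1 : ℤ) : EInt) n := by
  intro k
  by_cases hk : k.1.1 = p
  · obtain ⟨⟨k1, k2⟩, hk'⟩ := k
    change k1 = p at hk
    subst hk
    obtain rfl : k2 = q := by change (k1 : ℤ) + k2 = n at hk'; omega
    refine ⟨fun _ => by rw [single_same]; exact hx, fun h => ?_⟩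
    have := le_of_coe_le_coe (a := (k2 : ℤ) + 1) (b := (k2 : ℤ)) h
    omega
  · rw [single_ne M p q hi x k hk]
    exact ⟨fun _ => map_zero _, fun _ => rfl⟩

theorem mem_tr_of_apply_eq_zero {n n' : ℤ} (e : n + 1 = n') (p q : ℕ) (hi : (p : ℤ) + q = n)
    {a : T M n} (ha : a ∈ tr M (((q : ℤ) + 1 : ℤ) : EInt) n) (h0 : a ⟨(p, q), hi⟩ = 0)
    (hd : td M n n' e a ∈ tr M ((q : ℤ) : EInt) n') : a ∈ tr M ((q : ℤ) : EInt) n := by
  intro k
  obtain ⟨⟨k1, k2⟩, hk⟩ := k
  refine ⟨fun h => ?_, fun h => ?_⟩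
  · by_cases h2 : (q : ℤ) ≤ k2
    · by_cases h3 : k2 = q
      · subst h3
        obtain rfl : k1 = p := by simp at hk; omega
        rw [h0, map_zero]
      · exact (ha _).1 (coe_le_coe_of_le (by simp only; omega))
    · have := le_of_coe_le_coe h
      obtain rfl : q = k2 + 1 := by simp only at this; omega
      obtain rfl : k1 = p + 1 := by push_cast at hi; simp at hk; omega
      have h4 := (hd ⟨(p + 1, k2 + 1), by push_cast at hi ⊢; omega⟩).2 le_rfl
      rw [td_apply] at h4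
      have h5 : hPart M n n' e a (p + 1) (k2 + 1) (by push_cast at hi ⊢; omega) = 0 := by
        show M.h p (k2 + 1) _ = 0
        rw [h0, map_zero]
      rw [h5, zero_add] at h4
      change ((-1 : ℤ) ^ (p + 1)) • M.v (p + 1) k2 _ = 0 at h4
      simpa [smul_smul, ← mul_pow] using congrArg (fun z => ((-1 : ℤ) ^ (p + 1)) • z) h4
  · by_cases h3 : k2 = q
    · subst h3
      obtain rfl : k1 = p := by simp at hk; omega
      exact h0
    · have := le_of_coe_le_coe h
      exact (ha _).2 (coe_le_coe_of_le (by simp only at this ⊢; omega))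

/-- The second page. -/
theorem nonempty_H_step_iso (q : ℕ) (G : CochainComplex AddCommGrpCat.{u} ℕ)
    (π : ∀ p, (M.v p q).ker →+ G.X p) (hπs : ∀ p, Function.Surjective (π p))
    (hπ0 : ∀ p (x : (M.v p q).ker), π p x = 0 ↔ x.1 ∈ vIm M p q)
    (hπd : ∀ p (x : (M.v p q).ker) (hx : M.h p q x.1 ∈ (M.v (p + 1) q).ker),
      π (p + 1) ⟨M.h p q x.1, hx⟩ = G.d p (p + 1) (π p x))
    (p : ℕ) :
    Nonempty (((trObj M).H ((p : ℤ) + q)).obj
      (mk₁ (homOfLE (show ((q : ℤ) : EInt) ≤ (((q : ℤ) + 1 : ℤ) : EInt) from coe_le_coe_of_le (by omega)))) ≅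
        G.homology p) := by
  obtain ⟨i, hi⟩ : ∃ i, i = (ComplexShape.up ℕ).prev p := ⟨_, rfl⟩
  have hmem : ∀ (m : ℤ) (b : tr M (((q : ℤ) + 1 : ℤ) : EInt) m) (k : ℕ) (hk : (k : ℤ) + q = m),
      b.1 ⟨(k, q), hk⟩ ∈ (M.v k q).ker := fun m b k hk => AddMonoidHom.mem_ker.2 ((b.2 ⟨(k, q), hk⟩).1 le_rfl)
  let f : tr M (((q : ℤ) + 1 : ℤ) : EInt) ((p : ℤ) + q) →+ G.X p :=
    (π p).comp (AddMonoidHom.mk' (fun b => ⟨b.1 ⟨(p, q), rfl⟩, hmem _ b p rfl⟩) fun a b => rfl)
  have hh : ∀ (k : ℕ) (x : M.X k q), M.v k q x = 0 → M.h k q x ∈ (M.v (k + 1) q).ker := fun k x hx =>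
    AddMonoidHom.mem_ker.2 (by rw [← M.hv, hx, map_zero])
  have hvert : ∀ (m : ℤ) (k : ℕ) (hk : (k : ℤ) + q = m + 1) (c : tr M (((q : ℤ) + 1 : ℤ) : EInt) m),
      vPart M m (m + 1) rfl c.1 k q hk ∈ vIm M k q := fun m k hk c => by
    cases q with
    | zero => exact zero_mem (vIm M k 0)
    | succ q' => exact ⟨_, map_zsmul _ _ _⟩
  have hfd : ∀ (b : tr M (((q : ℤ) + 1 : ℤ) : EInt) ((p : ℤ) + q)),
      π (p + 1) ⟨td M _ ((p : ℤ) + q + 1) rfl b.1 ⟨(p + 1, q), by push_cast; omega⟩,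
        hmem _ (trTd M _ _ _ rfl b) (p + 1) (by push_cast; omega)⟩ = G.d p (p + 1) (f b) := by
    intro b
    refine Eq.trans ?_ (hπd p ⟨_, hmem _ b p rfl⟩ (hh p _ (AddMonoidHom.mem_ker.1 (hmem _ b p rfl))))
    rw [← sub_eq_zero, ← map_sub, hπ0]
    show td M _ _ rfl b.1 ⟨(p + 1, q), by push_cast; omega⟩ - M.h p q (b.1 ⟨(p, q), rfl⟩) ∈ vIm M (p + 1) q
    rw [td_apply]
    convert hvert _ (p + 1) (by push_cast; omega) b using 1
    show M.h p q _ + _ - M.h p q _ = _
    exact add_sub_cancel_left _ _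
  refine (nonempty_H_iso M _ ((p : ℤ) + q) (G.sc' i p (p + 1)) f (fun b hb => ?_) (fun b hb => ?_)
    (fun y hy => ?_) (fun b hb => ?_)).map fun e => e ≪≫ (G.homologyIsoSc' i p (p + 1) hi.symm (by simp)).symm
  · show π p ⟨b.1 ⟨(p, q), rfl⟩, _⟩ = 0
    refine (hπ0 p _).2 ?_
    show b.1 ⟨(p, q), rfl⟩ ∈ vIm M p q
    rw [(hb ⟨(p, q), rfl⟩).2 le_rfl]
    exact zero_mem _
  · refine (hfd b).symm.trans ((hπ0 _ _).2 ?_)
    show td M _ _ rfl b.1 ⟨(p + 1, q), by push_cast; omega⟩ ∈ vIm M (p + 1) q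
    rw [(hb ⟨(p + 1, q), by push_cast; omega⟩).2 le_rfl]
    exact zero_mem _
  · obtain ⟨⟨x, hx⟩, rfl⟩ := hπs p y
    have hx' : M.v p q x = 0 := hx
    have hy' : M.h p q x ∈ vIm M (p + 1) q := (hπ0 _ ⟨_, hh p x hx'⟩).1 ((hπd p _ _).trans hy)
    obtain ⟨c, hc, hc'⟩ := exists_vert M (m := (p : ℤ) + q) rfl (p + 1) q (by push_cast; omega) _ hy'
    let b : tr M (((q : ℤ) + 1 : ℤ) : EInt) ((p : ℤ) + q) :=
      ⟨single M p q rfl x, single_mem_tr M p q rfl x hx'⟩ - c
    have hbp : b.1 ⟨(p, q), rfl⟩ = x := by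
      show single M p q rfl x ⟨(p, q), rfl⟩ - c.1 ⟨(p, q), rfl⟩ = x
      rw [single_same, hc' _ (by simp), sub_zero]
    refine ⟨b, ?_, 0, ?_⟩
    · refine mem_tr_of_apply_eq_zero M (n' := (p : ℤ) + q + 1 + 1) rfl (p + 1) q (by push_cast; omega)
        (td_mem_tr M _ rfl b.2) ?_ ?_
      · show td M _ _ rfl (single M p q rfl x - c.1) _ = 0
        rw [map_sub, Pi.sub_apply, td_single_h, hc, sub_self]
      · rw [td_td]
        exact zero_mem _
    · rw [map_zero]
      exact ((sub_eq_zero (G := G.X p)).2 (congrArg (π p) (Subtype.ext hbp.symm))).symm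
  · constructor
    · rintro ⟨y, hy⟩
      suffices H : ∃ a : tr M (((q : ℤ) + 1 : ℤ) : EInt) ((p : ℤ) + q - 1),
          b.1 ⟨(p, q), rfl⟩ - td M _ _ (sub_add_cancel _ _) a.1 ⟨(p, q), rfl⟩ ∈ vIm M p q by
        obtain ⟨a, ha⟩ := H
        obtain ⟨c, hc, -⟩ := exists_vert M (sub_add_cancel ((p : ℤ) + q) 1) p q rfl _ ha
        refine ⟨a + c, ?_⟩
        refine mem_tr_of_apply_eq_zero M (n' := (p : ℤ) + q + 1) rfl p q rfl
          (sub_mem b.2 (td_mem_tr M _ _ (a + c).2)) ?_ ?_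
        · show b.1 _ - td M _ _ _ (a.1 + c.1) _ = 0
          rw [map_add, Pi.add_apply, hc]
          exact sub_eq_zero.2 (add_sub_cancel _ _).symm
        · rw [map_sub, td_td, sub_zero]
          exact hb
      cases p with
      | zero =>
        refine ⟨0, ?_⟩
        rw [ZeroMemClass.coe_zero, map_zero, Pi.zero_apply, sub_zero]
        refine (hπ0 0 ⟨_, hmem _ b 0 rfl⟩).1 ?_
        refine (hy.symm.trans ?_)
        show G.d i 0 y = 0
        rw [G.shape _ _ (by simp)]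
        rfl
      | succ p =>
        obtain rfl : i = p := hi.trans (CochainComplex.prev_nat_succ p)
        obtain ⟨⟨x, hx⟩, rfl⟩ := hπs i y
        have hx' : M.v i q x = 0 := hx
        refine ⟨⟨single M i q (by push_cast; omega) x, single_mem_tr M i q (by push_cast; omega) x hx'⟩, ?_⟩
        rw [td_single_h]
        refine (hπ0 (i + 1) (⟨b.1 ⟨(i + 1, q), rfl⟩, hmem _ b _ rfl⟩ - ⟨_, hh i x hx'⟩)).1 ?_
        rw [map_sub, sub_eq_zero]
        exact hy.symm.trans (hπd i _ _).symm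
    · rintro ⟨c, hc⟩
      have hb0 : b.1 ⟨(p, q), rfl⟩ = td M _ _ (sub_add_cancel _ _) c.1 ⟨(p, q), rfl⟩ :=
        sub_eq_zero.1 ((hc ⟨(p, q), rfl⟩).2 le_rfl)
      cases p with
      | zero =>
        refine ⟨0, ?_⟩
        rw [map_zero]
        refine ((hπ0 0 ⟨_, hmem _ b 0 rfl⟩).2 ?_).symm
        show b.1 ⟨(0, q), rfl⟩ ∈ vIm M 0 q
        rw [hb0, td_apply]
        show (0 : M.X 0 q) + _ ∈ _
        rw [zero_add]
        cases q with
        | zero => exact zero_mem (vIm M 0 0)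
        | succ q' => exact ⟨_, map_zsmul _ _ _⟩
      | succ p =>
        obtain rfl : i = p := hi.trans (CochainComplex.prev_nat_succ p)
        have hk : (i : ℤ) + q = ((i + 1 : ℕ) : ℤ) + q - 1 := by push_cast; omega
        refine ⟨π i ⟨c.1 ⟨(i, q), hk⟩, hmem _ c i hk⟩, ?_⟩
        refine (hπd i _ (hh i _ ((c.2 ⟨(i, q), hk⟩).1 le_rfl))).symm.trans ?_
        refine sub_eq_zero.1 ?_
        show π (i + 1) _ - π (i + 1) _ = 0
        rw [← map_sub, hπ0]
        show M.h i q (c.1 ⟨(i, q), hk⟩) - b.1 ⟨(i + 1, q), rfl⟩ ∈ vIm M (i + 1) q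
        rw [hb0, td_apply]
        show M.h i q _ - (M.h i q _ + _) ∈ _
        rw [sub_add_cancel_left]
        refine neg_mem ?_
        cases q with
        | zero => exact zero_mem (vIm M (i + 1) 0)
        | succ q' => exact ⟨_, map_zsmul _ _ _⟩

/-- The spectral sequence with given abutment and second page. -/
theorem exists_ss_two (H : ℤ → AddCommGrpCat.{u}) (eH : ∀ n, Nonempty ((Tot M).homology n ≅ H n))
    (G : ℕ → CochainComplex AddCommGrpCat.{u} ℕ)
    (π : ∀ q p, (M.v p q).ker →+ (G q).X p) (hπs : ∀ q p, Function.Surjective (π q p))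
    (hπ0 : ∀ q p (x : (M.v p q).ker), π q p x = 0 ↔ x.1 ∈ vIm M p q)
    (hπd : ∀ q p (x : (M.v p q).ker) (hx : M.h p q x.1 ∈ (M.v (p + 1) q).ker),
      π q (p + 1) ⟨M.h p q x.1, hx⟩ = (G q).d p (p + 1) (π q p x)) :
    ∃ (E : E₂CohomologicalSpectralSequence AddCommGrpCat.{u}) (a : SpSeq.Abutment E H),
      (∀ n, a.IsFinite n) ∧ SpSeq.IsBounded E ∧
      (∀ p q : ℤ, p < 0 ∨ q < 0 → IsZero ((E.page 2 le_rfl).X (p, q))) ∧
      ∀ p q : ℕ, Nonempty ((E.page 2 le_rfl).X ((p : ℤ), (q : ℤ)) ≅ (G q).homology p) := by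
  let eH' : ∀ n, ((trObj M).H n).obj (mk₁ (homOfLE (bot_le : (⊥ : EInt) ≤ ⊤))) ⟶ H n := fun n =>
    ((nonempty_H_top_iso M n).some ≪≫ (eH n).some).hom
  haveI : ∀ n, IsIso (eH' n) := fun n => Iso.isIso_hom _
  obtain ⟨a, ha⟩ := SpObj.exists_abutment (trObj M) eH'
  refine ⟨(trObj M).E₂SpectralSequence, a, ha, SpObj.isBounded (trObj M),
    fun p q h => SpObj.isZero_page_X (trObj M) 2 le_rfl p q h, fun p q => ?_⟩
  obtain ⟨e⟩ := nonempty_H_step_iso M q (G q) (π q) (hπs q) (hπ0 q) (hπd q) p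
  exact ⟨SpObj.pageTwoIso (trObj M) p q ≪≫ e⟩

end Groth.Agent.HyperH28
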