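import Groth.Agent.Lib.HyperH28.Cosk
import Groth.Agent.Lib.HyperH28.Cone

/-!
# Hypercoverings are locally contractible
-/

set_option autoImplicit false
set_option backward.isDefEq.respectTransparency false
set_option backward.isDefEq.respectTransparency.types false

universe u

open CategoryTheory CategoryTheory.Limits Opposite

noncomputable section

namespace Groth.Agent.HyperH28

variable {C : Type u} [SmallCategory C] (K : SimplicialObject (FormalCoproduct.{u} C))

theorem exists_missed {l m : ℕ} (h : l < m) (g : SimplexCategory.mk l ⟶ SimplexCategory.mk m) :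
    ∃ j : Fin (m + 1), ∀ x, g.toOrderHom x ≠ j := by
  by_contra hne
  push Not at hne
  have := Fintype.card_le_of_surjective (g.toOrderHom : Fin (l + 1) → Fin (m + 1)) hne
  simp only [Fintype.card_fin] at this
  omega

theorem exists_factor {l m : ℕ} (g : SimplexCategory.mk l ⟶ SimplexCategory.mk (m + 1)) (j : Fin (m + 2))
    (hj : ∀ x, g.toOrderHom x ≠ j) : ∃ g' : SimplexCategory.mk l ⟶ SimplexCategory.mk m, g = g' ≫ SimplexCategory.δ j :=
  SimplexCategory.eq_comp_δ_of_not_surjective' g j hj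

theorem mono_δ {m : ℕ} (j : Fin (m + 2)) {l : SimplexCategory} {a b : l ⟶ SimplexCategory.mk m}
    (h : a ≫ SimplexCategory.δ j = b ≫ SimplexCategory.δ j) : a = b :=
  (cancel_mono (SimplexCategory.δ j)).1 h

theorem boundary_consistent {U : C} {n : ℕ} (y : Fin (n + 3) → Pt U (K.obj (op (SimplexCategory.mk (n + 1)))))
    (hy : ∀ i j : Fin (n + 2), i ≤ j → y j.succ ≫ K.δ i = y i.castSucc ≫ K.δ j) {l : ℕ}
    (j k : Fin (n + 3)) (a b : SimplexCategory.mk l ⟶ SimplexCategory.mk (n + 1))
    (h : a ≫ SimplexCategory.δ j = b ≫ SimplexCategory.δ k) : y j ≫ K.map a.op = y k ≫ K.map b.op := by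
  suffices H : ∀ (j k : Fin (n + 3)) (a b : SimplexCategory.mk l ⟶ SimplexCategory.mk (n + 1)), j < k →
      a ≫ SimplexCategory.δ j = b ≫ SimplexCategory.δ k → y j ≫ K.map a.op = y k ≫ K.map b.op by
    rcases lt_trichotomy j k with hjk | rfl | hjk
    · exact H j k a b hjk h
    · rw [mono_δ _ h]
    · exact (H k j b a hjk h.symm).symm
  clear h a b j k
  intro j k a b hlt h
  obtain ⟨j', rfl⟩ : ∃ j', j = Fin.castSucc j' :=
    (Fin.exists_castSucc_eq.2 (Fin.ne_last_of_lt hlt)).imp fun _ e => e.symm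
  obtain ⟨k', rfl⟩ : ∃ k', k = Fin.succ k' :=
    (Fin.exists_succ_eq.2 (Fin.ne_zero_of_lt hlt)).imp fun _ e => e.symm
  have hle : j' ≤ k' := Fin.castSucc_lt_succ_iff.1 hlt
  obtain ⟨f, rfl⟩ := exists_factor b j' fun x hx => by
    have e := congrArg (fun q => q.toOrderHom x) h
    simp only [SimplexCategory.comp_toOrderHom, OrderHom.comp_coe, Function.comp_apply, hx] at e
    have e1 : (SimplexCategory.δ k'.succ).toOrderHom j' = j'.castSucc :=
      Fin.succAbove_of_castSucc_lt _ _ hlt
    rw [e1] at e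
    exact Fin.succAbove_ne j'.castSucc _ e
  rw [Category.assoc, SimplexCategory.δ_comp_δ hle, ← Category.assoc] at h
  rw [mono_δ _ h, op_comp, op_comp, K.map_comp, K.map_comp, ← Category.assoc, ← Category.assoc]
  exact congrArg (· ≫ K.map f.op) (hy j' k' hle).symm

theorem exists_boundaryFamily {U : C} {n : ℕ} (y : Fin (n + 3) → Pt U (K.obj (op (SimplexCategory.mk (n + 1)))))
    (hy : ∀ i j : Fin (n + 2), i ≤ j → y j.succ ≫ K.δ i = y i.castSucc ≫ K.δ j) :
    ∃ τ : (SimplicialObject.truncation (n + 1)).obj (simplexFC U (n + 1 + 1)) ⟶ (SimplicialObject.truncation (n + 1)).obj K,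
      ∀ j, simplexPt U (SimplexCategory.δ j) ≫ τ.app (op ⟨SimplexCategory.mk (n + 1), le_refl (n + 1)⟩) = y j := by
  have hex : ∀ (l : SimplexCategory) (_ : l.len ≤ n + 1) (g : l ⟶ SimplexCategory.mk (n + 1 + 1)),
      ∃ s : Pt U (K.obj (op l)), ∀ (j : Fin (n + 3)) (a : l ⟶ SimplexCategory.mk (n + 1)),
        g = a ≫ SimplexCategory.δ j → s = y j ≫ K.map a.op := by
    intro l hl g
    obtain ⟨l⟩ := l
    obtain ⟨j, hj⟩ := exists_missed (show l < n + 1 + 1 from Nat.lt_succ_of_le hl) g
    obtain ⟨a, rfl⟩ := exists_factor g j hj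
    exact ⟨y j ≫ K.map a.op, fun j' a' h => boundary_consistent K y hy j j' a a' h⟩
  choose v hv using hex
  have hnat : ∀ (l l' : SimplexCategory) (hl : l.len ≤ n + 1) (hl' : l'.len ≤ n + 1) (f : l' ⟶ l)
      (g : l ⟶ SimplexCategory.mk (n + 1 + 1)), v l' hl' (f ≫ g) = v l hl g ≫ K.map f.op := by
    intro l l' hl hl' f g
    obtain ⟨l⟩ := l
    obtain ⟨j, hj⟩ := exists_missed (show l < n + 1 + 1 from Nat.lt_succ_of_le hl) g
    obtain ⟨a, rfl⟩ := exists_factor g j hj
    rw [hv _ hl' _ j (f ≫ a) (Category.assoc _ _ _).symm, hv _ hl _ j a rfl, op_comp, K.map_comp, Category.assoc]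
  refine ⟨{ app := fun l => { f := fun e => (v l.unop.obj l.unop.property e.down).f PUnit.unit
                              φ := fun e => (v l.unop.obj l.unop.property e.down).φ PUnit.unit }
            naturality := fun l l' f => ?_ }, fun j => ?_⟩
  · refine (FormalCoproduct.hom_ext_iff' _ _).2 fun e => ?_
    have h := hnat l.unop.obj l'.unop.obj l.unop.property l'.unop.property f.unop.hom e.down
    obtain ⟨p, q⟩ := (FormalCoproduct.hom_ext_iff' _ _).1 h PUnit.unit
    refine ⟨p, ?_⟩
    show (𝟙 U ≫ _) ≫ _ = _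
    rw [Category.id_comp]
    exact q
  · refine (pt_comp _ _ _).trans ?_
    rw [Category.id_comp]
    refine (pt_eta (v (SimplexCategory.mk (n + 1)) le_rfl (SimplexCategory.δ j))).trans ?_
    rw [hv _ _ _ j (𝟙 _) (Category.id_comp _).symm, op_id, K.map_id, Category.comp_id]

theorem isLocContr_of_site (J : GrothendieckTopology C)
    [∀ (n : ℕ) (F : (SimplexCategory.Truncated n)ᵒᵖ ⥤ FormalCoproduct.{u} C),
      (SimplexCategory.Truncated.inclusion n).op.HasRightKanExtension F]
    (hK : Hyper.IsHypercoveringSite J K) : IsLocContr J (K ⋙ FormalCoproduct.yoneda) := by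
  have h01 := isZeroOneCover_of_site J K hK
  refine ⟨fun U => ?_, fun U a b => ?_, fun n U y hy => ?_⟩
  · obtain ⟨T, hT, hT'⟩ := h01.zero U
    exact ⟨T, hT, fun V g hg => ⟨el (hT' g hg).some⟩⟩
  · obtain ⟨a, rfl⟩ := el_surjective a
    obtain ⟨b, rfl⟩ := el_surjective b
    obtain ⟨T, hT, hT'⟩ := h01.one U a b
    refine ⟨T, hT, fun V g hg => ?_⟩
    obtain ⟨c, h1, h0⟩ := hT' g hg
    exact ⟨el c, (el_comp c _).symm.trans ((congrArg el h1).trans (el_res g a)),
      (el_comp c _).symm.trans ((congrArg el h0).trans (el_res g b))⟩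
  · choose z hz using fun i => el_surjective (y i)
    obtain rfl : y = fun i => el (z i) := funext fun i => (hz i).symm
    obtain ⟨τ, hτ⟩ := exists_boundaryFamily K z fun i j hij => el_injective (by
      rw [el_comp, el_comp]; exact hy i j hij)
    obtain ⟨c, hc⟩ := exists_coskPt (n + 1) ((SimplicialObject.truncation (n + 1)).obj K) τ
    refine ⟨_, (hK.2.2 (n + 1) (Nat.le_add_left 1 n)).imageSieve_mem (el c), fun V g ⟨x, hx⟩ => ?_⟩
    obtain ⟨t, rfl⟩ := el_surjective x
    refine ⟨el t, fun i => ?_⟩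
    have ht : t ≫ ((SimplicialObject.coskAdj (n + 1)).unit.app K).app (op (SimplexCategory.mk (n + 1 + 1))) = res g c :=
      el_injective (by rw [el_comp, el_res]; exact hx)
    have h := face_of_lift (n + 1) K g τ c t ht hc (n + 1) le_rfl (SimplexCategory.δ i)
    rw [hτ] at h
    exact (el_comp t _).symm.trans ((congrArg el h).trans (el_res g (z i)))

end Groth.Agent.HyperH28
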