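import Groth.Agent.Lib.HyperH28.Fill
import Groth.Agent.Lib.HyperH28.OverSite

/-!
# Hypercoverings as simplicial formal coproducts with locally fillable boundaries
-/

set_option autoImplicit false
set_option backward.isDefEq.respectTransparency false
set_option backward.isDefEq.respectTransparency.types false

universe u

open CategoryTheory CategoryTheory.Limits Opposite

noncomputable section

namespace Groth.Agent.HyperH28

variable {C : Type u} [SmallCategory C] (J : GrothendieckTopology C) (K : SimplicialObject (FormalCoproduct.{u} C))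

/-- A compatible boundary of an `(n + 1)`-simplex. -/
def Compat {U : C} {n : ℕ} (y : Fin (n + 2) → Pt U (K.obj (op (SimplexCategory.mk n)))) : Prop :=
  ∀ (l : ℕ) (j k : Fin (n + 2)) (a b : SimplexCategory.mk l ⟶ SimplexCategory.mk n),
    a ≫ SimplexCategory.δ j = b ≫ SimplexCategory.δ k → y j ≫ K.map a.op = y k ≫ K.map b.op

/-- Locally, boundaries can be filled. -/
structure Fills : Prop where
  zero : ∀ U : C, ∃ T : Sieve U, T ∈ J U ∧ ∀ ⦃V : C⦄ (g : V ⟶ U), T g →
    Nonempty (Pt V (K.obj (op (SimplexCategory.mk 0))))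
  fill : ∀ (n : ℕ) (U : C) (y : Fin (n + 2) → Pt U (K.obj (op (SimplexCategory.mk n)))), Compat K y →
    ∃ T : Sieve U, T ∈ J U ∧ ∀ ⦃V : C⦄ (g : V ⟶ U), T g →
      ∃ e : Pt V (K.obj (op (SimplexCategory.mk (n + 1)))), ∀ j, e ≫ K.δ j = res g (y j)

variable {K}

theorem compat_of_small {U : C} {n : ℕ} (y : Fin (n + 2) → Pt U (K.obj (op (SimplexCategory.mk n))))
    (h : ∀ (l : ℕ) (_ : l ≤ n) (j k : Fin (n + 2)) (a b : SimplexCategory.mk l ⟶ SimplexCategory.mk n),
      a ≫ SimplexCategory.δ j = b ≫ SimplexCategory.δ k → y j ≫ K.map a.op = y k ≫ K.map b.op) :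
    Compat K y := by
  cases n with
  | zero =>
    intro l j k a b hab
    have e := congrArg (fun q => q.toOrderHom 0) hab
    simp only [SimplexCategory.comp_toOrderHom, OrderHom.comp_coe, Function.comp_apply] at e
    have ha : a.toOrderHom 0 = (0 : Fin 1) := Subsingleton.elim (α := Fin 1) _ _
    have hb : b.toOrderHom 0 = (0 : Fin 1) := Subsingleton.elim (α := Fin 1) _ _
    rw [ha, hb] at e
    obtain rfl : j = k := by
      revert e
      fin_cases j <;> fin_cases k <;> decide
    rw [mono_δ _ hab]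
  | succ n =>
    intro l j k a b hab
    exact boundary_consistent K y (fun i j hij => h n (Nat.le_succ n) j.succ i.castSucc _ _
      (SimplexCategory.δ_comp_δ hij)) j k a b hab

theorem exists_bdry {U : C} {n : ℕ} {y : Fin (n + 2) → Pt U (K.obj (op (SimplexCategory.mk n)))}
    (hy : Compat K y) {l : SimplexCategory} (g : l ⟶ SimplexCategory.mk (n + 1))
    (hg : ∃ j : Fin (n + 2), ∀ x, g.toOrderHom x ≠ j) :
    ∃ s : Pt U (K.obj (op l)), ∀ (j : Fin (n + 2)) (a : l ⟶ SimplexCategory.mk n),
      g = a ≫ SimplexCategory.δ j → s = y j ≫ K.map a.op := by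
  obtain ⟨l⟩ := l
  obtain ⟨j, hj⟩ := hg
  obtain ⟨a, rfl⟩ := exists_factor g j hj
  exact ⟨y j ≫ K.map a.op, fun j' a' h => hy l j j' a a' h⟩

theorem exists_family {U : C} {n : ℕ} {y : Fin (n + 2) → Pt U (K.obj (op (SimplexCategory.mk n)))}
    (hy : Compat K y) :
    ∃ τ : (SimplicialObject.truncation n).obj (simplexFC U (n + 1)) ⟶ (SimplicialObject.truncation n).obj K,
      ∀ j, simplexPt U (SimplexCategory.δ j) ≫ τ.app (op ⟨SimplexCategory.mk n, le_refl n⟩) = y j := by
  have hex : ∀ (l : SimplexCategory) (_ : l.len ≤ n) (g : l ⟶ SimplexCategory.mk (n + 1)),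
      ∃ s : Pt U (K.obj (op l)), ∀ (j : Fin (n + 2)) (a : l ⟶ SimplexCategory.mk n),
        g = a ≫ SimplexCategory.δ j → s = y j ≫ K.map a.op := by
    intro l hl g
    obtain ⟨l⟩ := l
    exact exists_bdry hy g (exists_missed (show l < n + 1 from Nat.lt_succ_of_le hl) g)
  choose v hv using hex
  have hnat : ∀ (l l' : SimplexCategory) (hl : l.len ≤ n) (hl' : l'.len ≤ n) (f : l' ⟶ l)
      (g : l ⟶ SimplexCategory.mk (n + 1)), v l' hl' (f ≫ g) = v l hl g ≫ K.map f.op := by
    intro l l' hl hl' f g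
    obtain ⟨l⟩ := l
    obtain ⟨j, hj⟩ := exists_missed (show l < n + 1 from Nat.lt_succ_of_le hl) g
    obtain ⟨a, rfl⟩ := exists_factor g j hj
    rw [hv _ hl' _ j (f ≫ a) (Category.assoc _ _ _).symm, hv _ hl _ j a rfl, op_comp, K.map_comp, Category.assoc]
  refine ⟨{ app := fun l => { f := fun e => (v l.unop.obj l.unop.property e.down).f PUnit.unit
                              φ := fun e => (v l.unop.obj l.unop.property e.down).φ PUnit.unit }
            naturality := fun l l' f => ?_ }, fun j => ?_⟩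
  · refine (FormalCoproduct.hom_ext_iff' _ _).2 fun e => ?_
    have h := hnat l.unop.obj l'.unop.obj l.unop.property l'.unop.property f.unop.hom e.down
    obtain ⟨p, q⟩ := (FormalCoproduct.hom_ext_iff' _ _).1 h PUnit.unit
    refine ⟨p, ?_⟩
    show (𝟙 U ≫ _) ≫ _ = _
    rw [Category.id_comp]
    exact q
  · refine (pt_comp _ _ _).trans ?_
    rw [Category.id_comp]
    refine (pt_eta (v (SimplexCategory.mk n) le_rfl (SimplexCategory.δ j))).trans ?_
    rw [hv _ _ _ j (𝟙 _) (Category.id_comp _).symm, op_id, K.map_id, Category.comp_id]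

section Cosk

variable (n : ℕ) [∀ (F : (SimplexCategory.Truncated n)ᵒᵖ ⥤ FormalCoproduct.{u} C),
      (SimplexCategory.Truncated.inclusion n).op.HasRightKanExtension F]

/-- The `l`-faces of a point of a coskeleton. -/
def coskFace (T : SimplicialObject.Truncated (FormalCoproduct.{u} C) n) {U : C} {m : ℕ}
    (c : Pt U (((SimplicialObject.Truncated.cosk n).obj T).obj (op (SimplexCategory.mk m))))
    {l : ℕ} (hl : l ≤ n) (g : SimplexCategory.mk l ⟶ SimplexCategory.mk m) :
    Pt U (T.obj (op ⟨SimplexCategory.mk l, hl⟩)) :=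
  c ≫ ((SimplicialObject.Truncated.cosk n).obj T).map g.op ≫
    ((SimplicialObject.coskAdj n).counit.app T).app (op ⟨SimplexCategory.mk l, hl⟩)

theorem coskFace_res (T : SimplicialObject.Truncated (FormalCoproduct.{u} C) n) {U V : C} {m : ℕ}
    (c : Pt U (((SimplicialObject.Truncated.cosk n).obj T).obj (op (SimplexCategory.mk m)))) (a : V ⟶ U)
    {l : ℕ} (hl : l ≤ n) (g : SimplexCategory.mk l ⟶ SimplexCategory.mk m) :
    coskFace n T (res a c) hl g = res a (coskFace n T c hl g) := by
  simp only [coskFace, res, Category.assoc]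

theorem coskPt_ext (T : SimplicialObject.Truncated (FormalCoproduct.{u} C) n) {U : C} {m : ℕ}
    (c c' : Pt U (((SimplicialObject.Truncated.cosk n).obj T).obj (op (SimplexCategory.mk m))))
    (h : ∀ (l : ℕ) (hl : l ≤ n) (g : SimplexCategory.mk l ⟶ SimplexCategory.mk m),
      coskFace n T c hl g = coskFace n T c' hl g) : c = c' := by
  let S := (SimplicialObject.Truncated.cosk n).obj T
  let σ : Pt U (S.obj (op (SimplexCategory.mk m))) → (simplexFC U m ⟶ S) := fun c =>
    { app := fun l =>
        { f := fun e => (c ≫ S.map e.down.op).f PUnit.unit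
          φ := fun e => (c ≫ S.map e.down.op).φ PUnit.unit }
      naturality := fun l l' f => by
        refine (FormalCoproduct.hom_ext_iff' _ _).2 fun e => ?_
        have h : c ≫ S.map (f.unop ≫ e.down).op = (c ≫ S.map e.down.op) ≫ S.map f := by
          rw [op_comp, S.map_comp, Category.assoc]; rfl
        obtain ⟨p, q⟩ := (FormalCoproduct.hom_ext_iff' _ _).1 h PUnit.unit
        refine ⟨p, ?_⟩
        show (𝟙 U ≫ _) ≫ _ = _
        rw [Category.id_comp]
        exact q }
  have hσ : ∀ (c : Pt U (S.obj (op (SimplexCategory.mk m)))) (l : ℕ) (g : SimplexCategory.mk l ⟶ SimplexCategory.mk m),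
      simplexPt U g ≫ (σ c).app (op (SimplexCategory.mk l)) = c ≫ S.map g.op := fun c l g => by
    refine (pt_comp _ _ _).trans ?_
    rw [Category.id_comp]
    exact pt_eta (c ≫ S.map g.op)
  have key : σ c = σ c' := by
    refine ((SimplicialObject.coskAdj n).homEquiv _ _).symm.injective ?_
    rw [Adjunction.homEquiv_counit, Adjunction.homEquiv_counit]
    refine NatTrans.ext (funext fun l => ?_)
    obtain ⟨⟨⟨l⟩, hl⟩⟩ := l
    refine (FormalCoproduct.hom_ext_iff' _ _).2 fun e => ?_
    obtain ⟨p, q⟩ := (FormalCoproduct.hom_ext_iff' _ _).1 (h l hl e.down) PUnit.unit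
    refine ⟨?_, ?_⟩
    · exact p
    · simp only [coskFace] at q
      show ((c ≫ S.map e.down.op).φ PUnit.unit ≫ _) ≫ _ = (c' ≫ S.map e.down.op).φ PUnit.unit ≫ _
      refine Eq.trans ?_ (q.trans ?_)
      · simp [Category.assoc]; rfl
      · simp [Category.assoc]; rfl
  have e := hσ c m (𝟙 _)
  rw [key, hσ c' m (𝟙 _)] at e
  rwa [op_id, S.map_id, Category.comp_id, Category.comp_id, eq_comm] at e

theorem coskFace_unit (K : SimplicialObject (FormalCoproduct.{u} C)) {U : C} {m : ℕ}
    (t : Pt U (K.obj (op (SimplexCategory.mk m)))) {l : ℕ} (hl : l ≤ n)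
    (g : SimplexCategory.mk l ⟶ SimplexCategory.mk m) :
    coskFace n ((SimplicialObject.truncation n).obj K)
      (t ≫ ((SimplicialObject.coskAdj n).unit.app K).app (op (SimplexCategory.mk m))) hl g = t ≫ K.map g.op := by
  have hn : K.map g.op ≫ ((SimplicialObject.coskAdj n).unit.app K).app (op (SimplexCategory.mk l)) =
      ((SimplicialObject.coskAdj n).unit.app K).app (op (SimplexCategory.mk m)) ≫
        ((SimplicialObject.Truncated.cosk n).obj ((SimplicialObject.truncation n).obj K)).map g.op :=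
    ((SimplicialObject.coskAdj n).unit.app K).naturality g.op
  rw [coskFace, Category.assoc]
  erw [← reassoc_of% hn, unit_counit_app n K l hl, Category.comp_id]

theorem coskFace_map {T T' : SimplicialObject.Truncated (FormalCoproduct.{u} C) n} (φ : T ⟶ T') {U : C} {m : ℕ}
    (c : Pt U (((SimplicialObject.Truncated.cosk n).obj T).obj (op (SimplexCategory.mk m)))) {l : ℕ} (hl : l ≤ n)
    (g : SimplexCategory.mk l ⟶ SimplexCategory.mk m) :
    coskFace n T' (c ≫ ((SimplicialObject.Truncated.cosk n).map φ).app (op (SimplexCategory.mk m))) hl g =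
      coskFace n T c hl g ≫ φ.app (op ⟨SimplexCategory.mk l, hl⟩) := by
  have h1 : ((SimplicialObject.truncation n).map ((SimplicialObject.Truncated.cosk n).map φ)) ≫
      (SimplicialObject.coskAdj n).counit.app T' = (SimplicialObject.coskAdj n).counit.app T ≫ φ :=
    (SimplicialObject.coskAdj n).counit.naturality φ
  have h2 : ((SimplicialObject.Truncated.cosk n).map φ).app (op (SimplexCategory.mk l)) ≫
      ((SimplicialObject.coskAdj n).counit.app T').app (op ⟨SimplexCategory.mk l, hl⟩) =
      ((SimplicialObject.coskAdj n).counit.app T).app (op ⟨SimplexCategory.mk l, hl⟩) ≫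
        φ.app (op ⟨SimplexCategory.mk l, hl⟩) := NatTrans.congr_app h1 (op ⟨SimplexCategory.mk l, hl⟩)
  simp only [coskFace, Category.assoc]
  rw [← h2, ← NatTrans.naturality_assoc]

theorem compat_coskFace (K : SimplicialObject (FormalCoproduct.{u} C)) {U : C}
    (c : Pt U (((SimplicialObject.Truncated.cosk n).obj ((SimplicialObject.truncation n).obj K)).obj
      (op (SimplexCategory.mk (n + 1))))) :
    Compat K fun j => coskFace n ((SimplicialObject.truncation n).obj K) c le_rfl (SimplexCategory.δ j) := by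
  let T := (SimplicialObject.truncation n).obj K
  refine compat_of_small _ fun l hl j k a b hab => ?_
  have h : ∀ (j : Fin (n + 2)) (a : SimplexCategory.mk l ⟶ SimplexCategory.mk n),
      coskFace n T c le_rfl (SimplexCategory.δ j) ≫ K.map a.op = coskFace n T c hl (a ≫ SimplexCategory.δ j) := by
    intro j a
    have hn : ((SimplicialObject.Truncated.cosk n).obj T).map a.op ≫
        ((SimplicialObject.coskAdj n).counit.app T).app (op ⟨SimplexCategory.mk l, hl⟩) =
        ((SimplicialObject.coskAdj n).counit.app T).app (op ⟨SimplexCategory.mk n, le_refl n⟩) ≫ K.map a.op :=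
      ((SimplicialObject.coskAdj n).counit.app T).naturality
        (Quiver.Hom.op (InducedCategory.homMk a : (⟨SimplexCategory.mk l, hl⟩ : SimplexCategory.Truncated n) ⟶
          ⟨SimplexCategory.mk n, le_refl n⟩))
    simp only [coskFace, Category.assoc, op_comp, Functor.map_comp]
    rw [hn]
  exact (h j a).trans ((congrArg (fun g => coskFace n T c hl g) hab).trans (h k b).symm)

theorem isSRCovering_unit_of_fills (hK : Fills J K) :
    Hyper.IsSRCovering J (((SimplicialObject.coskAdj n).unit.app K).app (op (SimplexCategory.mk (n + 1)))) := by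
  rw [isSRCovering_iff]
  intro U c
  obtain ⟨T, hT, hT'⟩ := hK.fill n U _ (compat_coskFace n K c)
  refine J.superset_covering ?_ hT
  intro V g hg
  obtain ⟨e, he⟩ := hT' g hg
  refine ⟨e, coskPt_ext n _ _ _ fun l hl q => ?_⟩
  obtain ⟨j, hj⟩ := exists_missed (Nat.lt_succ_of_le hl) q
  obtain ⟨a, rfl⟩ := exists_factor q j hj
  refine (coskFace_unit n K e hl _).trans ?_
  rw [coskFace_res, op_comp, K.map_comp, ← Category.assoc]
  refine (congrArg (· ≫ K.map a.op) (he j)).trans ?_
  rw [res, Category.assoc]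
  refine congrArg _ ?_
  have hn := ((SimplicialObject.coskAdj n).counit.app ((SimplicialObject.truncation n).obj K)).naturality
    (Quiver.Hom.op (InducedCategory.homMk a : (⟨SimplexCategory.mk l, hl⟩ : SimplexCategory.Truncated n) ⟶
      ⟨SimplexCategory.mk n, le_refl n⟩))
  simp only [coskFace, Category.assoc, op_comp, Functor.map_comp]
  exact congrArg (fun q => c ≫ _ ≫ q) hn.symm

theorem exists_fill_of_mem (K : SimplicialObject (FormalCoproduct.{u} C)) {U : C}
    {y : Fin (n + 2) → Pt U (K.obj (op (SimplexCategory.mk n)))} (hy : Compat K y) :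
    ∃ c : Pt U (((SimplicialObject.Truncated.cosk n).obj ((SimplicialObject.truncation n).obj K)).obj
      (op (SimplexCategory.mk (n + 1)))), ∀ ⦃V : C⦄ (g : V ⟶ U) (t : Pt V (K.obj (op (SimplexCategory.mk (n + 1))))),
      t ≫ ((SimplicialObject.coskAdj n).unit.app K).app (op (SimplexCategory.mk (n + 1))) = res g c →
      ∀ j, t ≫ K.δ j = res g (y j) := by
  obtain ⟨τ, hτ⟩ := exists_family hy
  obtain ⟨c, hc⟩ := exists_coskPt n ((SimplicialObject.truncation n).obj K) τ
  refine ⟨c, fun V g t ht j => ?_⟩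
  refine (face_of_lift n K g τ c t ht hc n le_rfl (SimplexCategory.δ j)).trans ?_
  rw [hτ]

end Cosk

section Equiv

variable [∀ (n : ℕ) (F : (SimplexCategory.Truncated n)ᵒᵖ ⥤ FormalCoproduct.{u} C),
      (SimplexCategory.Truncated.inclusion n).op.HasRightKanExtension F]

theorem isHypercoveringSite_of_fills (hK : Fills J K) : Hyper.IsHypercoveringSite J K := by
  refine ⟨⟨fun {U} x => ?_⟩, ⟨fun {U} x => ?_⟩, fun n _ => isLocallySurjective_of_isSRCovering _ _
    (isSRCovering_unit_of_fills J n hK)⟩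
  · obtain ⟨S, hS, hS'⟩ := hK.zero U
    refine J.superset_covering ?_ hS
    intro V g hg
    obtain ⟨s⟩ := hS' g hg
    refine ⟨el s, ?_⟩
    exact @Subsingleton.elim _ (Types.isTerminalEquivUnique _
      (terminalIsTerminal.isTerminalObj ((evaluation Cᵒᵖ (Type u)).obj (op V)) _)).instSubsingleton _ _
  · let P := FormalCoproduct.yoneda.obj (K.obj (op (SimplexCategory.mk 0)))
    obtain ⟨a, ha⟩ := el_surjective ((prod.fst : P ⨯ P ⟶ P).app (op U) x)
    obtain ⟨b, hb⟩ := el_surjective ((prod.snd : P ⨯ P ⟶ P).app (op U) x)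
    obtain ⟨S, hS, hS'⟩ := hK.fill 0 U (Fin.cases b fun _ => a) (compat_of_small _ fun l _ j k a' b' h => by
      obtain rfl : l = 0 := by omega
      have e := congrArg (fun q => q.toOrderHom 0) h
      simp only [SimplexCategory.comp_toOrderHom, OrderHom.comp_coe, Function.comp_apply] at e
      have ha' : a'.toOrderHom 0 = (0 : Fin 1) := Subsingleton.elim (α := Fin 1) _ _
      have hb' : b'.toOrderHom 0 = (0 : Fin 1) := Subsingleton.elim (α := Fin 1) _ _
      rw [ha', hb'] at e
      obtain rfl : j = k := by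
        revert e
        fin_cases j <;> fin_cases k <;> decide
      rw [mono_δ _ h])
    refine J.superset_covering ?_ hS
    intro V g hg
    obtain ⟨c, hc⟩ := hS' g hg
    have hc1 : c ≫ K.δ (1 : Fin 2) = res g a := hc 1
    have hc0 : c ≫ K.δ (0 : Fin 2) = res g b := hc 0
    refine ⟨el c, ?_⟩
    refine Concrete.isLimit_ext _ (isLimitOfPreserves ((evaluation Cᵒᵖ (Type u)).obj (op V)) (prodIsProd P P)) _ _
      fun ⟨j⟩ => ?_
    cases j
    · refine (ConcreteCategory.congr_hom (NatTrans.congr_app (prod.lift_fst (FormalCoproduct.yoneda.map (K.δ (1 : Fin 2))) (FormalCoproduct.yoneda.map (K.δ (0 : Fin 2)))) (op V)) (el c)).trans ?_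
      rw [← el_comp, hc1, el_res, ha]
      exact (NatTrans.naturality_apply (prod.fst : P ⨯ P ⟶ P) g.op x).symm
    · refine (ConcreteCategory.congr_hom (NatTrans.congr_app (prod.lift_snd (FormalCoproduct.yoneda.map (K.δ (1 : Fin 2))) (FormalCoproduct.yoneda.map (K.δ (0 : Fin 2)))) (op V)) (el c)).trans ?_
      rw [← el_comp, hc0, el_res, hb]
      exact (NatTrans.naturality_apply (prod.snd : P ⨯ P ⟶ P) g.op x).symm

theorem fills_of_site (hK : Hyper.IsHypercoveringSite J K) : Fills J K := by
  have h01 := isZeroOneCover_of_site J K hK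
  refine ⟨h01.zero, fun n U y hy => ?_⟩
  cases n with
  | zero =>
    obtain ⟨T, hT, hT'⟩ := h01.one U (y 1) (y 0)
    refine ⟨T, hT, fun V g hg => ?_⟩
    obtain ⟨c, h1, h0⟩ := hT' g hg
    refine ⟨c, fun j => ?_⟩
    fin_cases j
    · exact h0
    · exact h1
  | succ n =>
    obtain ⟨c, hc⟩ := exists_fill_of_mem (n + 1) K hy
    refine ⟨_, (hK.2.2 (n + 1) (Nat.le_add_left 1 n)).imageSieve_mem (el c), fun V g ⟨x, hx⟩ => ?_⟩
    obtain ⟨t, rfl⟩ := el_surjective x
    exact ⟨t, hc g t (el_injective (by rw [el_comp, el_res]; exact hx))⟩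

end Equiv

section Over

variable {D : Type u} [SmallCategory D] (J₀ : GrothendieckTopology D) (X : D)
  {L : SimplicialObject (FormalCoproduct.{u} (Over X))}
  [∀ (n : ℕ) (F : (SimplexCategory.Truncated n)ᵒᵖ ⥤ FormalCoproduct.{u} (Over X)),
      (SimplexCategory.Truncated.inclusion n).op.HasRightKanExtension F]

theorem fills_of_hypercovering (hL : Hyper.IsHypercovering J₀ X L) : Fills (J₀.over X) L := by
  have h01 := isZeroOneCover_of_hypercovering J₀ X L hL
  refine ⟨h01.zero, fun n U y hy => ?_⟩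
  obtain ⟨c, hc⟩ := exists_fill_of_mem n L hy
  exact ⟨_, (isSRCovering_iff _ _).1 (hL.2 n) U c, fun V g ⟨t, ht⟩ => ⟨t, hc g t ht⟩⟩

theorem isHypercovering_of_fills (hL : Fills (J₀.over X) L) : Hyper.IsHypercovering J₀ X L := by
  refine ⟨?_, fun n => isSRCovering_unit_of_fills _ n hL⟩
  obtain ⟨S, hS, hS'⟩ := hL.zero (Over.mk (𝟙 X))
  refine J₀.superset_covering ?_ hS
  intro V g hg
  rw [Sieve.overEquiv_iff] at hg
  obtain ⟨s⟩ := hS' _ hg
  rw [Sieve.mem_ofArrows_iff]
  exact ⟨s.f PUnit.unit, (s.φ PUnit.unit).left, ((Over.w (s.φ PUnit.unit)).trans (Category.comp_id g)).symm⟩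

end Over

end Groth.Agent.HyperH28
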