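import Groth.Agent.Lib.HyperH28.Fill
import Groth.Agent.Lib.HyperH28.LocExact
import Mathlib.Algebra.Category.Grp.Adjunctions
import Mathlib.Algebra.Homology.ShortComplex.Ab

/-!
# The free chain complex of a hypercovering is acyclic
-/

set_option autoImplicit false
set_option backward.isDefEq.respectTransparency false
set_option backward.isDefEq.respectTransparency.types false

universe u

open CategoryTheory CategoryTheory.Limits Opposite AlgebraicTopology

noncomputable section

namespace Groth.Agent.HyperH28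

variable {C : Type u} [SmallCategory C] (J : GrothendieckTopology C) (S : SimplicialObject (Cᵒᵖ ⥤ Type u))

/-- The free simplicial presheaf. -/
abbrev freeP : SimplicialObject (Cᵒᵖ ⥤ AddCommGrpCat.{u}) :=
  S ⋙ (Functor.whiskeringRight _ _ _).obj AddCommGrpCat.free.{u}

/-- The chain complex of the sheafified free simplicial presheaf. -/
abbrev freeC : ChainComplex (Sheaf J AddCommGrpCat.{u}) ℕ :=
  (alternatingFaceMapComplex _).obj (freeP S ⋙ presheafToSheaf J AddCommGrpCat.{u})

/-- The differential on presheaves. -/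
def dP (n : ℕ) : (freeP S).obj (op (SimplexCategory.mk (n + 1))) ⟶ (freeP S).obj (op (SimplexCategory.mk n)) :=
  AlternatingFaceMapComplex.objD (freeP S) n

theorem freeC_d (n : ℕ) : (freeC J S).d (n + 1) n = (presheafToSheaf J AddCommGrpCat.{u}).map (dP S n) := by
  rw [alternatingFaceMapComplex_obj_d, dP, AlternatingFaceMapComplex.objD, AlternatingFaceMapComplex.objD,
    Functor.map_sum]
  simp only [Functor.map_zsmul]
  rfl

theorem sum_app {ι : Type*} (s : Finset ι) {P Q : Cᵒᵖ ⥤ AddCommGrpCat.{u}} (f : ι → (P ⟶ Q)) (U : Cᵒᵖ)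
    (x : P.obj U) : (∑ i ∈ s, f i).app U x = ∑ i ∈ s, (f i).app U x := by
  classical
  induction s using Finset.induction with
  | empty => simp
  | insert a s ha ih => simp [Finset.sum_insert ha, ← ih]

theorem dP_app (n : ℕ) (U : C) (z : Ch S (n + 1) U) : (dP S n).app (op U) z = bd S n U z := by
  induction z using FreeAbelianGroup.induction_on with
  | zero => exact (map_zero _).trans (map_zero _).symm
  | of x =>
    rw [dP, AlternatingFaceMapComplex.objD, sum_app, bd, FreeAbelianGroup.lift_apply_of]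
    refine Finset.sum_congr rfl fun i _ => ?_
    rw [NatTrans.app_zsmul]
    rfl
  | neg x ih => exact (map_neg _ _).trans (((congrArg Neg.neg ih)).trans (map_neg _ _).symm)
  | add a b iha ihb => exact (map_add _ _ _).trans ((congrArg₂ (· + ·) iha ihb).trans (map_add _ _ _).symm)

theorem rch_eq {n : ℕ} {U V : C} (g : V ⟶ U) (z : Ch S n U) :
    ((freeP S).obj (op (SimplexCategory.mk n))).map g.op z = rch S g z := by
  induction z using FreeAbelianGroup.induction_on with
  | zero => exact (map_zero _).trans (map_zero _).symm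
  | of x => exact (FreeAbelianGroup.lift_apply_of _ _).symm
  | neg x ih => exact (map_neg _ _).trans (((congrArg Neg.neg ih)).trans (map_neg _ _).symm)
  | add a b iha ihb => exact (map_add _ _ _).trans ((congrArg₂ (· + ·) iha ihb).trans (map_add _ _ _).symm)

/-- The presheaf augmentation. -/
def augP : (freeP S).obj (op (SimplexCategory.mk 0)) ⟶ (Functor.const Cᵒᵖ).obj (AddCommGrpCat.of (ULift.{u} ℤ)) where
  app U := AddCommGrpCat.ofHom (AddEquiv.ulift.symm.toAddMonoidHom.comp (aug S U.unop))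
  naturality U V g := by
    refine ConcreteCategory.hom_ext _ _ fun z => ?_
    obtain ⟨U⟩ := U
    obtain ⟨V⟩ := V
    show ULift.up (aug S V (((freeP S).obj (op (SimplexCategory.mk 0))).map g.unop.op z)) = ULift.up (aug S U z)
    rw [rch_eq]
    congr 1
    induction (z : Ch S 0 U) using FreeAbelianGroup.induction_on with
    | zero => simp
    | of x => simp [aug, rch]
    | neg x ih => simp [ih]
    | add a b iha ihb => simp [iha, ihb]

theorem dP_comp_augP : dP S 0 ≫ augP S = 0 := by
  refine NatTrans.ext (funext fun U => ConcreteCategory.hom_ext _ _ fun z => ?_)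
  obtain ⟨U⟩ := U
  show ULift.up (aug S U ((dP S 0).app (op U) z)) = ULift.up 0
  rw [dP_app]
  congr 1
  induction (z : Ch S 1 U) using FreeAbelianGroup.induction_on with
  | zero => simp
  | of x => simp [aug, bd, Fin.sum_univ_two]
  | neg x ih => simp [ih]
  | add a b iha ihb => simp [iha, ihb]

variable {J S} (hS : IsLocContr J S)
include hS

theorem exists_bd (n : ℕ) (U : C) (z : Ch S (n + 1) U) (hz : bd S n U z = 0) :
    ∃ T : Sieve U, T ∈ J U ∧ ∀ ⦃V : C⦄ (g : V ⟶ U), T g → ∃ w, bd S (n + 1) V w = rch S g z := by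
  classical
  obtain ⟨A, hA⟩ := exists_support z
  obtain ⟨T, hAT, hT⟩ := exists_closed (S := S) (n + 1) A
  obtain ⟨T₀, hT₀, hT₀'⟩ := hS.zero U
  refine ⟨Sieve.bind T₀.arrows fun V g hg => coneSieve S (hT₀' g hg).some (fun m => (T m).image (rs S g)) (n + 1),
    J.bind_covering hT₀ fun V g hg => coneSieve_mem J S _ hS _ (fun m σ hσ i => ?_) _, ?_⟩
  · obtain ⟨τ, hτ, rfl⟩ := Finset.mem_image.1 hσ
    rw [fc_rs]
    exact Finset.mem_image_of_mem _ (hT m τ hτ i)
  · rintro W _ ⟨V, g', g, hg, ⟨h, hh⟩, rfl⟩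
    refine ⟨coneCh S h (n + 1) (rch S g z), ?_⟩
    have hz' : rch S g z ∈ AddSubgroup.closure
        (FreeAbelianGroup.of '' (((T (n + 1)).image (rs S g) : Finset _) : Set (Sec S (n + 1) V))) := by
      have := AddSubgroup.mem_map_of_mem (rch S g) (AddSubgroup.closure_mono (Set.image_mono hAT) hA)
      rw [AddMonoidHom.map_closure] at this
      refine AddSubgroup.closure_mono ?_ this
      rintro _ ⟨_, ⟨x, hx, rfl⟩, rfl⟩
      exact ⟨rs S g x, Finset.mem_coe.2 (Finset.mem_image_of_mem _ hx), (FreeAbelianGroup.lift_apply_of _ _).symm⟩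
    have hdz : bd S n V (rch S g z) = 0 := by
      rw [← rch_eq, ← dP_app, NatTrans.naturality_apply (dP S n) g.op z, dP_app, hz, map_zero]
    rw [bd_coneCh_succ S _ g' _ h hh le_rfl _ hz', hdz, map_zero, sub_zero]
    rw [← rch_eq, ← rch_eq, ← rch_eq, ← ConcreteCategory.comp_apply, ← Functor.map_comp, ← op_comp]

theorem exists_bd_zero (U : C) (z : Ch S 0 U) (hz : aug S U z = 0) :
    ∃ T : Sieve U, T ∈ J U ∧ ∀ ⦃V : C⦄ (g : V ⟶ U), T g → ∃ w, bd S 0 V w = rch S g z := by
  classical
  obtain ⟨A, hA⟩ := exists_support z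
  obtain ⟨T, hAT, hT⟩ := exists_closed (S := S) 0 A
  obtain ⟨T₀, hT₀, hT₀'⟩ := hS.zero U
  refine ⟨Sieve.bind T₀.arrows fun V g hg => coneSieve S (hT₀' g hg).some (fun m => (T m).image (rs S g)) 0,
    J.bind_covering hT₀ fun V g hg => coneSieve_mem J S _ hS _ (fun m σ hσ i => ?_) _, ?_⟩
  · obtain ⟨τ, hτ, rfl⟩ := Finset.mem_image.1 hσ
    rw [fc_rs]
    exact Finset.mem_image_of_mem _ (hT m τ hτ i)
  · rintro W _ ⟨V, g', g, hg, ⟨h, hh⟩, rfl⟩
    refine ⟨coneCh S h 0 (rch S g z), ?_⟩
    have hz' : rch S g z ∈ AddSubgroup.closure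
        (FreeAbelianGroup.of '' (((T 0).image (rs S g) : Finset _) : Set (Sec S 0 V))) := by
      have := AddSubgroup.mem_map_of_mem (rch S g) (AddSubgroup.closure_mono (Set.image_mono hAT) hA)
      rw [AddMonoidHom.map_closure] at this
      refine AddSubgroup.closure_mono ?_ this
      rintro _ ⟨_, ⟨x, hx, rfl⟩, rfl⟩
      exact ⟨rs S g x, Finset.mem_coe.2 (Finset.mem_image_of_mem _ hx), (FreeAbelianGroup.lift_apply_of _ _).symm⟩
    have hdz : aug S V (rch S g z) = 0 := by
      have := NatTrans.naturality_apply (augP S) g.op z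
      rw [rch_eq] at this
      have h2 : ULift.up.{u} (aug S V (rch S g z)) = ULift.up (aug S U z) := this
      rw [hz] at h2
      exact congrArg ULift.down h2
    rw [bd_coneCh_zero S _ g' _ h hh _ hz', hdz, zero_smul, sub_zero]
    rw [← rch_eq, ← rch_eq, ← rch_eq, ← ConcreteCategory.comp_apply, ← Functor.map_comp, ← op_comp]

theorem exactAt_succ (n : ℕ) : (freeC J S).ExactAt (n + 1) := by
  rw [HomologicalComplex.exactAt_iff' _ (n + 1 + 1) (n + 1) n (by simp) (by simp)]
  have hc : dP S (n + 1) ≫ dP S n = 0 := AlternatingFaceMapComplex.d_squared (freeP S) n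
  have hex := exact_sheafify_of_local J (ShortComplex.mk (dP S (n + 1)) (dP S n) hc) fun U x hx => by
    change (dP S n).app (op U) x = 0 at hx
    rw [dP_app] at hx
    obtain ⟨T, hT, hT'⟩ := exists_bd hS n U x hx
    refine ⟨T, hT, fun V g hg => ?_⟩
    obtain ⟨w, hw⟩ := hT' g hg
    exact ⟨w, by rw [dP_app, hw]; exact (rch_eq S g x).symm⟩
  refine ShortComplex.exact_of_iso (ShortComplex.isoMk
    (S₁ := (ShortComplex.mk (dP S (n + 1)) (dP S n) hc).map (presheafToSheaf J AddCommGrpCat.{u}))
    (S₂ := (freeC J S).sc' (n + 1 + 1) (n + 1) n) (Iso.refl _) (Iso.refl _) (Iso.refl _) ?_ ?_) hex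
  · exact (Category.id_comp _).trans ((freeC_d J S (n + 1)).trans (Category.comp_id _).symm)
  · exact (Category.id_comp _).trans ((freeC_d J S n).trans (Category.comp_id _).symm)

theorem isZero_homology_succ (n : ℕ) : IsZero ((freeC J S).homology (n + 1)) :=
  (exactAt_succ hS n).isZero_homology

theorem nonempty_homology_zero_iso :
    Nonempty ((freeC J S).homology 0 ≅ (presheafToSheaf J AddCommGrpCat.{u}).obj
      ((Functor.const Cᵒᵖ).obj (AddCommGrpCat.of (ULift.{u} ℤ)))) := by
  let F := presheafToSheaf J AddCommGrpCat.{u}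
  let S₀ := ShortComplex.mk (dP S 0) (augP S) (dP_comp_augP S)
  have hex := exact_sheafify_of_local J S₀ fun U x hx => by
    obtain ⟨T, hT, hT'⟩ := exists_bd_zero hS U x (congrArg ULift.down hx)
    refine ⟨T, hT, fun V g hg => ?_⟩
    obtain ⟨w, hw⟩ := hT' g hg
    exact ⟨w, by rw [dP_app, hw]; exact (rch_eq S g x).symm⟩
  haveI : Epi (S₀.map F).g := epi_sheafify_of_local J (augP S) fun U x => by
    obtain ⟨T, hT, hT'⟩ := hS.zero U
    refine ⟨T, hT, fun V g hg => ⟨(ULift.down x : ℤ) • FreeAbelianGroup.of (hT' g hg).some, ?_⟩⟩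
    show ULift.up (aug S V _) = x
    apply ULift.down_injective
    show (FreeAbelianGroup.lift fun _ => (1 : ℤ)) _ = x.down
    rw [map_zsmul, FreeAbelianGroup.lift_apply_of, smul_eq_mul, mul_one]
  have h0 := (freeC J S).opcyclesIsCokernel 1 0 (by simp)
  have e : (freeC J S).d 1 0 = (S₀.map F).f := freeC_d J S 0
  have w : (freeC J S).d 1 0 ≫ (S₀.map F).g = 0 := by rw [e]; exact (S₀.map F).zero
  have h1 : IsColimit (CokernelCofork.ofπ (S₀.map F).g w) :=
    CokernelCofork.IsColimit.ofπ _ _ (fun k hk => hex.desc k (by rw [← e]; exact hk))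
      (fun k hk => hex.g_desc _ _) (fun k hk m hm => (cancel_epi (S₀.map F).g).1 (hm.trans (hex.g_desc _ _).symm))
  exact ⟨(freeC J S).isoHomologyι₀ ≪≫ IsColimit.coconePointUniqueUpToIso h0 h1⟩

end Groth.Agent.HyperH28
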