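import Mathlib.AlgebraicTopology.SimplicialObject.Homotopy
import Mathlib.CategoryTheory.Limits.Shapes.FiniteProducts
import Mathlib.CategoryTheory.Limits.Shapes.BinaryProducts
import Mathlib.CategoryTheory.Limits.Shapes.Equalizers
import Mathlib.CategoryTheory.Limits.Shapes.FiniteLimits

/-!
# The homotopy equalizer of two simplicial maps
-/

set_option autoImplicit false
set_option backward.isDefEq.respectTransparency false
set_option backward.isDefEq.respectTransparency.types false

universe v u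

open CategoryTheory CategoryTheory.Limits Opposite

noncomputable section

namespace Groth.Agent.HyperH28

/-- The values of a map in the simplex category, as natural numbers. -/
def sv {l m : ℕ} (w : SimplexCategory.mk l ⟶ SimplexCategory.mk m) (k : Fin (l + 1)) : ℕ :=
  (w.toOrderHom k : Fin (m + 1)).val

theorem sv_lt {l m : ℕ} (w : SimplexCategory.mk l ⟶ SimplexCategory.mk m) (k : Fin (l + 1)) : sv w k < m + 1 :=
  (w.toOrderHom k : Fin (m + 1)).isLt

theorem sv_mono {l m : ℕ} (w : SimplexCategory.mk l ⟶ SimplexCategory.mk m) {k k' : Fin (l + 1)}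
    (h : k.val ≤ k'.val) : sv w k ≤ sv w k' :=
  w.toOrderHom.monotone (a := k) (b := k') h

theorem sv_ext {l m : ℕ} {w w' : SimplexCategory.mk l ⟶ SimplexCategory.mk m} (h : ∀ k, sv w k = sv w' k) : w = w' :=
  SimplexCategory.Hom.ext _ _ (OrderHom.ext _ _ (funext fun k => Fin.ext (h k)))

theorem sv_comp {l m q : ℕ} (w : SimplexCategory.mk l ⟶ SimplexCategory.mk m)
    (w' : SimplexCategory.mk m ⟶ SimplexCategory.mk q) (k : Fin (l + 1)) :
    sv (w ≫ w') k = sv w' ⟨sv w k, sv_lt w k⟩ := rfl

theorem sv_id {l : ℕ} (k : Fin (l + 1)) : sv (𝟙 (SimplexCategory.mk l)) k = k.val := rfl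

theorem sv_δ {m : ℕ} (j : Fin (m + 2)) (k : Fin (m + 1)) :
    sv (SimplexCategory.δ j) k = if k.val < j.val then k.val else k.val + 1 := by
  show (j.succAbove k).val = _
  by_cases h : k.val < j.val
  · rw [if_pos h, Fin.succAbove_of_castSucc_lt _ _ (show k.castSucc < j from h)]
    rfl
  · rw [if_neg h, Fin.succAbove_of_le_castSucc _ _ (show j ≤ k.castSucc from not_lt.1 h)]
    rfl

theorem sv_σ {m : ℕ} (i : Fin (m + 1)) (k : Fin (m + 2)) :
    sv (SimplexCategory.σ i) k = if k.val ≤ i.val then k.val else k.val - 1 := by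
  show (i.predAbove k).val = _
  by_cases h : k.val ≤ i.val
  · rw [if_pos h, Fin.predAbove_of_le_castSucc _ _ (show k ≤ i.castSucc from h)]
    rfl
  · rw [if_neg h, Fin.predAbove_of_castSucc_lt _ _ (show i.castSucc < k from not_le.1 h)]
    rfl

/-- The prism map over a simplicial operator. -/
def prismHom {l m : ℕ} (f : SimplexCategory.mk l ⟶ SimplexCategory.mk m) (i : Fin (l + 1)) :
    SimplexCategory.mk (l + 1) ⟶ SimplexCategory.mk (m + 1) :=
  SimplexCategory.mkHom ⟨fun k =>
    if h : k.val ≤ i.val then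
      (⟨sv f ⟨k.val, by omega⟩, by have := sv_lt f ⟨k.val, by omega⟩; omega⟩ : Fin (m + 2))
    else ⟨sv f ⟨k.val - 1, by omega⟩ + 1, by have := sv_lt f ⟨k.val - 1, by omega⟩; omega⟩, fun k k' hk => by
      have hk' : k.val ≤ k'.val := hk
      by_cases h : k.val ≤ i.val <;> by_cases h' : k'.val ≤ i.val <;>
        simp only [h, h', dif_pos, dif_neg, not_false_iff, Fin.mk_le_mk]
      · exact sv_mono f hk'
      · have := sv_mono f (k := ⟨k.val, by omega⟩) (k' := ⟨k'.val - 1, by omega⟩) (by show k.val ≤ k'.val - 1; omega)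
        omega
      · omega
      · have := sv_mono f (k := ⟨k.val - 1, by omega⟩) (k' := ⟨k'.val - 1, by omega⟩) (by show k.val - 1 ≤ k'.val - 1; omega)
        omega⟩

theorem sv_prismHom_of_le {l m : ℕ} (f : SimplexCategory.mk l ⟶ SimplexCategory.mk m) (i : Fin (l + 1))
    (k : Fin (l + 2)) (k' : Fin (l + 1)) (h : k.val ≤ i.val) (hk : k.val = k'.val) :
    sv (prismHom f i) k = sv f k' := by
  show Fin.val (dite _ _ _ : Fin (m + 2)) = _
  rw [dif_pos h]
  exact congrArg (sv f) (Fin.ext hk)

theorem sv_prismHom_of_lt {l m : ℕ} (f : SimplexCategory.mk l ⟶ SimplexCategory.mk m) (i : Fin (l + 1))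
    (k : Fin (l + 2)) (k' : Fin (l + 1)) (h : i.val < k.val) (hk : k.val = k'.val + 1) :
    sv (prismHom f i) k = sv f k' + 1 := by
  show Fin.val (dite _ _ _ : Fin (m + 2)) = _
  rw [dif_neg (not_le.2 h)]
  exact congrArg (fun z => sv f z + 1) (Fin.ext (show k.val - 1 = k'.val by omega))

theorem exists_cut {l : ℕ} (P : Fin (l + 1) → Prop) (hP : ∀ k k' : Fin (l + 1), k.val ≤ k'.val → P k' → P k) :
    ∃ t : Fin (l + 2), ∀ k : Fin (l + 1), k.val < t.val ↔ P k := by
  classical
  by_cases h : ∀ k, P k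
  · exact ⟨Fin.last (l + 1), fun k => ⟨fun _ => h k, fun _ => k.isLt⟩⟩
  · have h' : ∃ q : ℕ, ∃ hq : q < l + 1, ¬ P ⟨q, hq⟩ := by
      push Not at h
      obtain ⟨k, hk⟩ := h
      exact ⟨k.val, k.isLt, hk⟩
    obtain ⟨hq, hqP⟩ := Nat.find_spec h'
    refine ⟨⟨Nat.find h', by omega⟩, fun k => ⟨fun hk => ?_, fun hk => ?_⟩⟩
    · by_contra hn
      exact Nat.find_min h' hk ⟨k.isLt, hn⟩
    · by_contra hn
      exact hqP (hP ⟨_, hq⟩ k (not_lt.1 hn) hk)

variable {D : Type u} [Category.{v} D] {K L : SimplicialObject D} (a b : K ⟶ L)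

/-- The conditions on homotopy data. -/
structure GoodData {T : D} {m : ℕ} (e : T ⟶ K.obj (op (SimplexCategory.mk m)))
    (h : Fin (m + 1) → (T ⟶ L.obj (op (SimplexCategory.mk (m + 1))))) : Prop where
  mid : ∀ p : Fin m, h p.castSucc ≫ L.δ p.castSucc.succ = h p.succ ≫ L.δ p.castSucc.succ
  zero : h 0 ≫ L.δ (0 : Fin (m + 2)) = e ≫ b.app (op (SimplexCategory.mk m))
  last : h (Fin.last m) ≫ L.δ (Fin.last (m + 1)) = e ≫ a.app (op (SimplexCategory.mk m))

variable {a b}

theorem GoodData.shift {T : D} {m : ℕ} {e : T ⟶ K.obj (op (SimplexCategory.mk m))}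
    {h : Fin (m + 1) → (T ⟶ L.obj (op (SimplexCategory.mk (m + 1))))} (hg : GoodData a b e h) {l : ℕ}
    (p p' : Fin (m + 1)) (w : SimplexCategory.mk l ⟶ SimplexCategory.mk (m + 1))
    (hw : ∀ k, (sv w k ≤ p.val ↔ sv w k ≤ p'.val)) : h p ≫ L.map w.op = h p' ≫ L.map w.op := by
  suffices H : ∀ (d : ℕ) (p p' : Fin (m + 1)), p'.val = p.val + d → (∀ k, (sv w k ≤ p.val ↔ sv w k ≤ p'.val)) →
      h p ≫ L.map w.op = h p' ≫ L.map w.op by
    rcases le_total p.val p'.val with hp | hp
    · exact H (p'.val - p.val) p p' (by omega) hw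
    · exact (H (p.val - p'.val) p' p (by omega) fun k => (hw k).symm).symm
  intro d
  induction d with
  | zero => intro p p' hd _; rw [show p = p' from Fin.ext (by omega)]
  | succ d ih =>
    intro p p' hd hk
    let q : Fin m := ⟨p.val, by omega⟩
    have hq : p = q.castSucc := Fin.ext rfl
    have hav : ∀ k, sv w k ≠ p.val + 1 := fun k hk' => by
      have := hk k
      rw [hk'] at this
      omega
    rw [← ih q.succ p' (show p'.val = p.val + 1 + d by omega) (fun k => by
      have h1 := hk k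
      have h2 := hav k
      show sv w k ≤ p.val + 1 ↔ _
      omega)]
    obtain ⟨w', rfl⟩ : ∃ w' : SimplexCategory.mk l ⟶ SimplexCategory.mk m, w = w' ≫ SimplexCategory.δ q.castSucc.succ :=
      SimplexCategory.eq_comp_δ_of_not_surjective' w q.castSucc.succ
        fun k e => hav k (congrArg Fin.val e)
    rw [hq, op_comp, L.map_comp, ← Category.assoc, ← Category.assoc]
    exact congrArg (· ≫ L.map w'.op) (hg.mid q)

/-- The value of the homotopy on the top simplices of dimension `m`. -/
def sec (a b : K ⟶ L) {T : D} {m : ℕ} (e : T ⟶ K.obj (op (SimplexCategory.mk m)))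
    (h : Fin (m + 1) → (T ⟶ L.obj (op (SimplexCategory.mk (m + 1))))) (t : Fin (m + 2)) :
    T ⟶ L.obj (op (SimplexCategory.mk m)) :=
  if _h0 : t.val = 0 then e ≫ b.app (op (SimplexCategory.mk m)) else
    if h1 : t.val = m + 1 then e ≫ a.app (op (SimplexCategory.mk m)) else h ⟨t.val, by omega⟩ ≫ L.δ t

/-- Restriction of homotopy data. -/
def pmap {T : D} {m l : ℕ} (h : Fin (m + 1) → (T ⟶ L.obj (op (SimplexCategory.mk (m + 1)))))
    (f : SimplexCategory.mk l ⟶ SimplexCategory.mk m) (i : Fin (l + 1)) :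
    T ⟶ L.obj (op (SimplexCategory.mk (l + 1))) :=
  h ⟨sv f i, sv_lt f i⟩ ≫ L.map (prismHom f i).op

theorem GoodData.master {T : D} {m : ℕ} {e : T ⟶ K.obj (op (SimplexCategory.mk m))}
    {h : Fin (m + 1) → (T ⟶ L.obj (op (SimplexCategory.mk (m + 1))))} (hg : GoodData a b e h) {l : ℕ}
    (g : SimplexCategory.mk l ⟶ SimplexCategory.mk m) (t : Fin (l + 2)) (p : Fin (m + 1))
    (w : SimplexCategory.mk l ⟶ SimplexCategory.mk (m + 1))
    (hlow : ∀ k : Fin (l + 1), k.val < t.val → sv w k = sv g k ∧ sv w k ≤ p.val)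
    (hhigh : ∀ k : Fin (l + 1), t.val ≤ k.val → sv w k = sv g k + 1 ∧ p.val < sv w k) :
    sec a b (e ≫ K.map g.op) (pmap h g) t = h p ≫ L.map w.op := by
  by_cases h0 : t.val = 0
  · rw [sec, dif_pos h0, Category.assoc, b.naturality, ← Category.assoc, ← hg.zero, Category.assoc]
    have hw : g ≫ SimplexCategory.δ (0 : Fin (m + 2)) = w := sv_ext fun k => by
      rw [sv_comp, sv_δ]
      have := hhigh k (by omega)
      simp only [Fin.val_zero, Nat.not_lt_zero, if_false]
      omega
    refine Eq.trans (congrArg (h 0 ≫ ·) ?_) (hg.shift 0 p w fun k => ?_)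
    · rw [← hw, op_comp, L.map_comp]; rfl
    · have := hhigh k (by omega)
      simp only [Fin.val_zero]
      omega
  by_cases h1 : t.val = l + 1
  · rw [sec, dif_neg h0, dif_pos h1, Category.assoc, a.naturality, ← Category.assoc, ← hg.last, Category.assoc]
    have hw : g ≫ SimplexCategory.δ (Fin.last (m + 1)) = w := sv_ext fun k => by
      rw [sv_comp, sv_δ]
      have := hlow k (by omega)
      have := sv_lt g k
      simp only [Fin.val_last]
      rw [if_pos (by omega)]
      omega
    refine Eq.trans (congrArg (h (Fin.last m) ≫ ·) ?_) (hg.shift (Fin.last m) p w fun k => ?_)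
    · rw [← hw, op_comp, L.map_comp]; rfl
    · have := hlow k (by omega)
      have := sv_lt g k
      simp only [Fin.val_last]
      omega
  · rw [sec, dif_neg h0, dif_neg h1, pmap, Category.assoc]
    have hw : SimplexCategory.δ t ≫ prismHom g ⟨t.val, by omega⟩ = w := sv_ext fun k => by
      rw [sv_comp]
      by_cases hk : k.val < t.val
      · have := hlow k hk
        rw [sv_prismHom_of_le g _ _ k (by show sv (SimplexCategory.δ t) k ≤ t.val; rw [sv_δ, if_pos hk]; omega)
          (by show sv (SimplexCategory.δ t) k = k.val; rw [sv_δ, if_pos hk])]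
        omega
      · have := hhigh k (by omega)
        rw [sv_prismHom_of_lt g _ _ k (by show t.val < sv (SimplexCategory.δ t) k; rw [sv_δ, if_neg hk]; omega)
          (by show sv (SimplexCategory.δ t) k = k.val + 1; rw [sv_δ, if_neg hk])]
        omega
    refine Eq.trans (congrArg (h _ ≫ ·) ?_) (hg.shift _ p w fun k => ?_)
    · rw [← hw, op_comp, L.map_comp]; rfl
    · by_cases hk : k.val < t.val
      · have := hlow k hk
        have := sv_mono g (k := k) (k' := ⟨t.val, by omega⟩) (by show k.val ≤ t.val; omega)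
        show sv w k ≤ sv g _ ↔ _
        omega
      · have := hhigh k (by omega)
        have := sv_mono g (k := ⟨t.val, by omega⟩) (k' := k) (by show t.val ≤ k.val; omega)
        show sv w k ≤ sv g _ ↔ _
        omega

theorem GoodData.restrict {T : D} {m : ℕ} {e : T ⟶ K.obj (op (SimplexCategory.mk m))}
    {h : Fin (m + 1) → (T ⟶ L.obj (op (SimplexCategory.mk (m + 1))))} (hg : GoodData a b e h) {l : ℕ}
    (g : SimplexCategory.mk l ⟶ SimplexCategory.mk m) : GoodData a b (e ≫ K.map g.op) (pmap h g) := by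
  refine ⟨fun q => ?_, ?_, ?_⟩
  · rw [pmap, pmap, Category.assoc, Category.assoc]
    have hw : ∀ p : Fin (l + 1), p = q.castSucc ∨ p = q.succ → ∀ k : Fin (l + 1),
        sv (SimplexCategory.δ q.castSucc.succ ≫ prismHom g p) k = if k.val ≤ q.val then sv g k else sv g k + 1 := by
      intro p hp k
      have hp' : p.val = q.val ∨ p.val = q.val + 1 := hp.imp (congrArg Fin.val) (congrArg Fin.val)
      have hd := sv_δ q.castSucc.succ k
      simp only [Fin.val_succ, Fin.val_castSucc] at hd
      rw [sv_comp]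
      by_cases hk : k.val ≤ q.val
      · rw [if_pos (show k.val < q.val + 1 by omega)] at hd
        rw [if_pos hk]
        exact sv_prismHom_of_le g p _ k (by show sv (SimplexCategory.δ q.castSucc.succ) k ≤ _; omega) hd
      · rw [if_neg (show ¬ k.val < q.val + 1 by omega)] at hd
        rw [if_neg hk]
        exact sv_prismHom_of_lt g p _ k (by show _ < sv (SimplexCategory.δ q.castSucc.succ) k; omega) hd
    refine (congrArg (h _ ≫ ·) (L.map_comp _ _).symm).trans ?_
    refine Eq.trans ?_ (congrArg (h _ ≫ ·) (L.map_comp _ _))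
    rw [← op_comp, ← op_comp,
      show SimplexCategory.δ q.castSucc.succ ≫ prismHom g q.succ = SimplexCategory.δ q.castSucc.succ ≫ prismHom g q.castSucc from
        sv_ext fun k => (hw _ (Or.inr rfl) k).trans (hw _ (Or.inl rfl) k).symm]
    refine hg.shift _ _ _ fun k => ?_
    rw [hw _ (Or.inl rfl) k]
    have := sv_mono g (k := q.castSucc) (k' := q.succ) (by simp)
    by_cases hk : k.val ≤ q.val
    · have := sv_mono g (k := k) (k' := q.castSucc) hk
      rw [if_pos hk]
      show sv g k ≤ sv g q.castSucc ↔ sv g k ≤ sv g q.succ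
      omega
    · have := sv_mono g (k := q.succ) (k' := k) (by show q.val + 1 ≤ k.val; omega)
      rw [if_neg hk]
      show sv g k + 1 ≤ sv g q.castSucc ↔ sv g k + 1 ≤ sv g q.succ
      omega
  · have := hg.master g 0 ⟨sv g 0, sv_lt g 0⟩ (SimplexCategory.δ (0 : Fin (l + 2)) ≫ prismHom g 0)
      (fun k hk => absurd hk (Nat.not_lt_zero _)) fun k _ => by
        have hd := sv_δ (0 : Fin (l + 2)) k
        simp only [Fin.val_zero, Nat.not_lt_zero, if_false] at hd
        have := sv_mono g (k := 0) (k' := k) (Nat.zero_le _)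
        rw [sv_comp, sv_prismHom_of_lt g 0 ⟨sv (SimplexCategory.δ (0 : Fin (l + 2))) k, sv_lt _ k⟩ k (by show 0 < sv (SimplexCategory.δ (0 : Fin (l + 2))) k; omega) hd]
        exact ⟨rfl, by show sv g 0 < _; omega⟩
    rw [sec, dif_pos (by rfl : (0 : Fin (l + 2)).val = 0)] at this
    rw [this, pmap, Category.assoc, op_comp, L.map_comp]
    rfl
  · have := hg.master g (Fin.last (l + 1)) ⟨sv g (Fin.last l), sv_lt g _⟩
      (SimplexCategory.δ (Fin.last (l + 1)) ≫ prismHom g (Fin.last l))
      (fun k hk => by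
        have hd := sv_δ (Fin.last (l + 1)) k
        simp only [Fin.val_last, k.isLt, if_true] at hd
        have := sv_mono g (k := k) (k' := Fin.last l) (by simp; omega)
        rw [sv_comp, sv_prismHom_of_le g _ ⟨sv (SimplexCategory.δ (Fin.last (l + 1))) k, sv_lt _ k⟩ k (by show sv (SimplexCategory.δ (Fin.last (l + 1))) k ≤ l; omega) hd]
        exact ⟨rfl, this⟩)
      fun k hk => by
        simp only [Fin.val_last] at hk
        omega
    rw [sec, dif_neg (by simp), dif_pos (by rfl : (Fin.last (l + 1)).val = l + 1)] at this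
    rw [this, pmap, Category.assoc, op_comp, L.map_comp]
    rfl

section Object

variable (a b) [HasFiniteLimits D]

/-- The ambient product. -/
abbrev amb (m : ℕ) : D :=
  K.obj (op (SimplexCategory.mk m)) ⨯ ∏ᶜ fun _ : Fin (m + 1) => L.obj (op (SimplexCategory.mk (m + 1)))

/-- The tautological simplex of `K`. -/
abbrev ambE (m : ℕ) : amb (K := K) (L := L) m ⟶ K.obj (op (SimplexCategory.mk m)) := prod.fst

/-- The tautological prism simplices. -/
abbrev ambH (m : ℕ) (i : Fin (m + 1)) : amb (K := K) (L := L) m ⟶ L.obj (op (SimplexCategory.mk (m + 1))) :=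
  prod.snd ≫ Pi.π (fun _ : Fin (m + 1) => L.obj (op (SimplexCategory.mk (m + 1)))) i

/-- The left sides of the conditions. -/
def condL (m : ℕ) : amb (K := K) (L := L) m ⟶ ∏ᶜ fun _ : Option (Option (Fin m)) => L.obj (op (SimplexCategory.mk m)) :=
  Pi.lift fun x => match x with
    | none => ambH m 0 ≫ L.δ (0 : Fin (m + 2))
    | some none => ambH m (Fin.last m) ≫ L.δ (Fin.last (m + 1))
    | some (some p) => ambH m p.castSucc ≫ L.δ p.castSucc.succ

/-- The right sides of the conditions. -/
def condR (m : ℕ) : amb (K := K) (L := L) m ⟶ ∏ᶜ fun _ : Option (Option (Fin m)) => L.obj (op (SimplexCategory.mk m)) :=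
  Pi.lift fun x => match x with
    | none => ambE m ≫ b.app (op (SimplexCategory.mk m))
    | some none => ambE m ≫ a.app (op (SimplexCategory.mk m))
    | some (some p) => ambH m p.succ ≫ L.δ p.castSucc.succ

/-- Simplices with a homotopy. -/
def hoObj (m : ℕ) : D := equalizer (condL (K := K) (L := L) m) (condR a b m)

/-- The simplex. -/
def hoE (m : ℕ) : hoObj a b m ⟶ K.obj (op (SimplexCategory.mk m)) := equalizer.ι _ _ ≫ ambE m

/-- The homotopy. -/
def hoH (m : ℕ) (i : Fin (m + 1)) : hoObj a b m ⟶ L.obj (op (SimplexCategory.mk (m + 1))) :=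
  equalizer.ι _ _ ≫ ambH m i

theorem good_ho (m : ℕ) : GoodData a b (hoE a b m) (hoH a b m) := by
  have hc := fun x => congrArg
    (fun q => q ≫ Pi.π (fun _ : Option (Option (Fin m)) => L.obj (op (SimplexCategory.mk m))) x)
    (equalizer.condition (condL (K := K) (L := L) m) (condR a b m))
  refine ⟨fun p => ?_, ?_, ?_⟩
  · have := hc (some (some p)); simp [condL, condR] at this; simp [hoH, Category.assoc]; exact this
  · have := hc none; simp [condL, condR] at this; simp [hoE, hoH, Category.assoc]; exact this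
  · have := hc (some none); simp [condL, condR] at this; simp [hoE, hoH, Category.assoc]; exact this

variable {a b} in
/-- Lift homotopy data. -/
def hoLift {T : D} {m : ℕ} {e : T ⟶ K.obj (op (SimplexCategory.mk m))}
    {h : Fin (m + 1) → (T ⟶ L.obj (op (SimplexCategory.mk (m + 1))))} (hg : GoodData a b e h) :
    T ⟶ hoObj a b m :=
  equalizer.lift (prod.lift e (Pi.lift h)) (Pi.hom_ext _ _ fun x => by
    rcases x with _ | _ | p
    · simp [condL, condR]; exact hg.zero
    · simp [condL, condR]; exact hg.last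
    · simp [condL, condR]; exact hg.mid p)

variable {a b} in
theorem hoLift_hoE {T : D} {m : ℕ} {e : T ⟶ K.obj (op (SimplexCategory.mk m))}
    {h : Fin (m + 1) → (T ⟶ L.obj (op (SimplexCategory.mk (m + 1))))} (hg : GoodData a b e h) :
    hoLift hg ≫ hoE a b m = e := by
  simp [hoLift, hoE, hoObj]

variable {a b} in
theorem hoLift_hoH {T : D} {m : ℕ} {e : T ⟶ K.obj (op (SimplexCategory.mk m))}
    {h : Fin (m + 1) → (T ⟶ L.obj (op (SimplexCategory.mk (m + 1))))} (hg : GoodData a b e h) (i : Fin (m + 1)) :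
    hoLift hg ≫ hoH a b m i = h i := by
  simp [hoLift, hoH, hoObj]

theorem ho_ext {T : D} {m : ℕ} {x y : T ⟶ hoObj a b m} (he : x ≫ hoE a b m = y ≫ hoE a b m)
    (hh : ∀ i, x ≫ hoH a b m i = y ≫ hoH a b m i) : x = y := by
  refine equalizer.hom_ext (prod.hom_ext ?_ (Pi.hom_ext _ _ fun i => ?_))
  · simpa [hoE] using he
  · simpa [hoH] using hh i

theorem prismHom_id (m : ℕ) (i : Fin (m + 1)) : prismHom (𝟙 (SimplexCategory.mk m)) i = 𝟙 _ := sv_ext fun k => by
  by_cases h : k.val ≤ i.val
  · rw [sv_prismHom_of_le _ i k ⟨k.val, by omega⟩ h rfl]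
    rfl
  · rw [sv_prismHom_of_lt _ i k ⟨k.val - 1, by omega⟩ (by omega) (by show k.val = k.val - 1 + 1; omega)]
    show k.val - 1 + 1 = k.val
    omega

theorem prismHom_comp {j l m : ℕ} (g : SimplexCategory.mk j ⟶ SimplexCategory.mk l)
    (f : SimplexCategory.mk l ⟶ SimplexCategory.mk m) (i : Fin (j + 1)) :
    prismHom g i ≫ prismHom f ⟨sv g i, sv_lt g i⟩ = prismHom (g ≫ f) i := sv_ext fun k => by
  rw [sv_comp]
  by_cases h : k.val ≤ i.val
  · have e := sv_prismHom_of_le g i k ⟨k.val, by omega⟩ h rfl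
    have := sv_mono g (k := ⟨k.val, by omega⟩) (k' := i) h
    rw [sv_prismHom_of_le (g ≫ f) i k ⟨k.val, by omega⟩ h rfl, sv_comp]
    exact sv_prismHom_of_le f _ _ _ (by show sv (prismHom g i) k ≤ sv g i; omega) e
  · have e := sv_prismHom_of_lt g i k ⟨k.val - 1, by omega⟩ (by omega) (by show k.val = k.val - 1 + 1; omega)
    have := sv_mono g (k := i) (k' := ⟨k.val - 1, by omega⟩) (by show i.val ≤ k.val - 1; omega)
    rw [sv_prismHom_of_lt (g ≫ f) i k ⟨k.val - 1, by omega⟩ (by omega) (by show k.val = k.val - 1 + 1; omega), sv_comp]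
    exact sv_prismHom_of_lt f _ _ _ (by show sv g i < sv (prismHom g i) k; omega) e

/-- The homotopy equalizer. -/
def hoEq : SimplicialObject D where
  obj m := hoObj a b m.unop.len
  map {m m'} f := hoLift ((good_ho a b m.unop.len).restrict (l := m'.unop.len) f.unop)
  map_id m := by
    obtain ⟨⟨m⟩⟩ := m
    refine ho_ext a b ?_ fun i => ?_
    · rw [hoLift_hoE, Category.id_comp]
      show hoE a b m ≫ K.map (𝟙 _) = _
      rw [K.map_id, Category.comp_id]
    · rw [hoLift_hoH, Category.id_comp]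
      show hoH a b m _ ≫ L.map (prismHom (𝟙 (SimplexCategory.mk m)) i).op = _
      rw [prismHom_id, op_id, L.map_id, Category.comp_id]
      rfl
  map_comp {m m' m''} f g := by
    obtain ⟨⟨m⟩⟩ := m
    obtain ⟨⟨m'⟩⟩ := m'
    obtain ⟨⟨m''⟩⟩ := m''
    refine ho_ext a b ?_ fun i => ?_
    · rw [hoLift_hoE, Category.assoc, hoLift_hoE, ← Category.assoc, hoLift_hoE, Category.assoc]
      show hoE a b m ≫ K.map (f ≫ g) = _
      rw [K.map_comp]
      rfl
    · rw [hoLift_hoH, Category.assoc, hoLift_hoH]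
      show hoH a b m _ ≫ L.map (prismHom (g.unop ≫ f.unop) i).op =
        _ ≫ hoH a b m' ⟨sv g.unop i, sv_lt g.unop i⟩ ≫ L.map (prismHom g.unop i).op
      rw [← Category.assoc, hoLift_hoH, pmap, Category.assoc, ← L.map_comp, ← op_comp, prismHom_comp]
      rfl

/-- The projection. -/
def hoProj : hoEq a b ⟶ K where
  app m := hoE a b m.unop.len
  naturality m m' f := hoLift_hoE ((good_ho a b m.unop.len).restrict (l := m'.unop.len) f.unop)

theorem hoEq_map_hoH {m l : ℕ} (f : SimplexCategory.mk l ⟶ SimplexCategory.mk m) (i : Fin (l + 1)) :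
    (hoEq a b).map f.op ≫ hoH a b l i = hoH a b m ⟨sv f i, sv_lt f i⟩ ≫ L.map (prismHom f i).op :=
  hoLift_hoH ((good_ho a b m).restrict f) i

theorem prismHom_δ_of_le {n : ℕ} (i : Fin (n + 2)) (j : Fin (n + 1)) (hij : i.val ≤ j.val) :
    prismHom (SimplexCategory.δ i) j = SimplexCategory.δ i.castSucc := sv_ext fun k => by
  rw [sv_δ, Fin.val_castSucc]
  by_cases h : k.val ≤ j.val
  · rw [sv_prismHom_of_le _ j k ⟨k.val, by omega⟩ h rfl, sv_δ]
  · rw [sv_prismHom_of_lt _ j k ⟨k.val - 1, by omega⟩ (by omega) (by show k.val = k.val - 1 + 1; omega), sv_δ]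
    simp only [if_neg (show ¬ k.val < i.val by omega), if_neg (show ¬ k.val - 1 < i.val by omega)]
    omega

theorem prismHom_δ_of_lt {n : ℕ} (i : Fin (n + 2)) (j : Fin (n + 1)) (hji : j.val < i.val) :
    prismHom (SimplexCategory.δ i) j = SimplexCategory.δ i.succ := sv_ext fun k => by
  rw [sv_δ, Fin.val_succ]
  by_cases h : k.val ≤ j.val
  · rw [sv_prismHom_of_le _ j k ⟨k.val, by omega⟩ h rfl, sv_δ]
    simp only [if_pos (show k.val < i.val + 1 by omega), if_pos (show k.val < i.val by omega)]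
  · rw [sv_prismHom_of_lt _ j k ⟨k.val - 1, by omega⟩ (by omega) (by show k.val = k.val - 1 + 1; omega), sv_δ]
    by_cases hk : k.val - 1 < i.val
    · simp only [if_pos hk, if_pos (show k.val < i.val + 1 by omega)]
      omega
    · simp only [if_neg hk, if_neg (show ¬ k.val < i.val + 1 by omega)]
      omega

theorem prismHom_σ_of_le {n : ℕ} (i : Fin (n + 1)) (j : Fin (n + 1)) (hij : i.val ≤ j.val) :
    prismHom (SimplexCategory.σ i) j.succ = SimplexCategory.σ i.castSucc := sv_ext fun k => by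
  rw [sv_σ, Fin.val_castSucc]
  by_cases h : k.val ≤ j.succ.val
  · rw [sv_prismHom_of_le _ _ k ⟨k.val, by simp at h; omega⟩ h rfl, sv_σ]
  · simp only [Fin.val_succ] at h
    rw [sv_prismHom_of_lt _ _ k ⟨k.val - 1, by omega⟩ (by simp; omega) (by show k.val = k.val - 1 + 1; omega), sv_σ]
    simp only [if_neg (show ¬ k.val ≤ i.val by omega), if_neg (show ¬ k.val - 1 ≤ i.val by omega)]
    omega

theorem prismHom_σ_of_lt {n : ℕ} (i : Fin (n + 1)) (j : Fin (n + 1)) (hji : j.val ≤ i.val) :
    prismHom (SimplexCategory.σ i) j.castSucc = SimplexCategory.σ i.succ := sv_ext fun k => by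
  rw [sv_σ, Fin.val_succ]
  by_cases h : k.val ≤ j.castSucc.val
  · simp only [Fin.val_castSucc] at h
    rw [sv_prismHom_of_le _ _ k ⟨k.val, by omega⟩ h rfl, sv_σ]
    simp only [if_pos (show k.val ≤ i.val + 1 by omega), if_pos (show k.val ≤ i.val by omega)]
  · simp only [Fin.val_castSucc] at h
    rw [sv_prismHom_of_lt _ _ k ⟨k.val - 1, by omega⟩ (by simp; omega) (by show k.val = k.val - 1 + 1; omega), sv_σ]
    by_cases hk : k.val - 1 ≤ i.val
    · simp only [if_pos hk, if_pos (show k.val ≤ i.val + 1 by omega)]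
      omega
    · simp only [if_neg hk, if_neg (show ¬ k.val ≤ i.val + 1 by omega)]
      omega

/-- The tautological homotopy. -/
def hoHomotopy : SimplicialObject.Homotopy (hoProj a b ≫ a) (hoProj a b ≫ b) where
  h {n} i := hoH a b n i
  h_zero_comp_δ_zero n := by rw [NatTrans.comp_app]; exact (good_ho a b n).zero
  h_last_comp_δ_last n := by rw [NatTrans.comp_app]; exact (good_ho a b n).last
  h_succ_comp_δ_castSucc_of_lt {n} i j hij := by
    refine Eq.trans ?_ (hoEq_map_hoH a b (SimplexCategory.δ i) j).symm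
    rw [show (⟨sv (SimplexCategory.δ i) j, sv_lt _ j⟩ : Fin (n + 2)) = j.succ from Fin.ext (by
      have : i.val ≤ j.val := hij
      show sv (SimplexCategory.δ i) j = j.val + 1
      rw [sv_δ, if_neg (by omega)]), prismHom_δ_of_le i j hij]
    rfl
  h_succ_comp_δ_castSucc_succ {n} j := ((good_ho a b (n + 1)).mid j).symm
  h_castSucc_comp_δ_succ_of_lt {n} i j hji := by
    refine Eq.trans ?_ (hoEq_map_hoH a b (SimplexCategory.δ i) j).symm
    rw [show (⟨sv (SimplexCategory.δ i) j, sv_lt _ j⟩ : Fin (n + 2)) = j.castSucc from Fin.ext (by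
      have : j.val < i.val := hji
      show sv (SimplexCategory.δ i) j = j.val
      rw [sv_δ, if_pos this]), prismHom_δ_of_lt i j hji]
    rfl
  h_comp_σ_castSucc_of_le {n} i j hij := by
    refine Eq.trans ?_ (hoEq_map_hoH a b (SimplexCategory.σ i) j.succ).symm
    have hij' : i.val ≤ j.val := hij
    rw [show (⟨sv (SimplexCategory.σ i) j.succ, sv_lt _ j.succ⟩ : Fin (n + 1)) = j from Fin.ext (by
      show sv (SimplexCategory.σ i) j.succ = j.val
      rw [sv_σ, Fin.val_succ, if_neg (by omega)]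
      omega), prismHom_σ_of_le i j hij']
    rfl
  h_comp_σ_succ_of_lt {n} i j hji := by
    refine Eq.trans ?_ (hoEq_map_hoH a b (SimplexCategory.σ i) j.castSucc).symm
    have hji' : j.val ≤ i.val := hji
    rw [show (⟨sv (SimplexCategory.σ i) j.castSucc, sv_lt _ j.castSucc⟩ : Fin (n + 1)) = j from Fin.ext (by
      show sv (SimplexCategory.σ i) j.castSucc = j.val
      rw [sv_σ, Fin.val_castSucc, if_pos hji']), prismHom_σ_of_lt i j hji']
    rfl

end Object

end Groth.Agent.HyperH28
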