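import Groth.Agent.Lib.HyperH28.Fills
import Groth.Agent.Lib.HyperH28.PathObj

/-!
# The homotopy equalizer of maps of hypercoverings is a hypercovering
-/

set_option autoImplicit false
set_option backward.isDefEq.respectTransparency false
set_option backward.isDefEq.respectTransparency.types false

universe u

open CategoryTheory CategoryTheory.Limits Opposite

noncomputable section

namespace Groth.Agent.HyperH28

variable {C : Type u} [SmallCategory C] {J : GrothendieckTopology C}

theorem compat_zero {K : SimplicialObject (FormalCoproduct.{u} C)} {U : C}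
    (y : Fin (0 + 2) → Pt U (K.obj (op (SimplexCategory.mk 0)))) : Compat K y := by
  intro l j k a b hab
  have e : sv (a ≫ SimplexCategory.δ j) 0 = sv (b ≫ SimplexCategory.δ k) 0 := by rw [hab]
  rw [sv_comp, sv_comp, sv_δ, sv_δ] at e
  have ha : sv a 0 = 0 := by have := sv_lt a 0; omega
  have hb : sv b 0 = 0 := by have := sv_lt b 0; omega
  simp only [ha, hb] at e
  obtain rfl : j = k := by
    apply Fin.ext
    have := j.isLt
    have := k.isLt
    split_ifs at e <;> omega
  rw [mono_δ _ hab]

theorem exists_bind {U : C} {P Q : ∀ ⦃V : C⦄, (V ⟶ U) → Prop}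
    (h : ∃ T : Sieve U, T ∈ J U ∧ ∀ ⦃V : C⦄ (g : V ⟶ U), T g → P g)
    (h' : ∀ ⦃V : C⦄ (g : V ⟶ U), P g → ∃ T : Sieve V, T ∈ J V ∧ ∀ ⦃W : C⦄ (g' : W ⟶ V), T g' → Q (g' ≫ g)) :
    ∃ T : Sieve U, T ∈ J U ∧ ∀ ⦃V : C⦄ (g : V ⟶ U), T g → Q g := by
  obtain ⟨T, hT, hP⟩ := h
  choose R hR hR' using h'
  refine ⟨Sieve.bind T.arrows fun V g hg => R g (hP g hg), J.bind_covering hT fun V g hg => hR g (hP g hg), ?_⟩
  rintro W _ ⟨V, g', g, hg, hg', rfl⟩
  exact hR' g (hP g hg) g' hg'

theorem exists_fills {L : SimplicialObject (FormalCoproduct.{u} C)} (hL : Fills J L) {n : ℕ} {U : C} {α : Type}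
    [Finite α] (y : α → Fin (n + 2) → Pt U (L.obj (op (SimplexCategory.mk n)))) (hy : ∀ x, Compat L (y x)) :
    ∃ T : Sieve U, T ∈ J U ∧ ∀ ⦃V : C⦄ (g : V ⟶ U), T g →
      ∀ x, ∃ e : Pt V (L.obj (op (SimplexCategory.mk (n + 1)))), ∀ j, e ≫ L.δ j = res g (y x j) := by
  classical
  haveI := Fintype.ofFinite α
  choose R hR hR' using fun x => hL.fill n U (y x) (hy x)
  exact ⟨Finset.univ.inf R, finset_inf_mem J _ R fun x _ => hR x,
    fun V g hg x => hR' x g ((Finset.inf_le (f := R) (Finset.mem_univ x)) _ hg)⟩

variable {K L : SimplicialObject (FormalCoproduct.{u} C)} (a b : K ⟶ L)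

theorem sec_comp {D : Type*} [Category D] {K' L' : SimplicialObject D} (a' b' : K' ⟶ L') {T T' : D} {m : ℕ}
    (x : T' ⟶ T) (e : T ⟶ K'.obj (op (SimplexCategory.mk m)))
    (h : Fin (m + 1) → (T ⟶ L'.obj (op (SimplexCategory.mk (m + 1))))) (t : Fin (m + 2)) :
    x ≫ sec a' b' e h t = sec a' b' (x ≫ e) (fun i => x ≫ h i) t := by
  simp only [sec]
  split_ifs <;> simp only [Category.assoc]

variable [HasFiniteLimits (FormalCoproduct.{u} C)]

/-- The sections at the tautological data. -/
abbrev hoSec (l : ℕ) (t : Fin (l + 2)) :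
    (hoEq a b).obj (op (SimplexCategory.mk l)) ⟶ L.obj (op (SimplexCategory.mk l)) :=
  sec a b (hoE a b l) (hoH a b l) t

theorem map_hoSec {m l : ℕ} (g : SimplexCategory.mk l ⟶ SimplexCategory.mk m) (t : Fin (l + 2)) (p : Fin (m + 1))
    (w : SimplexCategory.mk l ⟶ SimplexCategory.mk (m + 1))
    (hlow : ∀ k : Fin (l + 1), k.val < t.val → sv w k = sv g k ∧ sv w k ≤ p.val)
    (hhigh : ∀ k : Fin (l + 1), t.val ≤ k.val → sv w k = sv g k + 1 ∧ p.val < sv w k) :
    (hoEq a b).map g.op ≫ hoSec a b l t = hoH a b m p ≫ L.map w.op := by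
  rw [hoSec, sec_comp]
  refine Eq.trans ?_ ((good_ho a b m).master g t p w hlow hhigh)
  congr 1
  · exact hoLift_hoE ((good_ho a b m).restrict g)
  · exact funext fun i => hoEq_map_hoH a b g i

theorem hoSec_map {m l : ℕ} (g : SimplexCategory.mk l ⟶ SimplexCategory.mk m) (t : Fin (m + 2)) (t' : Fin (l + 2))
    (h : ∀ k : Fin (l + 1), k.val < t'.val ↔ sv g k < t.val) :
    hoSec a b m t ≫ L.map g.op = (hoEq a b).map g.op ≫ hoSec a b l t' := by
  let p : Fin (m + 1) := ⟨t.val - 1, by omega⟩
  have hd : hoSec a b m t = hoH a b m p ≫ L.map (SimplexCategory.δ t).op := by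
    have h0 := map_hoSec a b (𝟙 (SimplexCategory.mk m)) t p (SimplexCategory.δ t)
      (fun k hk => by
        rw [sv_δ, if_pos hk, sv_id]
        exact ⟨rfl, by show k.val ≤ t.val - 1; omega⟩)
      (fun k hk => by
        rw [sv_δ, if_neg (not_lt.2 hk), sv_id]
        exact ⟨rfl, by show t.val - 1 < k.val + 1; omega⟩)
    rwa [op_id, CategoryTheory.Functor.map_id, Category.id_comp] at h0
  rw [hd, Category.assoc, ← L.map_comp, ← op_comp]
  refine (map_hoSec a b g t' p (g ≫ SimplexCategory.δ t) (fun k hk => ?_) fun k hk => ?_).symm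
  · have := (h k).1 hk
    rw [sv_comp, sv_δ, if_pos (show (⟨sv g k, sv_lt g k⟩ : Fin (m + 1)).val < t.val from this)]
    exact ⟨rfl, by show sv g k ≤ t.val - 1; omega⟩
  · have hk' : ¬ sv g k < t.val := fun hh => absurd ((h k).2 hh) (not_lt.2 hk)
    rw [sv_comp, sv_δ, if_neg (show ¬ (⟨sv g k, sv_lt g k⟩ : Fin (m + 1)).val < t.val from hk')]
    exact ⟨rfl, by show t.val - 1 < sv g k + 1; omega⟩

theorem fills_hoEq (hK : Fills J K) (hL : Fills J L) : Fills J (hoEq a b) := by
  refine ⟨fun U => ?_, fun n U y hy => ?_⟩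
  · refine exists_bind (P := fun V _ => Nonempty (Pt V (K.obj (op (SimplexCategory.mk 0))))) (hK.zero U) ?_
    rintro V g ⟨e⟩
    obtain ⟨T, hT, hT'⟩ := hL.fill 0 V (Fin.cases (e ≫ b.app _) fun _ => e ≫ a.app _) (compat_zero _)
    refine ⟨T, hT, fun W g' hg' => ?_⟩
    obtain ⟨h, hh⟩ := hT' g' hg'
    exact ⟨hoLift (a := a) (b := b) (e := res g' e) (h := fun _ => h)
      ⟨fun p => p.elim0, (hh 0).trans (Category.assoc _ _ _).symm, (hh 1).trans (Category.assoc _ _ _).symm⟩⟩
  · have natK : ∀ {m l : ℕ} (g : SimplexCategory.mk l ⟶ SimplexCategory.mk m),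
        (hoEq a b).map g.op ≫ hoE a b l = hoE a b m ≫ K.map g.op :=
      fun g => hoLift_hoE ((good_ho a b _).restrict g)
    let yK := fun j => y j ≫ hoE a b n
    have hyK : Compat K yK := fun l j k α β h => by
      simp only [yK, Category.assoc, ← natK]
      rw [← Category.assoc, ← Category.assoc, hy l j k α β h]
    choose bd hbd using fun (l : ℕ) (g : SimplexCategory.mk l ⟶ SimplexCategory.mk (n + 1))
      (hg : ∃ j : Fin (n + 2), ∀ x, g.toOrderHom x ≠ j) => exists_bdry hy g hg
    let V₀ := fun (l : ℕ) (g : SimplexCategory.mk l ⟶ SimplexCategory.mk (n + 1))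
      (hg : ∃ j : Fin (n + 2), ∀ x, g.toOrderHom x ≠ j) (t : Fin (l + 2)) => bd l g hg ≫ hoSec a b l t
    have hV₀ : ∀ (l : ℕ) (g : SimplexCategory.mk l ⟶ SimplexCategory.mk (n + 1))
        (hg : ∃ j : Fin (n + 2), ∀ x, g.toOrderHom x ≠ j) (t : Fin (l + 2)) (j : Fin (n + 2))
        (α : SimplexCategory.mk l ⟶ SimplexCategory.mk n), g = α ≫ SimplexCategory.δ j →
        V₀ l g hg t = y j ≫ (hoEq a b).map α.op ≫ hoSec a b l t := by
      intro l g hg t j α hj
      simp only [V₀]
      rw [hbd l g hg j α hj, Category.assoc]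
    let KOK : ∀ ⦃V : C⦄ (_ : V ⟶ U) (_ : Fin (n + 3)) (_ : Pt V (L.obj (op (SimplexCategory.mk (n + 1))))), Prop :=
      fun V g T k => ∀ (j : Fin (n + 2)) (t : Fin (n + 2)),
        (∀ i : Fin (n + 1), i.val < t.val ↔ sv (SimplexCategory.δ j) i < T.val) →
        k ≫ L.δ j = res g (y j ≫ hoSec a b n t)
    have kok_map : ∀ ⦃V : C⦄ (g : V ⟶ U) (T : Fin (n + 3)) (k : Pt V (L.obj (op (SimplexCategory.mk (n + 1))))),
        KOK g T k → ∀ (l : ℕ) (α : SimplexCategory.mk l ⟶ SimplexCategory.mk (n + 1))
          (hα : ∃ j : Fin (n + 2), ∀ x, α.toOrderHom x ≠ j) (t : Fin (l + 2)),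
          (∀ i : Fin (l + 1), i.val < t.val ↔ sv α i < T.val) → k ≫ L.map α.op = res g (V₀ l α hα t) := by
      intro V g T k hk l α hα t ht
      obtain ⟨j, hj⟩ := id hα
      obtain ⟨β, rfl⟩ := exists_factor α j hj
      obtain ⟨tj, htj⟩ := exists_cut (fun i : Fin (n + 1) => sv (SimplexCategory.δ j) i < T.val)
        fun i i' hii' hi' => lt_of_le_of_lt (sv_mono _ hii') hi'
      have hk' : k ≫ L.map (SimplexCategory.δ j).op = res g (y j ≫ hoSec a b n tj) := hk j tj htj
      rw [hV₀ l _ hα t j β rfl, op_comp, L.map_comp, ← Category.assoc, hk', res, res, Category.assoc, Category.assoc]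
      refine congrArg (fun z => _ ≫ y j ≫ z) (hoSec_map a b β tj t fun i => ?_)
      rw [htj ⟨sv β i, sv_lt β i⟩, ← sv_comp]
      exact ht i
    refine exists_bind (P := fun V g => ∃ e : Pt V (K.obj (op (SimplexCategory.mk (n + 1)))),
      ∀ j, e ≫ K.δ j = res g (yK j)) (hK.fill n U yK hyK) ?_
    rintro V g ⟨e, he⟩
    let ky : Fin (n + 1) → Fin (n + 2) → Pt V (L.obj (op (SimplexCategory.mk n))) := fun T j =>
      res g (y j ≫ hoSec a b n (exists_cut (fun i : Fin (n + 1) => sv (SimplexCategory.δ j) i < T.val + 1)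
        fun i i' hii' hi' => lt_of_le_of_lt (sv_mono _ hii') hi').choose)
    have hky : ∀ T, Compat L (ky T) := by
      intro T l j k α β hαβ
      obtain ⟨t', ht'⟩ := exists_cut (fun i : Fin (l + 1) => sv (α ≫ SimplexCategory.δ j) i < T.val + 1)
        fun i i' hii' hi' => lt_of_le_of_lt (sv_mono _ hii') hi'
      have key : ∀ (j : Fin (n + 2)) (α : SimplexCategory.mk l ⟶ SimplexCategory.mk n),
          (∀ i : Fin (l + 1), i.val < t'.val ↔ sv (α ≫ SimplexCategory.δ j) i < T.val + 1) →
          ky T j ≫ L.map α.op = res g ((y j ≫ (hoEq a b).map α.op) ≫ hoSec a b l t') := by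
        intro j α hh
        simp only [ky, res, Category.assoc]
        refine congrArg (fun z => _ ≫ y j ≫ z) (hoSec_map a b α _ t' fun i => ?_)
        rw [(exists_cut (fun i : Fin (n + 1) => sv (SimplexCategory.δ j) i < T.val + 1)
          fun i i' hii' hi' => lt_of_le_of_lt (sv_mono _ hii') hi').choose_spec ⟨sv α i, sv_lt α i⟩, ← sv_comp]
        exact hh i
      rw [key j α ht', key k β (fun i => by rw [← hαβ]; exact ht' i), hy l j k α β hαβ]
    obtain ⟨R₁, hR₁, hR₁'⟩ := exists_fills hL ky hky
    refine exists_bind (P := fun W g' => ∀ T, ∃ k : Pt W (L.obj (op (SimplexCategory.mk (n + 1)))),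
      ∀ j, k ≫ L.δ j = res g' (ky T j)) (Q := fun W g' => ∃ z : Pt W ((hoEq a b).obj (op (SimplexCategory.mk (n + 1)))),
      ∀ j, z ≫ (hoEq a b).δ j = res (g' ≫ g) (y j)) ⟨R₁, hR₁, hR₁'⟩ ?_
    intro W g₁ hk
    choose kk hkk using hk
    let gW := g₁ ≫ g
    let eW := res g₁ e
    have heW : ∀ j, eW ≫ K.δ j = res gW (yK j) := fun j => by
      refine (Category.assoc _ _ _).trans ?_
      rw [he j]
      exact res_res _ _ _
    let k : Fin (n + 3) → Pt W (L.obj (op (SimplexCategory.mk (n + 1)))) := fun T =>
      if h0 : T.val = 0 then eW ≫ b.app _ else if h1 : T.val = n + 2 then eW ≫ a.app _ else kk ⟨T.val - 1, by omega⟩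
    have hkok : ∀ T, KOK gW T (k T) := by
      intro T j t ht
      by_cases h0 : T.val = 0
      · simp only [k, dif_pos h0, Category.assoc]
        have ht0 : t.val = 0 := by
          by_contra hne
          have := (ht ⟨0, by omega⟩).1 (by show 0 < t.val; omega)
          omega
        have hn : b.app (op (SimplexCategory.mk (n + 1))) ≫ L.δ j = K.δ j ≫ b.app (op (SimplexCategory.mk n)) :=
          (b.naturality _).symm
        rw [hn, ← Category.assoc, heW j, hoSec, sec, dif_pos ht0]
        simp only [res, yK, Category.assoc]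
      by_cases h1 : T.val = n + 2
      · simp only [k, dif_neg h0, dif_pos h1, Category.assoc]
        have ht1 : t.val = n + 1 := by
          by_contra hne
          have := (ht ⟨n, by omega⟩).2 (by have := sv_lt (SimplexCategory.δ j) ⟨n, by omega⟩; omega)
          have : n < t.val := this
          omega
        have hn : a.app (op (SimplexCategory.mk (n + 1))) ≫ L.δ j = K.δ j ≫ a.app (op (SimplexCategory.mk n)) :=
          (a.naturality _).symm
        rw [hn, ← Category.assoc, heW j, hoSec, sec, dif_neg (by omega), dif_pos ht1]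
        simp only [res, yK, Category.assoc]
      · simp only [k, dif_neg h0, dif_neg h1]
        rw [hkk ⟨T.val - 1, by omega⟩ j]
        simp only [ky]
        rw [res_res]
        refine congrArg (fun z => res gW (y j ≫ hoSec a b n z)) (Fin.ext ?_)
        have hs := (exists_cut (fun i : Fin (n + 1) => sv (SimplexCategory.δ j) i < T.val - 1 + 1)
          fun i i' hii' hi' => lt_of_le_of_lt (sv_mono _ hii') hi').choose_spec
        have hT : T.val - 1 + 1 = T.val := by omega
        generalize (exists_cut (fun i : Fin (n + 1) => sv (SimplexCategory.δ j) i < T.val - 1 + 1)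
          fun i i' hii' hi' => lt_of_le_of_lt (sv_mono _ hii') hi').choose = z at hs ⊢
        simp only [hT] at hs
        by_contra hne
        rcases Nat.lt_or_gt_of_ne hne with hlt | hlt
        · have h2 : z.val < n + 1 := by have := t.isLt; omega
          have := (hs ⟨z.val, h2⟩).2 ((ht ⟨z.val, h2⟩).1 hlt)
          exact lt_irrefl _ this
        · have h2 : t.val < n + 1 := by have := z.isLt; omega
          have := (ht ⟨t.val, h2⟩).2 ((hs ⟨t.val, h2⟩).1 hlt)
          exact lt_irrefl _ this
    let F : Fin (n + 2) → Fin (n + 3) → Pt W (L.obj (op (SimplexCategory.mk (n + 1)))) := fun p i =>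
      if h1 : i.val < p.val then res gW (y ⟨i.val, by omega⟩ ≫ hoH a b n ⟨p.val - 1, by omega⟩)
      else if h2 : i.val = p.val then k ⟨p.val, by omega⟩
      else if h3 : i.val = p.val + 1 then k ⟨p.val + 1, by omega⟩
      else res gW (y ⟨i.val - 1, by omega⟩ ≫ hoH a b n ⟨p.val, by omega⟩)
    have hF : ∀ p, Compat L (F p) := by
      intro p l i i' α β hαβ
      obtain ⟨t, ht⟩ := exists_cut (fun q : Fin (l + 1) => sv (α ≫ SimplexCategory.δ i) q ≤ p.val)
        fun q q' hqq' hq' => le_trans (sv_mono _ hqq') hq'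
      have claim : ∀ (i : Fin (n + 3)) (α : SimplexCategory.mk l ⟶ SimplexCategory.mk (n + 1))
          (g' : SimplexCategory.mk l ⟶ SimplexCategory.mk (n + 1))
          (hg' : ∃ j : Fin (n + 2), ∀ x, g'.toOrderHom x ≠ j),
          g' = (α ≫ SimplexCategory.δ i) ≫ SimplexCategory.σ p →
          (∀ q : Fin (l + 1), q.val < t.val ↔ sv (α ≫ SimplexCategory.δ i) q ≤ p.val) →
          F p i ≫ L.map α.op = res gW (V₀ l g' hg' t) := by
        intro i α g' hg' hge hcut
        have hge' : ∀ q, sv g' q = if sv (α ≫ SimplexCategory.δ i) q ≤ p.val then sv (α ≫ SimplexCategory.δ i) q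
            else sv (α ≫ SimplexCategory.δ i) q - 1 := fun q => by rw [hge, sv_comp, sv_σ]
        have hw : ∀ q, sv (α ≫ SimplexCategory.δ i) q = if sv α q < i.val then sv α q else sv α q + 1 :=
          fun q => by rw [sv_comp, sv_δ]
        by_cases h1 : i.val < p.val
        · simp only [F, dif_pos h1, res, Category.assoc]
          refine congrArg _ ?_
          have he' : g' = (α ≫ SimplexCategory.σ (⟨p.val - 1, by omega⟩ : Fin (n + 1))) ≫
              SimplexCategory.δ (⟨i.val, by omega⟩ : Fin (n + 2)) := sv_ext fun q => by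
            rw [hge' q, hw q, sv_comp, sv_δ]
            simp only [sv_comp, sv_σ]
            have := sv_lt α q
            split_ifs <;> omega
          rw [hV₀ l g' hg' t _ _ he', map_hoSec a b _ t ⟨p.val - 1, by omega⟩ α (fun q hq => ?_) fun q hq => ?_]
          · have := (hcut q).1 hq
            rw [hw q] at this
            rw [sv_comp, sv_σ]
            dsimp only
            split_ifs at this ⊢ <;> omega
          · have : ¬ sv (α ≫ SimplexCategory.δ i) q ≤ p.val := fun hh => absurd ((hcut q).2 hh) (not_lt.2 hq)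
            rw [hw q] at this
            rw [sv_comp, sv_σ]
            dsimp only
            split_ifs at this ⊢ <;> omega
        by_cases h2 : i.val = p.val
        · simp only [F, dif_neg h1, dif_pos h2]
          obtain rfl : g' = α := sv_ext fun q => by
            rw [hge' q, hw q]
            split_ifs <;> omega
          refine kok_map gW _ _ (hkok _) l g' hg' t fun q => ?_
          rw [hcut q, hw q]
          dsimp only
          split_ifs <;> omega
        by_cases h3 : i.val = p.val + 1
        · simp only [F, dif_neg h1, dif_neg h2, dif_pos h3]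
          obtain rfl : g' = α := sv_ext fun q => by
            rw [hge' q, hw q]
            split_ifs <;> omega
          refine kok_map gW _ _ (hkok _) l g' hg' t fun q => ?_
          rw [hcut q, hw q]
          dsimp only
          split_ifs <;> omega
        · simp only [F, dif_neg h1, dif_neg h2, dif_neg h3, res, Category.assoc]
          refine congrArg _ ?_
          have he' : g' = (α ≫ SimplexCategory.σ (⟨p.val, by omega⟩ : Fin (n + 1))) ≫
              SimplexCategory.δ (⟨i.val - 1, by omega⟩ : Fin (n + 2)) := sv_ext fun q => by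
            rw [hge' q, hw q, sv_comp, sv_δ]
            simp only [sv_comp, sv_σ]
            have := sv_lt α q
            split_ifs <;> omega
          rw [hV₀ l g' hg' t _ _ he', map_hoSec a b _ t ⟨p.val, by omega⟩ α (fun q hq => ?_) fun q hq => ?_]
          · have := (hcut q).1 hq
            rw [hw q] at this
            rw [sv_comp, sv_σ]
            dsimp only
            split_ifs at this ⊢ <;> omega
          · have : ¬ sv (α ≫ SimplexCategory.δ i) q ≤ p.val := fun hh => absurd ((hcut q).2 hh) (not_lt.2 hq)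
            rw [hw q] at this
            rw [sv_comp, sv_σ]
            dsimp only
            split_ifs at this ⊢ <;> omega
      let g' := (α ≫ SimplexCategory.δ i) ≫ SimplexCategory.σ p
      by_cases hsur : ∃ j : Fin (n + 2), ∀ x, g'.toOrderHom x ≠ j
      · rw [claim i α g' hsur rfl ht,
          claim i' β g' hsur (by simp only [g', hαβ]) fun q => by rw [← hαβ]; exact ht q]
      · have hsur' : ∀ j : ℕ, j < n + 2 → ∃ q, sv g' q = j := by
          intro j hj
          by_contra hne
          push Not at hne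
          exact hsur ⟨⟨j, hj⟩, fun x e => hne x (congrArg Fin.val e)⟩
        have hval : ∀ q, sv g' q = if sv (α ≫ SimplexCategory.δ i) q ≤ p.val then sv (α ≫ SimplexCategory.δ i) q
            else sv (α ≫ SimplexCategory.δ i) q - 1 := fun q => by rw [sv_comp, sv_σ]
        have hne : ∀ q, sv (α ≫ SimplexCategory.δ i) q ≠ i.val ∧ sv (α ≫ SimplexCategory.δ i) q ≠ i'.val := fun q => by
          constructor
          · rw [sv_comp, sv_δ]; dsimp only; split_ifs <;> omega
          · rw [hαβ, sv_comp, sv_δ]; dsimp only; split_ifs <;> omega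
        obtain rfl : i = i' := by
          by_contra hii
          have hii' : i.val ≠ i'.val := fun hh => hii (Fin.ext hh)
          have hip : ∀ (z : Fin (n + 3)), (∀ q, sv (α ≫ SimplexCategory.δ i) q ≠ z.val) →
              z.val = p.val ∨ z.val = p.val + 1 := fun z hz => by
            by_contra hzz
            push Not at hzz
            rcases Nat.lt_or_gt_of_ne hzz.1 with hlt | hlt
            · obtain ⟨q, hq⟩ := hsur' z.val (by omega)
              have := hval q
              have := hz q
              split_ifs at * <;> omega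
            · obtain ⟨q, hq⟩ := hsur' (z.val - 1) (by omega)
              have := hval q
              have := hz q
              split_ifs at * <;> omega
          have hi := hip i fun q => (hne q).1
          have hi' := hip i' fun q => (hne q).2
          obtain ⟨q, hq⟩ := hsur' p.val p.isLt
          have := hval q
          have := hne q
          split_ifs at * <;> omega
        rw [mono_δ _ hαβ]
    obtain ⟨R₂, hR₂, hR₂'⟩ := exists_fills hL F hF
    refine ⟨R₂, hR₂, fun X' g₂ hg₂ => ?_⟩
    choose hh hhh using hR₂' g₂ hg₂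
    have hFd : ∀ (p : Fin (n + 2)) (i : Fin (n + 3)), hh p ≫ L.δ i = res g₂ (F p i) := hhh
    have hgood : GoodData a b (res g₂ eW) hh := by
      refine ⟨fun p => ?_, ?_, ?_⟩
      · rw [hFd, hFd]
        refine congrArg _ ?_
        simp [F]
      · rw [hFd]
        simp [F, k, res, Category.assoc]
      · rw [hFd]
        simp [F, k, res, Category.assoc]
    refine ⟨hoLift hgood, fun j => ho_ext a b ?_ fun i => ?_⟩
    · show (hoLift hgood ≫ (hoEq a b).map (SimplexCategory.δ j).op) ≫ hoE a b n = res _ (y j) ≫ hoE a b n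
      rw [Category.assoc, natK, ← Category.assoc, hoLift_hoE]
      refine (Category.assoc _ _ _).trans ((congrArg _ (heW j)).trans ?_)
      simp only [res, gW, yK, Category.assoc, Functor.map_comp]
    · show (hoLift hgood ≫ (hoEq a b).map (SimplexCategory.δ j).op) ≫ hoH a b n i = res _ (y j) ≫ hoH a b n i
      rw [Category.assoc, hoEq_map_hoH, ← Category.assoc, hoLift_hoH]
      by_cases hji : j.val ≤ i.val
      · rw [prismHom_δ_of_le j i hji]
        refine (hFd _ _).trans ?_
        have hs : sv (SimplexCategory.δ j) i = i.val + 1 := by rw [sv_δ, if_neg (by omega)]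
        simp only [F, Fin.val_castSucc, hs]
        rw [dif_pos (by omega), res_res]
        simp only [res, gW, Category.assoc, Nat.add_sub_cancel]
      · rw [prismHom_δ_of_lt j i (by omega)]
        refine (hFd _ _).trans ?_
        have hs : sv (SimplexCategory.δ j) i = i.val := by rw [sv_δ, if_pos (by omega)]
        simp only [F, Fin.val_succ, hs]
        rw [dif_neg (by omega), dif_neg (by omega), dif_neg (by omega), res_res]
        simp only [res, gW, Category.assoc, Nat.add_sub_cancel]

end Groth.Agent.HyperH28
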