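import Groth.Agent.Lib.HyperH28.Tower
import Mathlib.CategoryTheory.Limits.Constructions.Over.Basic
import Mathlib.CategoryTheory.Limits.Constructions.LimitsOfProductsAndEqualizers
import Mathlib.Data.Finite.Sigma

/-!
# Hypercoverings in a class of objects
-/

set_option autoImplicit false
set_option backward.isDefEq.respectTransparency false
set_option backward.isDefEq.respectTransparency.types false

universe u

open CategoryTheory CategoryTheory.Limits Opposite

noncomputable section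

namespace Groth.Agent.HyperH28

/-- A choice of coverings by objects with a property. -/
structure CovData {C : Type u} [SmallCategory C] (J : GrothendieckTopology C) (P : C → Prop) where
  /-- The index set. -/
  idx : C → Type u
  /-- The objects. -/
  obj : ∀ U, idx U → C
  /-- The maps. -/
  hom : ∀ U i, obj U i ⟶ U
  mem : ∀ U, Sieve.ofArrows (obj U) (hom U) ∈ J U
  prop : ∀ U i, P (obj U i)

section General

variable {C : Type u} [SmallCategory C] {J : GrothendieckTopology C} {P : C → Prop} (cv : CovData J P)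

/-- All boundaries, covered. -/
def allCells (n : ℕ) (K : SimplicialObject (FormalCoproduct.{u} C)) : Cells K n where
  Y := ⟨Σ U : C, {y : Fin (n + 2) → Pt U (K.obj (op (SimplexCategory.mk n))) // Compat K y} × cv.idx U,
    fun k => cv.obj k.1 k.2.2⟩
  z k j := res (cv.hom k.1 k.2.2) (k.2.1.1 j)
  compat k l j j' a b h := by
    simp only [res, Category.assoc]
    rw [k.2.1.2 l j j' a b h]

/-- All objects, covered. -/
def allZero : FormalCoproduct.{u} C := ⟨Σ U : C, cv.idx U, fun k => cv.obj k.1 k.2⟩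

include cv in
theorem exists_hyp_all : ∃ K : SimplicialObject (FormalCoproduct.{u} C), Fills J K ∧
    ∀ (n : ℕ) (i : (K.obj (op (SimplexCategory.mk n))).I), P ((K.obj (op (SimplexCategory.mk n))).obj i) := by
  refine ⟨hyp (allZero cv) (allCells cv), fills_hyp _ _ J (fun U => ⟨_, cv.mem U, ?_⟩) (fun n K U y hy => ⟨_, cv.mem U, ?_⟩),
    fun n i => hyp_prop _ _ P (fun k => cv.prop _ _) (fun n K k => cv.prop _ _) n i⟩
  · intro V g hg
    rw [Sieve.mem_ofArrows_iff] at hg
    obtain ⟨i, a, rfl⟩ := hg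
    exact ⟨pt (K := allZero cv) ⟨U, i⟩ a⟩
  · intro V g hg
    rw [Sieve.mem_ofArrows_iff] at hg
    obtain ⟨i, a, rfl⟩ := hg
    exact ⟨pt (K := (allCells cv n K).Y) ⟨U, ⟨y, hy⟩, i⟩ a, fun j => res_res _ _ _⟩

end General

section Limits

variable {C : Type u} [SmallCategory C] [HasFiniteLimits C] {J : GrothendieckTopology C} {P : C → Prop}
  (cv : CovData J P) (n : ℕ)

/-- The compatibilities of a boundary. -/
abbrev BRel : Type :=
  Σ l : Fin (n + 1), {q : (Fin (n + 2) × Fin (n + 2)) × ((SimplexCategory.mk l.1 ⟶ SimplexCategory.mk n) ×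
    (SimplexCategory.mk l.1 ⟶ SimplexCategory.mk n)) // q.2.1 ≫ SimplexCategory.δ q.1.1 = q.2.2 ≫ SimplexCategory.δ q.1.2}

instance finite_BRel : Finite (BRel n) := by
  haveI : ∀ l : ℕ, Finite (SimplexCategory.mk l ⟶ SimplexCategory.mk n) := fun l => Finite.of_injective
    (fun g => (g.toOrderHom : Fin (l + 1) → Fin (n + 1))) fun g g' h => SimplexCategory.Hom.ext _ _ (OrderHom.ext _ _ h)
  infer_instance

variable (K : SimplicialObject (FormalCoproduct.{u} C))

/-- The possible index tuples of boundaries. -/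
def BIdx : Type u :=
  {i : Fin (n + 2) → (K.obj (op (SimplexCategory.mk n))).I //
    ∀ r : BRel n, (K.map r.2.1.2.1.op).f (i r.2.1.1.1) = (K.map r.2.1.2.2.op).f (i r.2.1.1.2)}

variable (i : BIdx n K)

/-- The two maps whose equalizer is the object of boundaries with given indices. -/
def bMap₁ : (∏ᶜ fun j => (K.obj (op (SimplexCategory.mk n))).obj (i.1 j)) ⟶
    ∏ᶜ fun r : BRel n => (K.obj (op (SimplexCategory.mk r.1.1))).obj ((K.map r.2.1.2.2.op).f (i.1 r.2.1.1.2)) :=
  Pi.lift fun r => Pi.π _ r.2.1.1.1 ≫ (K.map r.2.1.2.1.op).φ (i.1 r.2.1.1.1) ≫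
    eqToHom (congrArg (K.obj (op (SimplexCategory.mk r.1.1))).obj (i.2 r))

/-- See `bMap₁`. -/
def bMap₂ : (∏ᶜ fun j => (K.obj (op (SimplexCategory.mk n))).obj (i.1 j)) ⟶
    ∏ᶜ fun r : BRel n => (K.obj (op (SimplexCategory.mk r.1.1))).obj ((K.map r.2.1.2.2.op).f (i.1 r.2.1.1.2)) :=
  Pi.lift fun r => Pi.π _ r.2.1.1.2 ≫ (K.map r.2.1.2.2.op).φ (i.1 r.2.1.1.2)

/-- The object of boundaries with given indices. -/
def bObj : C := equalizer (bMap₁ n K i) (bMap₂ n K i)

/-- The universal boundary with given indices. -/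
def bPt (j : Fin (n + 2)) : Pt (bObj n K i) (K.obj (op (SimplexCategory.mk n))) :=
  pt (i.1 j) (equalizer.ι _ _ ≫ Pi.π (fun j => (K.obj (op (SimplexCategory.mk n))).obj (i.1 j)) j)

theorem compat_bPt : Compat K (bPt n K i) := by
  refine compat_of_small _ fun l hl j k a b h => ?_
  let r : BRel n := ⟨⟨l, Nat.lt_succ_of_le hl⟩, ((j, k), (a, b)), h⟩
  have e := congrArg (fun q => q ≫ Pi.π _ r) (equalizer.condition (bMap₁ n K i) (bMap₂ n K i))
  simp only [bMap₁, bMap₂, Category.assoc, Pi.lift_π] at e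
  rw [bPt, bPt, pt_comp, pt_comp, pt_congr (i.2 r)]
  refine congrArg _ ?_
  simp only [Category.assoc]
  exact e

theorem exists_bPt {U : C} (y : Fin (n + 2) → Pt U (K.obj (op (SimplexCategory.mk n)))) (hy : Compat K y) :
    ∃ (i : BIdx n K) (a : U ⟶ bObj n K i), ∀ j, res a (bPt n K i j) = y j := by
  have h : ∀ r : BRel n, ∃ p : (K.map r.2.1.2.1.op).f ((y r.2.1.1.1).f PUnit.unit) =
      (K.map r.2.1.2.2.op).f ((y r.2.1.1.2).f PUnit.unit),
      ((y r.2.1.1.1).φ PUnit.unit ≫ (K.map r.2.1.2.1.op).φ _) ≫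
        eqToHom (congrArg (K.obj (op (SimplexCategory.mk r.1.1))).obj p) =
      (y r.2.1.1.2).φ PUnit.unit ≫ (K.map r.2.1.2.2.op).φ _ := fun r =>
    eq_of_pt_eq (K := K.obj (op (SimplexCategory.mk r.1.1))) (by
      rw [← pt_comp, ← pt_comp, pt_eta, pt_eta]
      exact hy _ _ _ _ _ r.2.2)
  choose p hp using h
  let i : BIdx n K := ⟨fun j => (y j).f PUnit.unit, p⟩
  let k : U ⟶ ∏ᶜ fun j => (K.obj (op (SimplexCategory.mk n))).obj (i.1 j) := Pi.lift fun j => (y j).φ PUnit.unit
  have hk : k ≫ bMap₁ n K i = k ≫ bMap₂ n K i := Pi.hom_ext _ _ fun r => by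
    simp only [k, bMap₁, bMap₂, Category.assoc, Pi.lift_π, Pi.lift_π_assoc]
    rw [← hp r, Category.assoc]
  let a : U ⟶ bObj n K i := equalizer.lift k hk
  refine ⟨i, a, fun j => ?_⟩
  have e : a ≫ equalizer.ι (bMap₁ n K i) (bMap₂ n K i) ≫
      Pi.π (fun j => (K.obj (op (SimplexCategory.mk n))).obj (i.1 j)) j = (y j).φ PUnit.unit := by
    rw [← Category.assoc]
    simp only [a, equalizer.lift_ι, k]
    exact Pi.lift_π _ _
  exact (res_pt _ _ _).trans ((congrArg (pt (i.1 j)) e).trans (pt_eta (y j)))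

/-- Boundaries with given indices, covered. -/
def finCells : Cells K n where
  Y := ⟨Σ i : BIdx n K, cv.idx (bObj n K i), fun k => cv.obj _ k.2⟩
  z k j := res (cv.hom _ k.2) (bPt n K k.1 j)
  compat k l j j' a b h := by
    simp only [res, Category.assoc]
    rw [compat_bPt n K k.1 l j j' a b h]

theorem exists_hyp_fin (Y₀ : FormalCoproduct.{u} C) (hY : ∀ k, P (Y₀.obj k)) [Finite Y₀.I]
    (hfin : ∀ U, Finite (cv.idx U))
    (h0 : ∀ U : C, ∃ T : Sieve U, T ∈ J U ∧ ∀ ⦃V : C⦄ (g : V ⟶ U), T g → Nonempty (Pt V Y₀)) :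
    ∃ K : SimplicialObject (FormalCoproduct.{u} C), Fills J K ∧
      ∀ n : ℕ, Finite (K.obj (op (SimplexCategory.mk n))).I ∧
        ∀ i : (K.obj (op (SimplexCategory.mk n))).I, P ((K.obj (op (SimplexCategory.mk n))).obj i) := by
  refine ⟨hyp Y₀ (finCells cv), fills_hyp _ _ J h0 (fun n K U y hy => ?_), fun n => ⟨?_, fun i =>
    hyp_prop _ _ P hY (fun n K k => cv.prop _ _) n i⟩⟩
  · obtain ⟨i, a, ha⟩ := exists_bPt n K y hy
    refine ⟨_, J.pullback_stable a (cv.mem (bObj n K i)), fun V g hg => ?_⟩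
    rw [Sieve.pullback_apply, Sieve.mem_ofArrows_iff] at hg
    obtain ⟨k, b, hb⟩ := hg
    refine ⟨pt (K := (finCells cv n K).Y) ⟨i, k⟩ b, fun j => ?_⟩
    show res b (res (cv.hom (bObj n K i) k) (bPt n K i j)) = res g (y j)
    rw [res_res, ← hb, ← res_res, ha]
  · refine hyp_finite _ _ inferInstance (fun n K hK => ?_) n
    haveI := hK (op (SimplexCategory.mk n))
    haveI : Finite (BIdx n K) := Subtype.finite
    haveI := fun i : BIdx n K => hfin (bObj n K i)
    exact inferInstanceAs (Finite (Σ i : BIdx n K, cv.idx (bObj n K i)))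

end Limits

section Over

variable {C : Type u} [SmallCategory C] (J : GrothendieckTopology C) (X : C) {B : Set C}

/-- Coverings in the slice. -/
def covOver (cv : CovData J (· ∈ B)) : CovData (J.over X) (fun U : Over X => U.left ∈ B) where
  idx U := cv.idx U.left
  obj U i := Over.mk (cv.hom U.left i ≫ U.hom)
  hom U i := Over.homMk (cv.hom U.left i)
  mem U := by
    rw [GrothendieckTopology.mem_over_iff]
    refine J.superset_covering ?_ (cv.mem U.left)
    intro V g hg
    rw [Sieve.mem_ofArrows_iff] at hg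
    obtain ⟨i, a, rfl⟩ := hg
    rw [Sieve.overEquiv_iff, Sieve.mem_ofArrows_iff]
    exact ⟨i, Over.homMk a (Category.assoc _ _ _).symm, by ext; simp⟩
  prop U i := cv.prop U.left i

end Over

end Groth.Agent.HyperH28
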