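import Groth.Agent.Lib.HyperH28.CechClass
import Mathlib.CategoryTheory.Sites.LocallyBijective
import Mathlib.CategoryTheory.Sites.LeftExact
import Mathlib.Algebra.Category.Grp.FilteredColimits
import Mathlib.Algebra.Category.Grp.Limits

/-!
# Killing and lifting cochains by refinement
-/

set_option autoImplicit false
set_option backward.isDefEq.respectTransparency false
set_option backward.isDefEq.respectTransparency.types false

universe u

open CategoryTheory CategoryTheory.Limits Opposite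

noncomputable section

namespace Groth.Agent.HyperH28

variable {C : Type u} [SmallCategory C] [HasPullbacks C] (J : GrothendieckTopology C) (X : C)
  [∀ (n : ℕ) (F : (SimplexCategory.Truncated n)ᵒᵖ ⥤ FormalCoproduct.{u} (Over X)),
      (SimplexCategory.Truncated.inclusion n).op.HasRightKanExtension F]
  (K : SimplicialObject (FormalCoproduct.{u} (Over X))) (hK : Hyper.IsHypercovering J X K)
include hK

theorem exists_refinement_eq_zero {P : Cᵒᵖ ⥤ AddCommGrpCat.{u}} (n : ℕ)
    (x : ev ((Over.forget X).op ⋙ P) (K.obj (op (SimplexCategory.mk n))))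
    (h : ∀ i, ∃ T : Sieve ((K.obj (op (SimplexCategory.mk n))).obj i).left, T ∈ J _ ∧
      ∀ ⦃V : C⦄ (g : V ⟶ _), T g → P.map g.op (val x (pt i (𝟙 _))) = 0) :
    ∃ (L : SimplicialObject (FormalCoproduct.{u} (Over X))) (f : L ⟶ K), Hyper.IsHypercovering J X L ∧
      pull X f P n x = 0 := by
  choose T hT hT' using h
  obtain ⟨L, f, hL, hf⟩ := exists_refinement_sieve J X K hK n T hT
  refine ⟨L, f, hL, ev_ext fun k => ?_⟩
  obtain ⟨i, a, e, ha⟩ := hf (pt k (𝟙 _))
  rw [val_pull, e, ← Category.comp_id a, ← res_pt, val_res, val_zero]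
  exact hT' i _ ha

theorem exists_refinement_lift {P Q : Cᵒᵖ ⥤ AddCommGrpCat.{u}} (φ : P ⟶ Q) (n : ℕ)
    (r : ev ((Over.forget X).op ⋙ Q) (K.obj (op (SimplexCategory.mk n))))
    (h : ∀ (U : C) (q : Q.obj (op U)), Presheaf.imageSieve φ q ∈ J U) :
    ∃ (L : SimplicialObject (FormalCoproduct.{u} (Over X))) (f : L ⟶ K), Hyper.IsHypercovering J X L ∧
      ∃ r', mapEv (Functor.whiskerLeft (Over.forget X).op φ) r' = pull X f Q n r := by
  obtain ⟨L, f, hL, hf⟩ := exists_refinement_sieve J X K hK n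
    (fun i => Presheaf.imageSieve φ (val r (pt i (𝟙 _)))) fun i => h _ _
  refine ⟨L, f, hL, exists_mapEv_eq _ _ fun k => ?_⟩
  obtain ⟨i, a, e, ⟨z, hz⟩⟩ := hf (pt k (𝟙 _))
  refine ⟨z, hz.trans ?_⟩
  rw [val_pull, e]
  conv_rhs => rw [← Category.comp_id a, ← res_pt, val_res]
  rfl

omit hK in
theorem exists_locally_zero {N : Cᵒᵖ ⥤ AddCommGrpCat.{u}} (hN : IsZero ((presheafToSheaf J AddCommGrpCat.{u}).obj N))
    {U : C} (x : N.obj (op U)) : ∃ T : Sieve U, T ∈ J U ∧ ∀ ⦃V : C⦄ (g : V ⟶ U), T g → N.map g.op x = 0 := by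
  refine ⟨_, Presheaf.equalizerSieve_mem J (toSheafify J N) x 0 ?_, fun V g hg => hg.trans (map_zero _)⟩
  haveI : Subsingleton ((sheafify J N).obj (op U)) :=
    AddCommGrpCat.subsingleton_of_isZero
      (((sheafToPresheaf J AddCommGrpCat.{u}) ⋙ (evaluation Cᵒᵖ AddCommGrpCat.{u}).obj (op U)).map_isZero hN)
  exact Subsingleton.elim _ _

theorem exists_class_killed_of_zero (N : Cᵒᵖ ⥤ AddCommGrpCat.{u})
    (hN : IsZero ((presheafToSheaf J AddCommGrpCat.{u}).obj N)) (p : ℕ) (ξ : Hyper.cechH X K N p) :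
    ∃ (L : SimplicialObject (FormalCoproduct.{u} (Over X))) (f : L ⟶ K),
      Hyper.IsHypercovering J X L ∧ Hyper.cechHMap X f N p ξ = 0 := by
  obtain ⟨z, rfl, -⟩ := exists_rep (A := Hyper.cechCx X K N) p ξ
  obtain ⟨L, f, hL, hf⟩ := exists_refinement_eq_zero J X K hK p ((Hyper.cechCx X K N).iCycles p z)
    fun i => exists_locally_zero J hN _
  refine ⟨L, f, hL, ?_⟩
  cases p with
  | zero => exact (cechHMap_zero_eq_zero_iff X f N z).2 hf
  | succ p => exact (cechHMap_succ_eq_zero_iff X f N p z).2 ⟨0, by rw [map_zero]; exact hf.symm⟩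

theorem exists_refinement_factor (n : ℕ) (P : (Over X)ᵒᵖ ⥤ Type u)
    (v : P ⟶ FormalCoproduct.yoneda.obj (K.obj (op (SimplexCategory.mk n))))
    (hv : Presheaf.IsLocallySurjective (J.over X) v) :
    ∃ (L : SimplicialObject (FormalCoproduct.{u} (Over X))) (f : L ⟶ K)
      (g : FormalCoproduct.yoneda.obj (L.obj (op (SimplexCategory.mk n))) ⟶ P),
      Hyper.IsHypercovering J X L ∧ g ≫ v = FormalCoproduct.yoneda.map (f.app (op (SimplexCategory.mk n))) := by
  let K' := K.obj (op (SimplexCategory.mk n))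
  obtain ⟨L, f, hL, hf⟩ := exists_refinement_sieve J X K hK n
    (fun i => Sieve.overEquiv _ (Presheaf.imageSieve v (el (pt i (𝟙 (K'.obj i))))))
    fun i => (GrothendieckTopology.mem_over_iff _ _).1 (hv.imageSieve_mem _)
  have h : ∀ k, ∃ p : P.obj (op ((L.obj (op (SimplexCategory.mk n))).obj k)),
      v.app _ p = el (pt k (𝟙 _) ≫ f.app (op (SimplexCategory.mk n))) := by
    intro k
    obtain ⟨i, a, e, ha⟩ := hf (pt k (𝟙 _))
    have ha' : Presheaf.imageSieve v (el (pt i (𝟙 (K'.obj i)))) a := by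
      rw [Sieve.overEquiv_iff] at ha
      have := (Presheaf.imageSieve v (el (pt i (𝟙 (K'.obj i))))).downward_closed ha
        (Over.homMk (𝟙 _) (by simp only [Over.mk_hom]; rw [Category.id_comp]; exact Over.w a) :
          (L.obj (op (SimplexCategory.mk n))).obj k ⟶ Over.mk (a.left ≫ (K'.obj i).hom))
      convert this using 1
      ext
      simp
    obtain ⟨p, hp⟩ := ha'
    refine ⟨p, hp.trans ?_⟩
    rw [← el_res, e, res_pt, Category.comp_id]
  choose p hp using h
  refine ⟨L, f, Sigma.desc fun k => yonedaEquiv.symm (p k), hL, Sigma.hom_ext _ _ fun k => ?_⟩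
  refine (Category.assoc _ _ _).symm.trans ?_
  rw [Sigma.ι_desc]
  apply yonedaEquiv.injective
  rw [yonedaEquiv_comp, Equiv.apply_symm_apply, hp]
  exact el_comp (pt k (𝟙 _)) (f.app _)

end Groth.Agent.HyperH28
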