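import Groth.Agent.Lib.HyperH28.Fills
import Mathlib.CategoryTheory.Limits.Constructions.Over.Basic
import Mathlib.CategoryTheory.Limits.FormalCoproducts.Basic
import Mathlib.CategoryTheory.Limits.FunctorCategory.Shapes.Pullbacks

/-!
# Pullbacks of hypercoverings
-/

set_option autoImplicit false
set_option backward.isDefEq.respectTransparency false
set_option backward.isDefEq.respectTransparency.types false

universe u

open CategoryTheory CategoryTheory.Limits Opposite

noncomputable section

namespace Groth.Agent.HyperH28

variable {C : Type u} [SmallCategory C] [HasPullbacks C] (J : GrothendieckTopology C) (X : C)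
  [∀ (n : ℕ) (F : (SimplexCategory.Truncated n)ᵒᵖ ⥤ FormalCoproduct.{u} (Over X)),
      (SimplexCategory.Truncated.inclusion n).op.HasRightKanExtension F]

theorem isHypercovering_pullback
    {K L M P : SimplicialObject (FormalCoproduct.{u} (Over X))} (a : K ⟶ L) (b : M ⟶ L)
    (p1 : P ⟶ K) (p2 : P ⟶ M) (hP : IsPullback p1 p2 a b)
    (hK : Hyper.IsHypercovering J X K)
    (h0 : Hyper.IsSRCovering (J.over X) (b.app (op (SimplexCategory.mk 0))))
    (hγ : ∀ (n : ℕ) (Q : FormalCoproduct.{u} (Over X))
      (q1 : Q ⟶ L.obj (op (SimplexCategory.mk (n + 1))))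
      (q2 : Q ⟶ ((SimplicialObject.truncation n ⋙ SimplicialObject.Truncated.cosk n).obj M).obj
        (op (SimplexCategory.mk (n + 1))))
      (γ : M.obj (op (SimplexCategory.mk (n + 1))) ⟶ Q),
      IsPullback q1 q2 (((SimplicialObject.coskAdj n).unit.app L).app (op (SimplexCategory.mk (n + 1))))
        (((SimplicialObject.truncation n ⋙ SimplicialObject.Truncated.cosk n).map b).app
          (op (SimplexCategory.mk (n + 1)))) →
      γ ≫ q1 = b.app (op (SimplexCategory.mk (n + 1))) →
      γ ≫ q2 = ((SimplicialObject.coskAdj n).unit.app M).app (op (SimplexCategory.mk (n + 1))) →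
      Hyper.IsSRCovering (J.over X) γ) :
    Hyper.IsHypercovering J X P := by
  have hK' := fills_of_hypercovering J X hK
  have hPm := fun m => hP.map ((evaluation SimplexCategoryᵒᵖ (FormalCoproduct.{u} (Over X))).obj (op (SimplexCategory.mk m)))
  refine isHypercovering_of_fills J X ⟨fun U => ?_, fun n U y hy => ?_⟩
  · obtain ⟨S, hS, hS'⟩ := hK'.zero U
    refine ⟨Sieve.bind S.arrows fun V g hg => liftSieve (b.app (op (SimplexCategory.mk 0)))
      ((hS' g hg).some ≫ a.app (op (SimplexCategory.mk 0))),
      (J.over X).bind_covering hS fun V g hg => (isSRCovering_iff _ _).1 h0 _ _, ?_⟩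
    rintro W _ ⟨V, g', g, hg, ⟨t, ht⟩, rfl⟩
    refine ⟨(hPm 0).lift (res g' (hS' g hg).some) t ?_⟩
    exact (Category.assoc _ _ _).trans ht.symm
  · have nat1 : ∀ {l l' : SimplexCategoryᵒᵖ} (f : l ⟶ l'), P.map f ≫ p1.app l' = p1.app l ≫ K.map f :=
      fun f => p1.naturality f
    have nat2 : ∀ {l l' : SimplexCategoryᵒᵖ} (f : l ⟶ l'), P.map f ≫ p2.app l' = p2.app l ≫ M.map f :=
      fun f => p2.naturality f
    let yK := fun j => y j ≫ p1.app _
    let yM := fun j => y j ≫ p2.app _
    have hyK : Compat K yK := fun l j k α β h => by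
      simp only [yK, Category.assoc, ← nat1]
      rw [← Category.assoc, ← Category.assoc, hy l j k α β h]
    have hyM : Compat M yM := fun l j k α β h => by
      simp only [yM, Category.assoc, ← nat2]
      rw [← Category.assoc, ← Category.assoc, hy l j k α β h]
    obtain ⟨τ, hτ⟩ := exists_family hyM
    obtain ⟨cM, hcM⟩ := exists_coskPt n ((SimplicialObject.truncation n).obj M) τ
    obtain ⟨S, hS, hS'⟩ := hK'.fill n U yK hyK
    let Q := pullback (((SimplicialObject.coskAdj n).unit.app L).app (op (SimplexCategory.mk (n + 1))))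
      (((SimplicialObject.truncation n ⋙ SimplicialObject.Truncated.cosk n).map b).app (op (SimplexCategory.mk (n + 1))))
    have hQ := IsPullback.of_hasPullback (((SimplicialObject.coskAdj n).unit.app L).app (op (SimplexCategory.mk (n + 1))))
      (((SimplicialObject.truncation n ⋙ SimplicialObject.Truncated.cosk n).map b).app (op (SimplexCategory.mk (n + 1))))
    let γ : M.obj (op (SimplexCategory.mk (n + 1))) ⟶ Q :=
      hQ.lift (b.app _) (((SimplicialObject.coskAdj n).unit.app M).app (op (SimplexCategory.mk (n + 1))))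
        (NatTrans.congr_app ((SimplicialObject.coskAdj n).unit.naturality b) _)
    have hγ' : Hyper.IsSRCovering (J.over X) γ :=
      hγ n Q _ _ γ hQ (hQ.lift_fst _ _ _) (hQ.lift_snd _ _ _)
    have hface : ∀ {V : Over X} (g : V ⟶ U) (j : Fin (n + 2)),
        coskFace n _ (res g cM) le_rfl (SimplexCategory.δ j) = res g (yM j) := fun g j => by
      rw [coskFace_res]
      exact congrArg _ ((hcM n le_rfl (SimplexCategory.δ j)).trans (hτ j))
    have hagree : ∀ ⦃V : Over X⦄ (g : V ⟶ U) (e : Pt V (K.obj (op (SimplexCategory.mk (n + 1))))),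
        (∀ j, e ≫ K.δ j = res g (yK j)) →
        (e ≫ a.app (op (SimplexCategory.mk (n + 1)))) ≫
            ((SimplicialObject.coskAdj n).unit.app L).app (op (SimplexCategory.mk (n + 1))) =
          res g cM ≫ ((SimplicialObject.truncation n ⋙ SimplicialObject.Truncated.cosk n).map b).app
            (op (SimplexCategory.mk (n + 1))) := by
      intro V g e he
      refine coskPt_ext n _ _ _ fun l hl q => ?_
      refine (coskFace_unit n L _ hl q).trans (Eq.trans ?_ (coskFace_map n _ _ hl q).symm)
      obtain ⟨j, hj⟩ := exists_missed (Nat.lt_succ_of_le hl) q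
      obtain ⟨α, rfl⟩ := exists_factor q j hj
      have hd : coskFace n _ (res g cM) hl (α ≫ SimplexCategory.δ j) =
          res g (yM j) ≫ M.map α.op := by
        rw [← hface g j]
        have hn : ((SimplicialObject.Truncated.cosk n).obj ((SimplicialObject.truncation n).obj M)).map α.op ≫
            ((SimplicialObject.coskAdj n).counit.app ((SimplicialObject.truncation n).obj M)).app
              (op ⟨SimplexCategory.mk l, hl⟩) =
            ((SimplicialObject.coskAdj n).counit.app ((SimplicialObject.truncation n).obj M)).app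
              (op ⟨SimplexCategory.mk n, le_refl n⟩) ≫ M.map α.op :=
          ((SimplicialObject.coskAdj n).counit.app ((SimplicialObject.truncation n).obj M)).naturality
            (Quiver.Hom.op (InducedCategory.homMk α : (⟨SimplexCategory.mk l, hl⟩ : SimplexCategory.Truncated n) ⟶
              ⟨SimplexCategory.mk n, le_refl n⟩))
        simp only [coskFace, op_comp, Functor.map_comp, Category.assoc]
        rw [hn]
      refine Eq.trans ?_ (congrArg (fun z => z ≫ b.app (op (SimplexCategory.mk l))) hd).symm
      have hyj : y j ≫ p1.app _ ≫ a.app _ = y j ≫ p2.app _ ≫ b.app _ := congrArg _ (hPm n).w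
      rw [Category.assoc, ← a.naturality, op_comp, K.map_comp, Category.assoc]
      rw [← Category.assoc e, show e ≫ K.map (SimplexCategory.δ j).op = res g (yK j) from he j]
      simp only [res, yK, yM, Category.assoc]
      erw [a.naturality, b.naturality, reassoc_of% hyj]
    refine ⟨Sieve.bind S.arrows fun V g hg => liftSieve γ (hQ.lift ((hS' g hg).choose ≫ a.app _) (res g cM)
      (hagree g _ (hS' g hg).choose_spec)),
      (J.over X).bind_covering hS fun V g hg => (isSRCovering_iff _ _).1 hγ' _ _, ?_⟩
    rintro W _ ⟨V, g', g, hg, ⟨t, ht⟩, rfl⟩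
    have ht1 : t ≫ b.app _ = res g' ((hS' g hg).choose ≫ a.app _) := by
      rw [← hQ.lift_fst (b.app (op (SimplexCategory.mk (n + 1)))) _
        (NatTrans.congr_app ((SimplicialObject.coskAdj n).unit.naturality b) _), ← Category.assoc, ht, res,
        Category.assoc, hQ.lift_fst]
    have ht2 : t ≫ ((SimplicialObject.coskAdj n).unit.app M).app (op (SimplexCategory.mk (n + 1))) =
        res g' (res g cM) := by
      rw [← hQ.lift_snd (b.app (op (SimplexCategory.mk (n + 1)))) _
        (NatTrans.congr_app ((SimplicialObject.coskAdj n).unit.naturality b) _), ← Category.assoc, ht, res,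
        Category.assoc, hQ.lift_snd]
    refine ⟨(hPm (n + 1)).lift (res g' (hS' g hg).choose) t ((Category.assoc _ _ _).trans ht1.symm), fun j => ?_⟩
    refine (hPm n).hom_ext ?_ ?_
    · show (_ ≫ P.map _) ≫ p1.app _ = res _ (y j) ≫ p1.app _
      rw [Category.assoc, nat1, ← Category.assoc]
      refine (congrArg (· ≫ K.map _) ((hPm (n + 1)).lift_fst _ _ _)).trans ?_
      refine (Category.assoc _ _ _).trans ((congrArg _ ((hS' g hg).choose_spec j)).trans ?_)
      exact (res_res g g' (yK j)).trans (Category.assoc _ _ _).symm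
    · show (_ ≫ P.map _) ≫ p2.app _ = res _ (y j) ≫ p2.app _
      rw [Category.assoc, nat2, ← Category.assoc]
      refine (congrArg (· ≫ M.map _) ((hPm (n + 1)).lift_snd _ _ _)).trans ?_
      refine ((coskFace_unit n M t le_rfl (SimplexCategory.δ j)).symm.trans ?_)
      rw [ht2, res_res, hface]
      exact (Category.assoc _ _ _).symm

end Groth.Agent.HyperH28
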