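import Groth.Agent.Lib.HyperH28.Decalage
import Groth.Agent.Lib.HyperH28.Acyclic
import Groth.Agent.Lib.HyperH28.ColimCech
import Groth.Agent.Lib.SiteCoh.Rpush
import Mathlib.CategoryTheory.Sites.SheafCohomology.Basic

/-!
# The double complex of a hypercovering and an injective resolution
-/

set_option autoImplicit false
set_option linter.style.haveILetI false
set_option backward.isDefEq.respectTransparency false
set_option backward.isDefEq.respectTransparency.types false

universe u

open CategoryTheory CategoryTheory.Limits Opposite Abelian Groth.Agent.DblCx16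

noncomputable section

namespace Groth.Agent.HyperH28

variable {C : Type u} [SmallCategory C] {J : GrothendieckTopology C}

/-- The constant sheaf of the integers. -/
abbrev zSheaf (J : GrothendieckTopology C) : Sheaf J AddCommGrpCat.{u} :=
  (constantSheaf J AddCommGrpCat.{u}).obj (AddCommGrpCat.of (ULift.{u} ℤ))

/-- The presheaf morphism of a global section. -/
def zHom {A : Sheaf J AddCommGrpCat.{u}} :
    (zSheaf J ⟶ A) ≃+ ((Functor.const Cᵒᵖ).obj (AddCommGrpCat.of (ULift.{u} ℤ)) ⟶ A.obj) :=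
  (sheafificationAdjunction J AddCommGrpCat.{u}).homAddEquiv _ A

/-- The value of a global section. -/
def sec {A : Sheaf J AddCommGrpCat.{u}} (φ : zSheaf J ⟶ A) (U : C) : A.obj.obj (op U) :=
  (zHom φ).app (op U) ⟨1⟩

theorem sec_res {A : Sheaf J AddCommGrpCat.{u}} (φ : zSheaf J ⟶ A) {U V : C} (g : V ⟶ U) :
    A.obj.map g.op (sec φ U) = sec φ V :=
  (NatTrans.naturality_apply (zHom φ) g.op (⟨1⟩ : ULift.{u} ℤ)).symm

theorem sec_add {A : Sheaf J AddCommGrpCat.{u}} (φ ψ : zSheaf J ⟶ A) (U : C) :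
    sec (φ + ψ) U = sec φ U + sec ψ U := by
  rw [sec, map_add]
  rfl

theorem zHom_comp {A B : Sheaf J AddCommGrpCat.{u}} (φ : zSheaf J ⟶ A) (f : A ⟶ B) :
    zHom (φ ≫ f) = zHom φ ≫ f.hom :=
  (sheafificationAdjunction J AddCommGrpCat.{u}).homEquiv_naturality_right φ f

theorem sec_comp {A B : Sheaf J AddCommGrpCat.{u}} (φ : zSheaf J ⟶ A) (f : A ⟶ B) (U : C) :
    sec (φ ≫ f) U = f.hom.app (op U) (sec φ U) :=
  ConcreteCategory.congr_hom (NatTrans.congr_app (zHom_comp φ f) (op U)) _

theorem eq_zero_of_sec {A : Sheaf J AddCommGrpCat.{u}} {φ : zSheaf J ⟶ A} (h : ∀ U, sec φ U = 0) : φ = 0 := by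
  apply zHom.injective
  rw [map_zero]
  refine NatTrans.ext (funext fun ⟨U⟩ => ConcreteCategory.hom_ext _ _ fun ⟨n⟩ => ?_)
  have : (ULift.up n : ULift.{u} ℤ) = n • ULift.up 1 := by ext; simp
  show (zHom φ).app (op U) (ULift.up n) = 0
  rw [this]
  refine (map_zsmul ((zHom φ).app (op U)).hom n _).trans ?_
  rw [show (zHom φ).app (op U) (ULift.up 1) = 0 from h U, zsmul_zero]

theorem exists_sec {A : Sheaf J AddCommGrpCat.{u}} (y : ∀ U : C, A.obj.obj (op U))
    (hy : ∀ {U V : C} (g : V ⟶ U), A.obj.map g.op (y U) = y V) : ∃ φ : zSheaf J ⟶ A, ∀ U, sec φ U = y U := by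
  let ψ : (Functor.const Cᵒᵖ).obj (AddCommGrpCat.of (ULift.{u} ℤ)) ⟶ A.obj :=
    { app := fun U => AddCommGrpCat.ofHom ((zmultiplesHom _ (y U.unop)).comp AddEquiv.ulift.toAddMonoidHom)
      naturality := fun U V g => by
        refine ConcreteCategory.hom_ext _ _ fun n => ?_
        show n.down • y V.unop = A.obj.map g (n.down • y U.unop)
        rw [map_zsmul]
        exact congrArg _ (hy g.unop).symm }
  refine ⟨zHom.symm ψ, fun U => ?_⟩
  rw [sec, AddEquiv.apply_symm_apply]
  show (1 : ℤ) • y U = y U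
  rw [one_zsmul]

theorem val_add {P : Cᵒᵖ ⥤ AddCommGrpCat.{u}} {L : FormalCoproduct.{u} C} (x y : ev P L) {U : C} (s : Pt U L) :
    val (x + y) s = val x s + val y s := map_add (valHom s) x y

theorem val_neg {P : Cᵒᵖ ⥤ AddCommGrpCat.{u}} {L : FormalCoproduct.{u} C} (x : ev P L) {U : C} (s : Pt U L) :
    val (-x) s = -val x s := map_neg (valHom s) x

theorem mapEv_add {P Q : Cᵒᵖ ⥤ AddCommGrpCat.{u}} {L : FormalCoproduct.{u} C} (φ : P ⟶ Q) (x y : ev P L) :
    mapEv φ (x + y) = mapEv φ x + mapEv φ y :=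
  ev_ext fun i => by rw [val_mapEv, val_add, val_add, val_mapEv, val_mapEv, map_add]

variable (K : SimplicialObject (FormalCoproduct.{u} C))

/-- The augmentation of the Čech complex by global sections. -/
def lam {A : Sheaf J AddCommGrpCat.{u}} (φ : zSheaf J ⟶ A) : ev A.obj (K.obj (op (SimplexCategory.mk 0))) :=
  evMk fun i => sec φ _

theorem val_lam {A : Sheaf J AddCommGrpCat.{u}} (φ : zSheaf J ⟶ A) {U : C}
    (s : Pt U (K.obj (op (SimplexCategory.mk 0)))) : val (lam K φ) s = sec φ U := by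
  obtain ⟨i, a, rfl⟩ := exists_pt s
  rw [lam, val_evMk, sec_res]

theorem d_lam {A : Sheaf J AddCommGrpCat.{u}} (φ : zSheaf J ⟶ A) :
    (Hyper.cechCxSite K A.obj).d 0 (0 + 1) (lam K φ) = 0 := by
  refine ev_ext (K := K.obj (op (SimplexCategory.mk (0 + 1)))) fun i => ?_
  rw [cech_d_val, Fin.sum_univ_two, val_lam, val_lam]
  refine Eq.trans ?_ (val_zero _).symm
  simp

variable {K}

theorem lam_eq_zero (hK : IsZeroOneCover J K) {A : Sheaf J AddCommGrpCat.{u}} {φ : zSheaf J ⟶ A}
    (h : lam K φ = 0) : φ = 0 := by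
  have hF : Presieve.IsSheaf J (A.obj ⋙ forget AddCommGrpCat.{u}) :=
    (isSheaf_iff_isSheaf_of_type _ _).1 ((Presheaf.isSheaf_iff_isSheaf_forget J A.obj (forget _)).1 A.2)
  refine eq_zero_of_sec fun U => ?_
  obtain ⟨S, hS, hS'⟩ := hK.zero U
  refine (hF S hS).isSeparatedFor.ext fun V g hg => ?_
  obtain ⟨s⟩ := hS' g hg
  show A.obj.map g.op _ = A.obj.map g.op 0
  rw [sec_res, map_zero, ← val_lam K φ s, h, val_zero]

theorem exists_lam (hK : IsZeroOneCover J K) {A : Sheaf J AddCommGrpCat.{u}}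
    (q : ev A.obj (K.obj (op (SimplexCategory.mk 0)))) (hq : (Hyper.cechCxSite K A.obj).d 0 (0 + 1) q = 0) :
    ∃ φ : zSheaf J ⟶ A, lam K φ = q := by
  have hF : Presieve.IsSheaf J (A.obj ⋙ forget AddCommGrpCat.{u}) :=
    (isSheaf_iff_isSheaf_of_type _ _).1 ((Presheaf.isSheaf_iff_isSheaf_forget J A.obj (forget _)).1 A.2)
  have hcoc : ∀ {U : C} (a b : Pt U (K.obj (op (SimplexCategory.mk 0)))), val q a = val q b := by
    intro U a b
    obtain ⟨S, hS, hS'⟩ := hK.one U a b
    refine (hF S hS).isSeparatedFor.ext fun V g hg => ?_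
    obtain ⟨c, hc1, hc0⟩ := hS' g hg
    have h := cech_d_val K A.obj 0 q c
    rw [hq, Fin.sum_univ_two] at h
    have h2 := (val_zero (F := A.obj) c).symm.trans h
    have e0 : c ≫ K.δ (0 : Fin (0 + 2)) = res g b := hc0
    have e1 : c ≫ K.δ (1 : Fin (0 + 2)) = res g a := hc1
    rw [e0, e1] at h2
    show A.obj.map g.op (val q a) = A.obj.map g.op (val q b)
    rw [← val_res, ← val_res]
    simp [← sub_eq_add_neg] at h2
    exact (sub_eq_zero.1 h2.symm).symm
  have key : ∀ U : C, ∃ y : A.obj.obj (op U),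
      ∀ ⦃V : C⦄ (g : V ⟶ U) (s : Pt V (K.obj (op (SimplexCategory.mk 0)))), A.obj.map g.op y = val q s := by
    intro U
    obtain ⟨S, hS, hS'⟩ := hK.zero U
    let fam : Presieve.FamilyOfElements (A.obj ⋙ forget AddCommGrpCat.{u}) S.arrows :=
      fun V g hg => val q (hS' g hg).some
    have hfam : fam.Compatible := fun V₁ V₂ W g₁ g₂ f₁ f₂ hf₁ hf₂ _ => by
      show A.obj.map g₁.op (val q _) = A.obj.map g₂.op (val q _)
      rw [← val_res, ← val_res]
      exact hcoc _ _
    refine ⟨(hF S hS).amalgamate fam hfam, fun V g s => ?_⟩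
    refine (hF _ (J.pullback_stable g hS)).isSeparatedFor.ext fun W h hh => ?_
    show A.obj.map h.op _ = A.obj.map h.op _
    rw [← ConcreteCategory.comp_apply, ← A.obj.map_comp, ← op_comp, ← val_res]
    exact ((hF S hS).valid_glue hfam (h ≫ g) hh).trans (hcoc _ _)
  choose y hy using key
  obtain ⟨φ, hφ⟩ := exists_sec (A := A) y fun {U V} g => by
    obtain ⟨S, hS, hS'⟩ := hK.zero V
    refine (hF S hS).isSeparatedFor.ext fun W h hh => ?_
    obtain ⟨s⟩ := hS' h hh
    show A.obj.map h.op _ = A.obj.map h.op _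
    rw [← ConcreteCategory.comp_apply, ← A.obj.map_comp, ← op_comp, hy U (h ≫ g) s, hy V h s]
  refine ⟨φ, ev_ext fun i => ?_⟩
  rw [val_lam, hφ, ← hy _ (𝟙 _) (pt i (𝟙 _)), op_id, A.obj.map_id]
  rfl

variable {F : Sheaf J AddCommGrpCat.{u}} (R : InjectiveResolution F) (K)

/-- The groups of the augmented double complex. -/
def dblX : ℕ → ℕ → AddCommGrpCat.{u}
  | 0, q => AddCommGrpCat.of (zSheaf J ⟶ R.cocomplex.X q)
  | p + 1, q => (Hyper.cechCxSite K (R.cocomplex.X q).obj).X p

/-- Horizontal maps. -/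
def dblH : ∀ p q, dblX K R p q →+ dblX K R (p + 1) q
  | 0, q => AddMonoidHom.mk' (fun φ => lam K φ) fun φ ψ => ev_ext fun i => by
      rw [val_lam, sec_add]
      exact ((val_add _ _ _).trans (congrArg₂ (· + ·) (val_lam K φ _) (val_lam K ψ _))).symm
  | p + 1, q => -((Hyper.cechCxSite K (R.cocomplex.X q).obj).d p (p + 1)).hom

/-- Vertical maps. -/
def dblV : ∀ p q, dblX K R p q →+ dblX K R p (q + 1)
  | 0, q => AddMonoidHom.mk' (fun φ => φ ≫ R.cocomplex.d q (q + 1))
      fun φ ψ => Preadditive.add_comp _ _ _ φ ψ _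
  | p + 1, q => AddMonoidHom.mk' (fun x => mapEv (R.cocomplex.d q (q + 1)).hom x) (mapEv_add _)

theorem dd_app (q : ℕ) (U : Cᵒᵖ) (x : (R.cocomplex.X q).obj.obj U) :
    (R.cocomplex.d (q + 1) (q + 1 + 1)).hom.app U ((R.cocomplex.d q (q + 1)).hom.app U x) = 0 :=
  ConcreteCategory.congr_hom (congrArg (fun (φ : R.cocomplex.X q ⟶ R.cocomplex.X (q + 1 + 1)) => φ.hom.app U)
    (R.cocomplex.d_comp_d q (q + 1) (q + 1 + 1))) x

/-- The augmented double complex. -/
def dbl : Dbl.{u} where
  X := dblX K R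
  h := dblH K R
  v := dblV K R
  hh p q x := by
    cases p with
    | zero =>
      show -((Hyper.cechCxSite K (R.cocomplex.X q).obj).d 0 (0 + 1) (lam K x)) = 0
      rw [d_lam, neg_zero]
    | succ p =>
      show -((Hyper.cechCxSite K (R.cocomplex.X q).obj).d (p + 1) (p + 1 + 1)
        (-((Hyper.cechCxSite K (R.cocomplex.X q).obj).d p (p + 1) x))) = 0
      refine neg_eq_zero.2 ((map_neg _ _).trans (neg_eq_zero.2 ?_))
      exact ConcreteCategory.congr_hom ((Hyper.cechCxSite K (R.cocomplex.X q).obj).d_comp_d _ _ _) x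
  vv p q x := by
    cases p with
    | zero =>
      show (x ≫ R.cocomplex.d q (q + 1)) ≫ R.cocomplex.d (q + 1) (q + 1 + 1) = 0
      rw [Category.assoc, R.cocomplex.d_comp_d, comp_zero]
    | succ p =>
      refine ev_ext (K := K.obj (op (SimplexCategory.mk p))) fun i => ?_
      refine (val_mapEv _ (mapEv (R.cocomplex.d q (q + 1)).hom x) _).trans ?_
      rw [val_mapEv, dd_app]
      exact (val_zero _).symm
  hv p q x := by
    cases p with
    | zero =>
      refine ev_ext (K := K.obj (op (SimplexCategory.mk 0))) fun i => ?_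
      refine (val_lam K (x ≫ R.cocomplex.d q (q + 1)) _).trans ((sec_comp x _ _).trans ?_)
      exact ((val_mapEv _ (lam K x) _).trans (congrArg _ (val_lam K x _))).symm
    | succ p =>
      show -((Hyper.cechCxSite K (R.cocomplex.X (q + 1)).obj).d p (p + 1)
        (mapEv (R.cocomplex.d q (q + 1)).hom x)) = mapEv (R.cocomplex.d q (q + 1)).hom
          (-((Hyper.cechCxSite K (R.cocomplex.X q).obj).d p (p + 1) x))
      rw [← mapEv_d]
      exact (map_neg (AddMonoidHom.mk' (fun y => mapEv (R.cocomplex.d q (q + 1)).hom y) (mapEv_add _)) _).symm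

theorem totExact_dbl (h01 : IsZeroOneCover J K) (hS : IsLocContr J (K ⋙ FormalCoproduct.yoneda)) (n : ℤ) :
    TotExact (dbl K R) n := by
  refine totExact_of_rows _ (fun q x hx => lam_eq_zero h01 hx) (fun p q x hx => ?_) n
  cases p with
  | zero =>
    obtain ⟨φ, hφ⟩ := exists_lam h01 x (neg_eq_zero.1 hx)
    exact ⟨φ, hφ⟩
  | succ p =>
    have hI := isZero_cech_succ K J hS (R.cocomplex.X q) p
    rw [← HomologicalComplex.exactAt_iff_isZero_homology,
      HomologicalComplex.exactAt_iff' _ p (p + 1) (p + 1 + 1) (by simp) (by simp),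
      ShortComplex.ab_exact_iff] at hI
    obtain ⟨(y : dblX K R (p + 1) q), hy⟩ := hI x (neg_eq_zero.1 hx)
    exact ⟨-y, (map_neg (dblH K R (p + 1) q) y).trans ((neg_neg _).trans hy)⟩

/-- The column of global sections computes sheaf cohomology. -/
theorem nonempty_col_homology_iso (n : ℕ) :
    Nonempty ((col (dbl K R) 0).homology n ≅ AddCommGrpCat.of (Sheaf.H F n)) := by
  obtain ⟨i, hi⟩ : ∃ i, i = (ComplexShape.up ℕ).prev n := ⟨_, rfl⟩
  let S := (col (dbl K R) 0).sc' i n (n + 1)
  have hcyc : ∀ x : S.X₂, S.g x = 0 ↔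
      (show zSheaf J ⟶ R.cocomplex.X n from x) ≫ R.cocomplex.d n (n + 1) = 0 := fun x => by
    show (col (dbl K R) 0).d n (n + 1) x = 0 ↔ _
    rw [col_d]
    rfl
  let φ : S.g.hom.ker →+ Sheaf.H F n := AddMonoidHom.mk'
    (fun z => R.extMk (show zSheaf J ⟶ R.cocomplex.X n from z.1) (n + 1) rfl ((hcyc _).1 z.2))
    fun a b => (R.add_extMk _ _ _ rfl _ _).symm
  have hsφ : Function.Surjective φ := fun α => by
    obtain ⟨f, hf, hα⟩ := R.extMk_surjective α (n + 1) rfl
    exact ⟨⟨f, (hcyc f).2 hf⟩, hα⟩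
  have hkφ : φ.ker = S.abToCycles.range := by
    ext ⟨x, hx⟩
    cases n with
    | zero =>
      constructor
      · intro h
        have h0 : ∀ (f : zSheaf J ⟶ R.cocomplex.X 0) (hf : f ≫ R.cocomplex.d 0 1 = 0),
            R.extMk f 1 rfl hf = 0 → f = 0 := fun f hf h => by
          simp only [← R.extEquivCohomologyClass.apply_eq_iff_eq,
            InjectiveResolution.extEquivCohomologyClass_extMk,
            InjectiveResolution.extEquivCohomologyClass_zero,
            CochainComplex.HomComplex.CohomologyClass.mk_eq_zero_iff] at h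
          rw [CochainComplex.HomComplex.Cocycle.fromSingleMk_mem_coboundaries_iff _ _ _ _ _ (-1)
            (by simp)] at h
          obtain ⟨g, hg⟩ := h
          rw [(CochainComplex.isZero_of_isStrictlyGE R.cochainComplex 0 (-1)).eq_of_tgt g 0, zero_comp] at hg
          rw [← cancel_mono (R.cochainComplexXIso _ 0 rfl).inv, zero_comp]
          exact hg.symm
        refine ⟨0, Subtype.ext ?_⟩
        show S.f 0 = x
        rw [map_zero]
        exact (h0 x ((hcyc x).1 hx) h).symm
      · rintro ⟨c, hc⟩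
        have hc' : S.f c = x := congrArg Subtype.val hc
        have h1 : S.f c = 0 := by
          show (col (dbl K R) 0).d i 0 c = 0
          rw [(col (dbl K R) 0).shape _ _ (by simp)]
          rfl
        obtain rfl : x = 0 := hc'.symm.trans h1
        exact map_zero φ
    | succ p =>
      obtain rfl : i = p := hi.trans (CochainComplex.prev_nat_succ p)
      refine (R.extMk_eq_zero_iff _ _ rfl ((hcyc x).1 hx) i rfl).trans ⟨?_, ?_⟩
      · rintro ⟨g, hg⟩
        refine ⟨g, Subtype.ext ?_⟩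
        exact (col_d (dbl K R) 0 i g).trans hg
      · rintro ⟨c, hc⟩
        exact ⟨c, (col_d (dbl K R) 0 i c).symm.trans (congrArg Subtype.val hc)⟩
  exact ⟨(col (dbl K R) 0).homologyIsoSc' i n (n + 1) hi.symm (by simp) ≪≫ S.abHomologyIso ≪≫
    AddEquiv.toAddCommGrpIso (X := AddCommGrpCat.of _) (Y := AddCommGrpCat.of _)
      ((QuotientAddGroup.quotientAddEquivOfEq hkφ.symm).trans
        (QuotientAddGroup.quotientKerEquivOfSurjective φ hsφ))⟩

section Page

open Groth.Agent.SiteCoh

/-- The class of a vertical cycle at a point. -/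
theorem exists_cycle_at {p q : ℕ} (x : ((shift (dbl K R)).v p q).ker) {U : C}
    (s : Pt U (K.obj (op (SimplexCategory.mk p)))) :
    ∃ z : (cyclesP (𝟭 C) R q).obj (op U),
      (kernel.ι ((resPsh (𝟭 C) R).d q (q + 1))).app (op U) z =
        val (F := (R.cocomplex.X q).obj) (K := K.obj (op (SimplexCategory.mk p))) x.1 s := by
  refine exists_cycle (𝟭 C) R q (op U) _ ?_
  show (R.cocomplex.d q (q + 1)).hom.app (op U) _ = 0
  rw [← val_mapEv]
  refine (congrArg (fun y => val (K := K.obj (op (SimplexCategory.mk p))) y s) x.2).trans ?_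
  exact val_zero _

/-- The presheaf of cohomology. -/
abbrev hP (F : Sheaf J AddCommGrpCat.{u}) (q : ℕ) : Cᵒᵖ ⥤ AddCommGrpCat.{u} := Sheaf.cohomologyPresheaf F q

/-- The map of cycles to cohomology classes. -/
def pageMapFun (q p : ℕ) (x : ((shift (dbl K R)).v p q).ker) :
    ev (hP F q) (K.obj (op (SimplexCategory.mk p))) :=
  evMk fun i => (toCohP (𝟭 C) R q).app (op _) (exists_cycle_at K R x (pt i (𝟙 _))).choose

theorem val_pageMapFun (q p : ℕ) (x : ((shift (dbl K R)).v p q).ker) {U : C}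
    (s : Pt U (K.obj (op (SimplexCategory.mk p)))) (z : (cyclesP (𝟭 C) R q).obj (op U))
    (hz : (kernel.ι ((resPsh (𝟭 C) R).d q (q + 1))).app (op U) z =
      val (F := (R.cocomplex.X q).obj) (K := K.obj (op (SimplexCategory.mk p))) x.1 s) :
    val (pageMapFun K R q p x) s = (toCohP (𝟭 C) R q).app (op U) z := by
  obtain ⟨i, a, rfl⟩ := exists_pt s
  rw [pageMapFun, val_evMk]
  refine (NatTrans.naturality_apply (toCohP (𝟭 C) R q) a.op _).symm.trans (congrArg _ ?_)
  refine cycle_injective (𝟭 C) R q (op U) ?_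
  refine (NatTrans.naturality_apply (kernel.ι ((resPsh (𝟭 C) R).d q (q + 1))) a.op _).trans ?_
  rw [(exists_cycle_at K R x (pt i (𝟙 _))).choose_spec, hz]
  show (R.cocomplex.X q).obj.map a.op _ = _
  rw [← val_res, res_pt, Category.comp_id]

/-- The map of cycles to cohomology classes, additive. -/
def pageMap (q p : ℕ) :
    ((shift (dbl K R)).v p q).ker →+ (Hyper.cechCxSite K (hP F q)).X p :=
  AddMonoidHom.mk' (pageMapFun K R q p) fun a b => ev_ext (K := K.obj (op (SimplexCategory.mk p))) fun i => by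
    obtain ⟨za, ha⟩ := exists_cycle_at K R a (pt i (𝟙 _))
    obtain ⟨zb, hb⟩ := exists_cycle_at K R b (pt i (𝟙 _))
    refine Eq.trans ?_ (val_add (L := K.obj (op (SimplexCategory.mk p))) _ _ _).symm
    rw [val_pageMapFun K R q p a _ za ha, val_pageMapFun K R q p b _ zb hb]
    refine (val_pageMapFun K R q p (a + b) _ (za + zb) ?_).trans (map_add _ _ _)
    rw [map_add, ha, hb]
    exact (val_add (L := K.obj (op (SimplexCategory.mk p))) _ _ _).symm

theorem surjective_pageMap (q p : ℕ) : Function.Surjective (pageMap K R q p) := fun y => by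
  choose z hz using fun i : (K.obj (op (SimplexCategory.mk p))).I =>
    surjective_toCohP (𝟭 C) R q (op ((K.obj (op (SimplexCategory.mk p))).obj i))
      (val (F := hP F q) (K := K.obj (op (SimplexCategory.mk p))) y (pt i (𝟙 _)))
  let x : ev (R.cocomplex.X q).obj (K.obj (op (SimplexCategory.mk p))) :=
    evMk fun i => (kernel.ι ((resPsh (𝟭 C) R).d q (q + 1))).app (op _) (z i)
  have hx : (shift (dbl K R)).v p q x = 0 := by
    refine ev_ext (K := K.obj (op (SimplexCategory.mk p))) fun i => ?_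
    refine (val_mapEv (R.cocomplex.d q (q + 1)).hom x _).trans ?_
    rw [val_evMk, op_id, CategoryTheory.Functor.map_id]
    exact (cycle_cond (𝟭 C) R q (op _) (z i)).trans (val_zero _).symm
  refine ⟨⟨x, hx⟩, ev_ext (K := K.obj (op (SimplexCategory.mk p))) fun i => ?_⟩
  refine (val_pageMapFun K R q p ⟨x, hx⟩ _ (z i) ?_).trans (hz i)
  rw [val_evMk, op_id, CategoryTheory.Functor.map_id]
  rfl

theorem pageMap_eq_zero_iff (q p : ℕ) (x : ((shift (dbl K R)).v p q).ker) :
    pageMap K R q p x = 0 ↔ x.1 ∈ vIm (shift (dbl K R)) p q := by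
  choose z hz using fun i : (K.obj (op (SimplexCategory.mk p))).I => exists_cycle_at K R x (pt i (𝟙 _))
  have h0 : pageMap K R q p x = 0 ↔ ∀ i, (toCohP (𝟭 C) R q).app (op _) (z i) = 0 := by
    constructor
    · intro h i
      rw [← val_pageMapFun K R q p x _ (z i) (hz i)]
      exact (congrArg (fun y => val (K := K.obj (op (SimplexCategory.mk p))) y _) h).trans (val_zero _)
    · intro h
      refine ev_ext (K := K.obj (op (SimplexCategory.mk p))) fun i => ?_
      refine (val_pageMapFun K R q p x _ (z i) (hz i)).trans ((h i).trans (val_zero _).symm)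
  rw [h0]
  cases q with
  | zero =>
    show _ ↔ x.1 = 0
    constructor
    · intro h
      refine ev_ext (K := K.obj (op (SimplexCategory.mk p))) fun i => ?_
      rw [← hz i, toCohP_injective_zero (𝟭 C) R (op _) ((h i).trans (map_zero _).symm), map_zero]
      exact (val_zero _).symm
    · intro h i
      have h1 : z i = 0 := cycle_injective (𝟭 C) R 0 (op _) ((hz i).trans (by
        rw [h, map_zero]
        exact val_zero _))
      rw [h1, map_zero]
  | succ q =>
    constructor
    · intro h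
      choose y hy using fun i => (toCohP_eq_zero_iff_succ (𝟭 C) R q (op _) (z i)).1 (h i)
      refine ⟨evMk (F := (R.cocomplex.X q).obj) (L := K.obj (op (SimplexCategory.mk p))) y,
        ev_ext (K := K.obj (op (SimplexCategory.mk p))) fun i => ?_⟩
      refine (val_mapEv (R.cocomplex.d q (q + 1)).hom _ _).trans ?_
      rw [val_evMk, op_id, CategoryTheory.Functor.map_id, ← hz i]
      exact hy i
    · rintro ⟨y, hy⟩ i
      refine (toCohP_eq_zero_iff_succ (𝟭 C) R q (op _) (z i)).2
        ⟨val (F := (R.cocomplex.X q).obj) (K := K.obj (op (SimplexCategory.mk p))) y (pt i (𝟙 _)), ?_⟩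
      rw [hz i, ← hy]
      exact (val_mapEv (R.cocomplex.d q (q + 1)).hom y _).symm

theorem pageMap_d (q p : ℕ) (x : ((shift (dbl K R)).v p q).ker)
    (hx : (shift (dbl K R)).h p q x.1 ∈ ((shift (dbl K R)).v (p + 1) q).ker) :
    pageMap K R q (p + 1) ⟨(shift (dbl K R)).h p q x.1, hx⟩ =
      (Hyper.cechCxSite K (hP F q)).d p (p + 1) (pageMap K R q p x) := by
  refine ev_ext (K := K.obj (op (SimplexCategory.mk (p + 1)))) fun i => ?_
  choose z hz using fun k : Fin (p + 2) => exists_cycle_at K R x (pt i (𝟙 _) ≫ K.δ k)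
  rw [cech_d_val]
  refine (val_pageMapFun K R q (p + 1) _ _ (∑ k : Fin (p + 2), (-1 : ℤ) ^ (k : ℕ) • z k) ?_).trans ?_
  · rw [map_sum]
    have e : (shift (dbl K R)).h p q x.1 = (Hyper.cechCxSite K (R.cocomplex.X q).obj).d p (p + 1) x.1 :=
      neg_neg _
    refine Eq.trans ?_ ((congrArg (fun y => val (K := K.obj (op (SimplexCategory.mk (p + 1)))) y _) e).trans
      (cech_d_val K (R.cocomplex.X q).obj p x.1 _)).symm
    refine Finset.sum_congr rfl fun k _ => ?_
    rw [map_zsmul, hz k]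
  · rw [map_sum]
    refine Finset.sum_congr rfl fun k _ => ?_
    rw [map_zsmul]
    exact congrArg _ (val_pageMapFun K R q p x _ (z k) (hz k)).symm

end Page

theorem exists_spectralSequence (J : GrothendieckTopology C) (K : SimplicialObject (FormalCoproduct.{u} C))
    [∀ (n : ℕ) (F : (SimplexCategory.Truncated n)ᵒᵖ ⥤ FormalCoproduct.{u} C),
      (SimplexCategory.Truncated.inclusion n).op.HasRightKanExtension F]
    (hK : Hyper.IsHypercoveringSite J K) (F : Sheaf J AddCommGrpCat.{u}) :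
    ∃ (E : E₂CohomologicalSpectralSequence AddCommGrpCat.{u})
      (a : SpSeq.Abutment E (fun n : ℤ => if 0 ≤ n then AddCommGrpCat.of (Sheaf.H F n.toNat)
        else AddCommGrpCat.of PUnit.{u + 1})),
      (∀ n, a.IsFinite n) ∧ SpSeq.IsBounded E ∧
      ∀ p q : ℤ, Nonempty ((E.page 2 le_rfl).X (p, q) ≅
        (if 0 ≤ p ∧ 0 ≤ q then (Hyper.cechCxSite K (Sheaf.cohomologyPresheaf F q.toNat)).homology p.toNat
         else AddCommGrpCat.of PUnit.{u + 1})) := by
  let R := injectiveResolution F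
  have h01 := isZeroOneCover_of_site J K hK
  have hS := isLocContr_of_site K J hK
  obtain ⟨E, a, ha, hb, hz, hE⟩ := exists_ss_two (shift (dbl K R))
    (fun n : ℤ => if 0 ≤ n then AddCommGrpCat.of (Sheaf.H F n.toNat) else AddCommGrpCat.of PUnit.{u + 1})
    (fun n => by
      by_cases hn : 0 ≤ n
      · obtain ⟨k, rfl⟩ := Int.eq_ofNat_of_zero_le hn
        obtain ⟨e⟩ := nonempty_homology_col_iso (dbl K R) (totExact_dbl K R h01 hS) k
        obtain ⟨e'⟩ := nonempty_col_homology_iso K R k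
        exact ⟨e.symm ≪≫ e' ≪≫ eqToIso (by rw [if_pos hn]; rfl)⟩
      · haveI : IsEmpty (Idx n) := ⟨fun i => hn (by have := i.2; omega)⟩
        haveI : Subsingleton ((Tot (shift (dbl K R))).X n) :=
          inferInstanceAs (Subsingleton (∀ i : Idx n, (shift (dbl K R)).X i.1.1 i.1.2))
        refine ⟨IsZero.iso ?_ ?_⟩
        · exact ShortComplex.isZero_homology_of_isZero_X₂ _
            (AddCommGrpCat.isZero_of_subsingleton ((Tot (shift (dbl K R))).X n))
        · rw [if_neg hn]
          exact AddCommGrpCat.isZero_of_subsingleton _)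
    (fun q => Hyper.cechCxSite K (hP F q)) (pageMap K R) (surjective_pageMap K R)
    (pageMap_eq_zero_iff K R) (pageMap_d K R)
  refine ⟨E, a, ha, hb, fun p q => ?_⟩
  by_cases h : 0 ≤ p ∧ 0 ≤ q
  · obtain ⟨p', rfl⟩ := Int.eq_ofNat_of_zero_le h.1
    obtain ⟨q', rfl⟩ := Int.eq_ofNat_of_zero_le h.2
    obtain ⟨e⟩ := hE p' q'
    exact ⟨e ≪≫ eqToIso (by rw [if_pos h]; rfl)⟩
  · refine ⟨IsZero.iso (hz p q (by omega)) ?_⟩
    rw [if_neg h]
    exact AddCommGrpCat.isZero_of_subsingleton _

end Groth.Agent.HyperH28
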