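import Groth.Agent.Lib.HyperH28.Attach
import Mathlib.CategoryTheory.Functor.OfSequence
import Mathlib.Data.Finite.Sum
import Mathlib.Data.Finite.Prod
import Mathlib.Data.Finite.Sigma

/-!
# Hypercoverings by cell attachment
-/

set_option autoImplicit false
set_option backward.isDefEq.respectTransparency false
set_option backward.isDefEq.respectTransparency.types false

universe u

open CategoryTheory CategoryTheory.Limits Opposite

noncomputable section

namespace Groth.Agent.HyperH28

variable {C : Type u} [SmallCategory C] (Y₀ : FormalCoproduct.{u} C)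
  (cells : ∀ (n : ℕ) (K : SimplicialObject (FormalCoproduct.{u} C)), Cells K n)

/-- The stages. -/
def stage : ℕ → SimplicialObject (FormalCoproduct.{u} C)
  | 0 => (Functor.const SimplexCategoryᵒᵖ).obj Y₀
  | n + 1 => attach (cells n (stage n))

/-- The tower. -/
def tower : ℕ ⥤ SimplicialObject (FormalCoproduct.{u} C) :=
  Functor.ofSequence (X := stage Y₀ cells) fun n => toAttach (cells n (stage Y₀ cells n))

/-- The transition maps. -/
abbrev up {a b : ℕ} (h : a ≤ b) (l : ℕ) :
    (stage Y₀ cells a).obj (op (SimplexCategory.mk l)) ⟶ (stage Y₀ cells b).obj (op (SimplexCategory.mk l)) :=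
  ((tower Y₀ cells).map (homOfLE h)).app (op (SimplexCategory.mk l))

theorem up_trans {a b c : ℕ} (h : a ≤ b) (h' : b ≤ c) (l : ℕ) :
    up Y₀ cells h l ≫ up Y₀ cells h' l = up Y₀ cells (h.trans h') l := by
  rw [up, up, up, ← NatTrans.comp_app, ← Functor.map_comp, homOfLE_comp]

theorem up_self (a l : ℕ) : up Y₀ cells (le_refl a) l = 𝟙 _ := by
  exact NatTrans.congr_app ((tower Y₀ cells).map_id a) _

theorem up_succ (n l : ℕ) : up Y₀ cells (Nat.le_add_right n 1) l = attInl (cells n (stage Y₀ cells n)) _ := by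
  exact NatTrans.congr_app (Functor.ofSequence_map_homOfLE_succ
    (fun n => toAttach (cells n (stage Y₀ cells n))) n) _

theorem isIso_up {a b : ℕ} (h : a ≤ b) {l : ℕ} (hl : l ≤ a) : IsIso (up Y₀ cells h l) := by
  induction b, h using Nat.le_induction with
  | base => rw [up_self]; infer_instance
  | succ b h ih =>
    rw [← up_trans Y₀ cells h (Nat.le_add_right b 1), up_succ]
    haveI := ih
    haveI := isIso_attInl (cells b (stage Y₀ cells b)) l (hl.trans h)
    exact IsIso.comp_isIso

theorem up_naturality {a b : ℕ} (h : a ≤ b) {l l' : ℕ} (f : SimplexCategory.mk l' ⟶ SimplexCategory.mk l) :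
    (stage Y₀ cells a).map f.op ≫ up Y₀ cells h l' = up Y₀ cells h l ≫ (stage Y₀ cells b).map f.op :=
  ((tower Y₀ cells).map (homOfLE h)).naturality f.op

/-- Structure maps of the limit, computed in a later stage. -/
def limMapAt (M : ℕ) {a b : ℕ} (ha : a ≤ M) (hb : b ≤ M) (f : SimplexCategory.mk b ⟶ SimplexCategory.mk a) :
    (stage Y₀ cells a).obj (op (SimplexCategory.mk a)) ⟶ (stage Y₀ cells b).obj (op (SimplexCategory.mk b)) :=
  haveI := isIso_up Y₀ cells hb (le_refl b)
  up Y₀ cells ha a ≫ (stage Y₀ cells M).map f.op ≫ inv (up Y₀ cells hb b)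

theorem limMapAt_comp_up (M : ℕ) {a b : ℕ} (ha : a ≤ M) (hb : b ≤ M) (f : SimplexCategory.mk b ⟶ SimplexCategory.mk a) :
    limMapAt Y₀ cells M ha hb f ≫ up Y₀ cells hb b = up Y₀ cells ha a ≫ (stage Y₀ cells M).map f.op := by
  haveI := isIso_up Y₀ cells hb (le_refl b)
  simp [limMapAt]

theorem limMapAt_le {M N : ℕ} (h : M ≤ N) {a b : ℕ} (ha : a ≤ M) (hb : b ≤ M)
    (f : SimplexCategory.mk b ⟶ SimplexCategory.mk a) :
    limMapAt Y₀ cells M ha hb f = limMapAt Y₀ cells N (ha.trans h) (hb.trans h) f := by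
  haveI := isIso_up Y₀ cells (hb.trans h) (le_refl b)
  rw [← cancel_mono (up Y₀ cells (hb.trans h) b), limMapAt_comp_up, ← up_trans Y₀ cells hb h,
    ← Category.assoc, limMapAt_comp_up, Category.assoc, up_naturality, ← Category.assoc, up_trans]

theorem limMapAt_eq (M : ℕ) {a b : ℕ} (ha : a ≤ M) (hb : b ≤ M)
    (f : SimplexCategory.mk b ⟶ SimplexCategory.mk a) :
    limMapAt Y₀ cells (max a b) (le_max_left a b) (le_max_right a b) f = limMapAt Y₀ cells M ha hb f :=
  limMapAt_le Y₀ cells (max_le ha hb) _ _ f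

/-- The simplicial object obtained. -/
def hyp : SimplicialObject (FormalCoproduct.{u} C) where
  obj m := (stage Y₀ cells m.unop.len).obj (op (SimplexCategory.mk m.unop.len))
  map {m m'} f := limMapAt Y₀ cells (max m.unop.len m'.unop.len) (le_max_left _ _) (le_max_right _ _) f.unop
  map_id m := by
    obtain ⟨⟨m⟩⟩ := m
    refine (limMapAt_eq Y₀ cells m (le_refl m) (le_refl m) _).trans ?_
    haveI := isIso_up Y₀ cells (le_refl m) (le_refl m)
    rw [← cancel_mono (up Y₀ cells (le_refl m) m), limMapAt_comp_up, up_self]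
    show 𝟙 _ ≫ (stage Y₀ cells m).map (𝟙 _) = _
    rw [CategoryTheory.Functor.map_id]
  map_comp {m m' m''} f g := by
    obtain ⟨⟨m⟩⟩ := m
    obtain ⟨⟨m'⟩⟩ := m'
    obtain ⟨⟨m''⟩⟩ := m''
    have h1 : m ≤ max m (max m' m'') := le_max_left _ _
    have h2 : m' ≤ max m (max m' m'') := (le_max_left _ _).trans (le_max_right _ _)
    have h3 : m'' ≤ max m (max m' m'') := (le_max_right _ _).trans (le_max_right _ _)
    simp only [SimplexCategory.len_mk]
    rw [limMapAt_eq Y₀ cells _ h1 h3, limMapAt_eq Y₀ cells _ h1 h2, limMapAt_eq Y₀ cells _ h2 h3]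
    haveI := isIso_up Y₀ cells h3 (le_refl m'')
    rw [← cancel_mono (up Y₀ cells h3 m''), Category.assoc, limMapAt_comp_up, limMapAt_comp_up, ← Category.assoc,
      limMapAt_comp_up, Category.assoc, ← Functor.map_comp]
    rfl

theorem fills_hyp (J : GrothendieckTopology C)
    (h0 : ∀ U : C, ∃ T : Sieve U, T ∈ J U ∧ ∀ ⦃V : C⦄ (g : V ⟶ U), T g → Nonempty (Pt V Y₀))
    (h : ∀ (n : ℕ) (K : SimplicialObject (FormalCoproduct.{u} C)) (U : C)
      (y : Fin (n + 2) → Pt U (K.obj (op (SimplexCategory.mk n)))), Compat K y →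
      ∃ T : Sieve U, T ∈ J U ∧ ∀ ⦃V : C⦄ (g : V ⟶ U), T g →
        ∃ t : Pt V (cells n K).Y, ∀ j, res (t.φ PUnit.unit) ((cells n K).z (t.f PUnit.unit) j) = res g (y j)) :
    Fills J (hyp Y₀ cells) := by
  refine ⟨h0, fun n U y hy => ?_⟩
  have hy' : Compat (stage Y₀ cells n) (U := U) y := compat_of_small _ fun l hl j k a b hab => by
    haveI := isIso_up Y₀ cells hl (le_refl l)
    have key : ∀ (j : Fin (n + 2)) (a : SimplexCategory.mk l ⟶ SimplexCategory.mk n),
        (y j ≫ (hyp Y₀ cells).map a.op) ≫ up Y₀ cells hl l = y j ≫ (stage Y₀ cells n).map a.op := by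
      intro j a
      have e : (hyp Y₀ cells).map a.op = limMapAt Y₀ cells n (le_refl n) hl a :=
        limMapAt_eq Y₀ cells n (le_refl n) hl a
      rw [Category.assoc]
      refine congrArg _ ?_
      rw [e, limMapAt_comp_up, up_self]
      exact Category.id_comp _
    rw [← key j a, ← key k b, hy l j k a b hab]
  obtain ⟨T, hT, hT'⟩ := h n (stage Y₀ cells n) U y hy'
  refine ⟨T, hT, fun V g hg => ?_⟩
  obtain ⟨t, ht⟩ := hT' g hg
  obtain ⟨e, he⟩ := exists_attach_filler (cells n (stage Y₀ cells n)) t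
  refine ⟨e, fun j => ?_⟩
  haveI := isIso_up Y₀ cells (Nat.le_add_right n 1) (le_refl n)
  rw [← cancel_mono (up Y₀ cells (Nat.le_add_right n 1) n)]
  have hδ : (hyp Y₀ cells).δ j = limMapAt Y₀ cells (n + 1) (le_refl _) (Nat.le_add_right n 1) (SimplexCategory.δ j) :=
    limMapAt_eq Y₀ cells (n + 1) (le_refl _) (Nat.le_add_right n 1) (SimplexCategory.δ j)
  rw [Category.assoc, hδ, limMapAt_comp_up, up_self, up_succ, ← ht j]
  exact (congrArg (e ≫ ·) (Category.id_comp _)).trans (he j)

theorem hyp_prop (P : C → Prop) (h0 : ∀ i, P (Y₀.obj i)) (h : ∀ n K k, P ((cells n K).Y.obj k))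
    (n : ℕ) (i : ((hyp Y₀ cells).obj (op (SimplexCategory.mk n))).I) :
    P (((hyp Y₀ cells).obj (op (SimplexCategory.mk n))).obj i) := by
  have key : ∀ (a : ℕ) (m : SimplexCategoryᵒᵖ) (i : ((stage Y₀ cells a).obj m).I),
      P (((stage Y₀ cells a).obj m).obj i) := by
    intro a
    induction a with
    | zero => exact fun m i => h0 i
    | succ a ih =>
      intro m i
      rcases i with i | ⟨_, k⟩
      · exact ih m i
      · exact h a _ k
  exact key n _ i

theorem hyp_finite (h0 : Finite Y₀.I)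
    (h : ∀ n (K : SimplicialObject (FormalCoproduct.{u} C)), (∀ m, Finite (K.obj m).I) → Finite (cells n K).Y.I)
    (n : ℕ) : Finite ((hyp Y₀ cells).obj (op (SimplexCategory.mk n))).I := by
  have key : ∀ (a : ℕ) (m : SimplexCategoryᵒᵖ), Finite ((stage Y₀ cells a).obj m).I := by
    intro a
    induction a with
    | zero => exact fun m => h0
    | succ a ih =>
      intro m
      haveI := ih m
      haveI := h a _ ih
      haveI : Finite (m.unop ⟶ SimplexCategory.mk (a + 1)) := Finite.of_injective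
        (fun g => (g.toOrderHom : Fin (m.unop.len + 1) → Fin ((SimplexCategory.mk (a + 1)).len + 1)))
        fun g g' h => SimplexCategory.Hom.ext _ _ (OrderHom.ext _ _ h)
      haveI : Finite {σ : m.unop ⟶ SimplexCategory.mk (a + 1) // Epi σ} := Subtype.finite
      show Finite (((stage Y₀ cells a).obj m).I ⊕ ({σ : m.unop ⟶ SimplexCategory.mk (a + 1) // Epi σ} × (cells a (stage Y₀ cells a)).Y.I))
      infer_instance
  exact key n _

end Groth.Agent.HyperH28
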